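import Groth.Agent.Mod48.ClosedImmImage
import Groth.Agent.FCompl13.GoodSec
import Groth.Prelude.Def_FTors3

/-!
Torsion sections on a formal scheme over a scheme `Y` and power-torsion sections on `Y`.
-/

set_option autoImplicit false
set_option backward.isDefEq.respectTransparency.types false
set_option backward.isDefEq.respectTransparency false

noncomputable section

universe u

open CategoryTheory CategoryTheory.Limits AlgebraicGeometry TopologicalSpace Opposite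

namespace Groth.Agent.FTors27

open Mod48 Mod48.ClosedImm SiteMod

variable {𝔛 : FSch.Sys.{u}} (h : 𝔛.IsFormal) {Y : Scheme.{u}} (p : ∀ n, 𝔛.X n ⟶ Y)
  (hp : ∀ n, 𝔛.ι n ≫ p (n + 1) = p n) [∀ n, IsClosedImmersion (p n)]
  (I : Y.IdealSheafData) (hker : ∀ n, (p n).ker = I ^ (n + 1))

/-- The map of spaces. -/
abbrev pb : TopCat.of (𝔛.X 0) ⟶ TopCat.of Y := (p 0).base

include hp in
omit [∀ n, IsClosedImmersion (p n)] in
theorem sg_res {U V : Y.Opens} (hV : V ≤ U) (b : Γ(Y, U)) :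
    FCompl13.sg h p hp V (Y.presheaf.map (homOfLE hV).op b) =
      FBlow13.res 𝔛 h (map_le (pb p) hV) (FCompl13.sg h p hp U b) :=
  congr($((FSch.schSharp 𝔛 h p hp).hom.naturality (homOfLE hV).op) b)

/-- The value at level `n` of a function on `U`. -/
abbrev crn (n : ℕ) (U : Y.Opens) (b : Γ(Y, U)) : Γ(𝔛.X n, 𝔛.lvU h n (p 0 ⁻¹ᵁ U)) :=
  FBlow13.proj 𝔛 h (p 0 ⁻¹ᵁ U) n (FCompl13.sg h p hp U b)

omit [∀ n, IsClosedImmersion (p n)] in
theorem crn_res (n : ℕ) {U V : Y.Opens} (hV : V ≤ U) (b : Γ(Y, U)) :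
    crn h p hp n V (Y.presheaf.map (homOfLE hV).op b) =
      (𝔛.X n).presheaf.map (homOfLE (FBlow.lvU_mono 𝔛 h n (map_le (pb p) hV))).op (crn h p hp n U b) := by
  unfold crn
  rw [sg_res]
  exact FBlow13.proj_res_apply _ n _

include hker in
theorem crn_eq_zero_iff (n : ℕ) {V : Y.Opens} (hV : IsAffineOpen V) (b : Γ(Y, V)) :
    crn h p hp n V b = 0 ↔ b ∈ I.ideal ⟨V, hV⟩ ^ (n + 1) := by
  rw [← FCompl13.ker_appLE_p h p hp hV I hker n, RingHom.mem_ker]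
  unfold crn
  rw [FCompl13.proj_sg]

include hker in
theorem mem_powIdeal_of_crn_eq_zero (n : ℕ) {U : Y.Opens} (b : Γ(Y, U)) (hb : crn h p hp n U b = 0) :
    b ∈ (FTors.powIdealFam Y I).ideal (n + 1) U := by
  rw [FTors.mem_powIdealFam_iff]
  intro W hW
  refine (crn_eq_zero_iff h p hp I hker n W.2 _).1 ?_
  refine (crn_res h p hp n hW b).trans ?_
  rw [hb]
  exact map_zero _

omit [∀ n, IsClosedImmersion (p n)] in
theorem crn_eq_of_le {k n : ℕ} (hkn : k ≤ n) {U : Y.Opens} (b : Γ(Y, U))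
    (a : FBlow13.Sec 𝔛 h (p 0 ⁻¹ᵁ U)) (e : crn h p hp n U b = FBlow13.proj 𝔛 h (p 0 ⁻¹ᵁ U) n a) :
    crn h p hp k U b = FBlow13.proj 𝔛 h (p 0 ⁻¹ᵁ U) k a := by
  induction n, hkn using Nat.le_induction with
  | base => exact e
  | succ m hm ih =>
    refine ih ((FBlow13.proj_succ_apply _ m _).symm.trans ?_)
    exact (congrArg _ e).trans (FBlow13.proj_succ_apply _ m _)

include hker in
/-- Functions on the level lift locally. -/
theorem exists_lift (n : ℕ) {U : Y.Opens} (a : FBlow13.Sec 𝔛 h (p 0 ⁻¹ᵁ U)) {y : Y} (hy : y ∈ U) :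
    ∃ (V : Y.Opens) (_ : IsAffineOpen V) (hV : V ≤ U), y ∈ V ∧ ∃ b : Γ(Y, V),
      crn h p hp n V b = FBlow13.proj 𝔛 h (p 0 ⁻¹ᵁ V) n (FBlow13.res 𝔛 h (map_le (pb p) hV) a) := by
  obtain ⟨V, hVa, hyV, hsub⟩ := exists_isAffineOpen_mem_and_subset (x := y) (U := U) hy
  have hV : V ≤ U := hsub
  refine ⟨V, hVa, hV, hyV, ?_⟩
  obtain ⟨q, hq⟩ := (FCompl13.truncSec_bijective h p hp hVa I hker n).2
    (FBlow13.proj 𝔛 h (p 0 ⁻¹ᵁ V) n (FBlow13.res 𝔛 h (map_le (pb p) hV) a))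
  obtain ⟨b, rfl⟩ := Ideal.Quotient.mk_surjective q
  exact ⟨b, (FCompl13.proj_sg h p hp n b).trans hq⟩

include hker in
/-- The kernel of the projection to a level is generated by the power of the ideal. -/
theorem mem_map_of_proj_eq_zero [IsLocallyNoetherian Y] (n : ℕ) {V : Y.Opens} (hV : IsAffineOpen V)
    {a : FBlow13.Sec 𝔛 h (p 0 ⁻¹ᵁ V)} (ha : FBlow13.proj 𝔛 h (p 0 ⁻¹ᵁ V) n a = 0) :
    a ∈ (I.ideal ⟨V, hV⟩ ^ (n + 1)).map (FCompl13.sg h p hp V) := by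
  haveI := IsLocallyNoetherian.component_noetherian ⟨V, hV⟩
  have hfg : (I.ideal ⟨V, hV⟩).FG := IsNoetherian.noetherian _
  have hcomp : (FCompl13.complSec h p hp hV I hker).comp
      (algebraMap Γ(Y, V) (AdicCompletion (I.ideal ⟨V, hV⟩) Γ(Y, V))) = FCompl13.sg h p hp V := by
    refine RingHom.ext fun b => FBlow13.sec_ext fun m => ?_
    refine (FCompl13.proj_complSec h p hp hV I hker m _).trans ?_
    refine Eq.trans ?_ (FCompl13.proj_sg h p hp m b).symm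
    exact congrArg (FCompl13.truncSec h p hp hV I hker m) (AdicCompletion.evalₐ_of _ _ _)
  rw [← hcomp, ← Ideal.map_map, Ideal.map_pow, Ideal.map_pow, ← FCompl13.ker_proj_complSec h p hp hV I hker hfg n]
  exact ha

/-- Power torsion on `Y`, killing at a fixed level. -/
abbrev Kz (n : ℕ) (N : ModSite.Mod Y.sheaf) {U : Y.Opens} (s : (pre N).obj (op U)) : Prop :=
  FTors.KilledBy (FTors.powIdealFam Y I) N (n + 1) s

/-- Torsion on the formal scheme, killing at a fixed level. -/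
abbrev Kt (n : ℕ) (M : FSch.ModF 𝔛 h) {W : Opens (TopCat.of (𝔛.X 0))} (s : (pre M).obj (op W)) : Prop :=
  FTors.KilledBy (FTors.openIdealFam 𝔛 h) M n s

variable {h}

omit [∀ n, IsClosedImmersion (p n)] in
theorem smul_eq_zero_of_kz {n : ℕ} {N : ModSite.Mod Y.sheaf} {U : Y.Opens} {s : (pre N).obj (op U)}
    (hs : Kz I n N s) {a : Γ(Y, U)} (ha : a ∈ (FTors.powIdealFam Y I).ideal (n + 1) U) : a • s = 0 := by
  have h := hs (𝟙 U) a ha
  rwa [FTors.res_id] at h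

theorem smul_eq_zero_of_kt {n : ℕ} {M : FSch.ModF 𝔛 h} {W : Opens (TopCat.of (𝔛.X 0))}
    {s : (pre M).obj (op W)} (hs : Kt h n M s) {a : FBlow13.Sec 𝔛 h W}
    (ha : FBlow13.proj 𝔛 h W n a = 0) : a • s = 0 := by
  have h' := hs (𝟙 W) a ((FTors.mem_openIdealFam_iff 𝔛 h n W a).2 ha)
  rwa [FTors.res_id] at h'

theorem tors_exists {T : TopCat.{u}} {O : Sheaf (Opens.grothendieckTopology T) CommRingCat.{u}}
    (J : FTors.IdealFam O) {M : ModSite.Mod O} {W : Opens T} {s : (pre M).obj (op W)}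
    (hs : FTors.IsTorsSect J M s) {y : T} (hy : y ∈ W) :
    ∃ (V : Opens T) (hV : V ≤ W) (n : ℕ), y ∈ V ∧ FTors.KilledBy J M n (rs M hV s) := by
  obtain ⟨V, v, ⟨n, hn⟩, hyV⟩ := hs y hy
  exact ⟨V, leOfHom v, n, hyV, hn⟩

theorem isTorsSect_of_locally {T : TopCat.{u}} {O : Sheaf (Opens.grothendieckTopology T) CommRingCat.{u}}
    (J : FTors.IdealFam O) {M : ModSite.Mod O} {W : Opens T} {s : (pre M).obj (op W)}
    (hs : ∀ y ∈ W, ∃ (V : Opens T) (hV : V ≤ W) (n : ℕ), y ∈ V ∧ FTors.KilledBy J M n (rs M hV s)) :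
    FTors.IsTorsSect J M s := fun y hy => by
  obtain ⟨V, hV, n, hyV, hn⟩ := hs y hy
  exact ⟨V, homOfLE hV, ⟨n, hn⟩, hyV⟩

omit [∀ n, IsClosedImmersion (p n)] in
theorem tz_exists {N : ModSite.Mod Y.sheaf} {U : Y.Opens} {s : (pre N).obj (op U)}
    (hs : FTors.IsTorsSect (FTors.powIdealFam Y I) N s) {y : Y} (hy : y ∈ U) :
    ∃ (V : Y.Opens) (hV : V ≤ U) (n : ℕ), y ∈ V ∧ Kz I n N (rs N hV s) := by
  obtain ⟨V, hV, n, hyV, hn⟩ := tors_exists _ hs hy
  exact ⟨V, hV, n, hyV, hn.mono (Nat.le_succ n)⟩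

end Groth.Agent.FTors27
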