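import Groth.Agent.FTors27.Classes
import Mathlib.RingTheory.RingHom.Flat
import Mathlib.RingTheory.Flat.EquationalCriterion
import Mathlib.RingTheory.Noetherian.Basic

/-!
Charts for a decreasing family of ideals: a Noetherian ring of sections over an open and an ideal in
it whose powers are cofinal with the family.
-/

set_option autoImplicit false
set_option backward.isDefEq.respectTransparency.types false

noncomputable section

universe u

open CategoryTheory CategoryTheory.Limits Opposite TopologicalSpace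

namespace Groth.Agent.FTors27

open Mod48 Mod48.ClosedImm SiteMod

variable {T : TopCat.{u}} {O : Sheaf (Opens.grothendieckTopology T) CommRingCat.{u}}

/-- A chart of the family `fam`. -/
structure Chart (fam : FTors.IdealFam O) where
  /-- the open -/
  U : Opens T
  /-- a basis of the opens within `U` -/
  B : Opens T → Prop
  B_le : ∀ V, B V → V ≤ U
  exists_mem : ∀ (W : Opens T), W ≤ U → ∀ x ∈ W, ∃ V, B V ∧ V ≤ W ∧ x ∈ V
  noeth : IsNoetherianRing (O.obj.obj (op U))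
  flat : ∀ V (hV : B V), (rr O (B_le V hV)).Flat
  /-- the ideal -/
  J : Ideal (O.obj.obj (op U))
  le_pow : ∀ V (hV : B V) (n : ℕ), fam.ideal n V ≤ (J ^ n).map (rr O (B_le V hV))
  pow_le : ∀ V (hV : B V) (n : ℕ), (J ^ (n + 1)).map (rr O (B_le V hV)) ≤ fam.ideal n V
  /-- the number of generators -/
  r : ℕ
  /-- the generators -/
  g : Fin r → O.obj.obj (op U)
  span_g : Ideal.span (Set.range g) = J

/-- Annihilators modulo a finitely generated ideal stabilise, uniformly on flat algebras. -/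
theorem exists_colon_bound {A : Type u} [CommRing A] [IsNoetherianRing A] {ι : Type*} [Fintype ι]
    (x : A) (b : ι → A) :
    ∃ e : ℕ, ∀ (S : Type u) [CommRing S] (f : A →+* S), f.Flat → ∀ (n : ℕ) (a : S),
      a * f x ^ (e + n) ∈ Ideal.span (Set.range fun i => f (b i)) →
        a * f x ^ e ∈ Ideal.span (Set.range fun i => f (b i)) := by
  let Q := Ideal.span (Set.range b)
  let colon : ℕ →o Submodule A A :=
    ⟨fun k => Submodule.comap (x ^ k • (LinearMap.id : A →ₗ[A] A)) Q, fun k k' hk a ha => by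
      rw [Submodule.mem_comap, LinearMap.smul_apply, LinearMap.id_apply, smul_eq_mul] at ha ⊢
      rw [← Nat.sub_add_cancel hk, pow_add, mul_assoc]
      exact Q.mul_mem_left _ ha⟩
  obtain ⟨e, he⟩ := monotone_stabilizes_iff_noetherian.2 inferInstance colon
  refine ⟨e, fun S _ f hf n a ha => ?_⟩
  letI : Algebra A S := f.toAlgebra
  haveI : Module.Flat A S := hf
  obtain ⟨c, hc⟩ := (Submodule.mem_span_range_iff_exists_fun S).1 ha
  let co : Option ι → A := fun o => o.elim (x ^ (e + n)) (fun i => - b i)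
  let el : Option ι → S := fun o => o.elim a c
  have hrel : ∑ o, co o • el o = 0 := by
    rw [Fintype.sum_option]
    simp only [co, el, Option.elim, Algebra.smul_def, map_pow, map_neg, neg_mul, Finset.sum_neg_distrib]
    change f x ^ (e + n) * a + - ∑ i, f (b i) * c i = 0
    rw [mul_comm, ← hc, ← sub_eq_add_neg, sub_eq_zero]
    exact Finset.sum_congr rfl fun i _ => mul_comm _ _
  obtain ⟨κ, m, y, hy, hco⟩ := Module.Flat.isTrivialRelation_of_sum_smul_eq_zero hrel
  have key : ∀ t, m none t * x ^ e ∈ Q := by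
    intro t
    have h1 : m none t ∈ colon (e + n) := by
      have h2 := hco t
      rw [Fintype.sum_option] at h2
      change x ^ (e + n) * m none t + ∑ i, -b i * m (some i) t = 0 at h2
      change x ^ (e + n) • m none t ∈ Q
      rw [smul_eq_mul, eq_neg_of_add_eq_zero_left h2]
      refine neg_mem (sum_mem fun i _ => ?_)
      exact Q.mul_mem_right _ (neg_mem (Ideal.subset_span ⟨i, rfl⟩))
    rw [← he (e + n) (Nat.le_add_right _ _)] at h1
    rw [mul_comm]
    exact h1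
  have hQ : Q.map f = Ideal.span (Set.range fun i => f (b i)) := by
    rw [Ideal.map_span, ← Set.range_comp]
    rfl
  have ha' : a = ∑ t, f (m none t) * y t := (hy none).trans (by simp only [Algebra.smul_def]; rfl)
  rw [← hQ, ha', Finset.sum_mul]
  refine sum_mem fun t _ => ?_
  rw [mul_right_comm, ← map_pow, ← map_mul]
  exact Ideal.mul_mem_right _ _ (Ideal.mem_map_of_mem f (key t))

namespace Chart

variable {fam : FTors.IdealFam O} (c : Chart fam)

/-- `g_i^N` kills `s` for `i < k`. -/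
def Kl (k N : ℕ) {M : ModSite.Mod O} {W : Opens T} (hW : W ≤ c.U) (s : (pre M).obj (op W)) : Prop :=
  ∀ i : Fin c.r, (i : ℕ) < k → rr O hW (c.g i) ^ N • s = 0

/-- Locally killed by powers of the first `k` generators. -/
def Tk (k : ℕ) {M : ModSite.Mod O} {W : Opens T} (hW : W ≤ c.U) (s : (pre M).obj (op W)) : Prop :=
  ∀ x ∈ W, ∃ (V : Opens T) (hV : V ≤ W), x ∈ V ∧ ∃ N, c.Kl k N (hV.trans hW) (rs M hV s)

variable {k : ℕ} {M M' : ModSite.Mod O} {W : Opens T} {hW : W ≤ c.U}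

theorem rr_rr {W' : Opens T} (h : W' ≤ W) (a : O.obj.obj (op c.U)) :
    rr O h (rr O hW a) = rr O (h.trans hW) a := rres_rres _ _ a

theorem Kl.res {N : ℕ} {s : (pre M).obj (op W)} (hs : c.Kl k N hW s) {W' : Opens T} (h : W' ≤ W) :
    c.Kl k N (h.trans hW) (rs M h s) := fun i hi => by
  rw [← c.rr_rr (hW := hW) h, ← map_pow, ← rs_smul, hs i hi]
  exact map_zero _

theorem Kl.mono {N N' : ℕ} (hN : N ≤ N') {s : (pre M).obj (op W)} (hs : c.Kl k N hW s) : c.Kl k N' hW s :=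
  fun i hi => by rw [← Nat.sub_add_cancel hN, pow_add, mul_smul, hs i hi, smul_zero]

theorem tk_of_kl {N : ℕ} {s : (pre M).obj (op W)} (hs : c.Kl k N hW s) : c.Tk k hW s := fun _ hx =>
  ⟨W, le_rfl, hx, N, hs.res c le_rfl⟩

theorem Tk.res {s : (pre M).obj (op W)} (hs : c.Tk k hW s) {W' : Opens T} (h : W' ≤ W) :
    c.Tk k (h.trans hW) (rs M h s) := fun x hx => by
  obtain ⟨V, hV, hxV, N, hN⟩ := hs x (h hx)
  refine ⟨V ⊓ W', inf_le_right, ⟨hxV, hx⟩, N, ?_⟩
  have := hN.res c (inf_le_left : V ⊓ W' ≤ V)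
  rw [rs_rs] at this ⊢
  exact this

theorem Tk.add {s t : (pre M).obj (op W)} (hs : c.Tk k hW s) (ht : c.Tk k hW t) : c.Tk k hW (s + t) := by
  intro x hx
  obtain ⟨V, hV, hxV, N, hN⟩ := hs x hx
  obtain ⟨V', hV', hxV', N', hN'⟩ := ht x hx
  refine ⟨V ⊓ V', inf_le_left.trans hV, ⟨hxV, hxV'⟩, max N N', fun i hi => ?_⟩
  have h1 := (hN.res c (inf_le_left : V ⊓ V' ≤ V)).mono c (le_max_left N N') i hi
  have h2 := (hN'.res c (inf_le_right : V ⊓ V' ≤ V')).mono c (le_max_right N N') i hi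
  rw [rs_rs] at h1 h2
  rw [show rs M (inf_le_left.trans hV : V ⊓ V' ≤ W) (s + t) = rs M _ s + rs M _ t from res_add _ _ _ _,
    smul_add, h1, zero_add]
  exact h2

theorem Tk.neg {s : (pre M).obj (op W)} (hs : c.Tk k hW s) : c.Tk k hW (-s) := fun x hx => by
  obtain ⟨V, hV, hxV, N, hN⟩ := hs x hx
  refine ⟨V, hV, hxV, N, fun i hi => ?_⟩
  rw [show rs M hV (-s) = - rs M hV s from map_neg _ _, smul_neg, hN i hi, neg_zero]

theorem Tk.sub {s t : (pre M).obj (op W)} (hs : c.Tk k hW s) (ht : c.Tk k hW t) : c.Tk k hW (s - t) := by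
  rw [sub_eq_add_neg]
  exact hs.add c (ht.neg c)

theorem Tk.smul {s : (pre M).obj (op W)} (hs : c.Tk k hW s) (a : O.obj.obj (op W)) : c.Tk k hW (a • s) :=
  fun x hx => by
    obtain ⟨V, hV, hxV, N, hN⟩ := hs x hx
    exact ⟨V, hV, hxV, N, fun i hi => by rw [rs_smul, smul_comm, hN i hi, smul_zero]⟩

theorem Tk.map (φ : M ⟶ M') {s : (pre M).obj (op W)} (hs : c.Tk k hW s) : c.Tk k hW (ap φ s) :=
  fun x hx => by
    obtain ⟨V, hV, hxV, N, hN⟩ := hs x hx
    refine ⟨V, hV, hxV, N, fun i hi => ?_⟩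
    rw [show rs M' hV (ap φ s) = ap φ (rs M hV s) from res_ap φ (homOfLE hV) s]
    exact ((map_smul _ _ _).symm.trans (congrArg (ap φ) (hN i hi))).trans (map_zero _)

theorem tk_zero_iff (s : (pre M).obj (op W)) : c.Tk 0 hW s :=
  c.tk_of_kl (N := 0) fun _ hi => absurd hi (Nat.not_lt_zero _)

theorem tk_succ {s : (pre M).obj (op W)} (hs : c.Tk k hW s) (hk : k < c.r)
    (hg : ∀ x ∈ W, ∃ (V : Opens T) (hV : V ≤ W), x ∈ V ∧ ∃ N, rr O (hV.trans hW) (c.g ⟨k, hk⟩) ^ N • rs M hV s = 0) :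
    c.Tk (k + 1) hW s := fun x hx => by
  obtain ⟨V, hV, hxV, N, hN⟩ := hs x hx
  obtain ⟨V', hV', hxV', N', hN'⟩ := hg x hx
  refine ⟨V ⊓ V', inf_le_left.trans hV, ⟨hxV, hxV'⟩, max N N', fun i hi => ?_⟩
  rcases Nat.lt_succ_iff_lt_or_eq.1 hi with hlt | heq
  · have h1 := (hN.res c (inf_le_left : V ⊓ V' ≤ V)).mono c (le_max_left N N') i hlt
    rwa [rs_rs] at h1
  · obtain rfl : i = ⟨k, hk⟩ := Fin.ext heq
    have h2 : rr O ((inf_le_right : V ⊓ V' ≤ V').trans (hV'.trans hW)) (c.g ⟨k, hk⟩) ^ N' •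
        rs M (inf_le_right.trans hV' : V ⊓ V' ≤ W) s = 0 := by
      rw [← c.rr_rr (hW := hV'.trans hW) (inf_le_right : V ⊓ V' ≤ V'), ← map_pow,
        ← rs_rs M hV' (inf_le_right : V ⊓ V' ≤ V') s, ← rs_smul, hN']
      exact map_zero _
    rw [← Nat.sub_add_cancel (le_max_right N N'), pow_add, mul_smul]
    exact (congrArg (_ • ·) h2).trans (smul_zero _)

theorem smul_eq_zero_of_mem_span {N : ℕ} {s : (pre M).obj (op W)} (hs : c.Kl k N hW s) (a : O.obj.obj (op W))
    (ha : a ∈ Ideal.span (Set.range fun i : { i : Fin c.r // (i : ℕ) < k } => rr O hW (c.g i.1 ^ N))) :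
    a • s = 0 := by
  refine Submodule.span_induction ?_ (zero_smul _ _) (fun x y _ _ hx hy => by rw [add_smul, hx, hy, add_zero])
    (fun b x _ hx => by rw [smul_eq_mul, mul_smul, hx, smul_zero]) ha
  rintro _ ⟨i, rfl⟩
  show rr O hW (c.g i.1 ^ N) • s = 0
  rw [map_pow]
  exact hs i.1 i.2

theorem tk_of_isTorsSect {s : (pre M).obj (op W)} (hs : FTors.IsTorsSect fam M s) : c.Tk k hW s := by
  intro x hx
  obtain ⟨V₀, v₀, ⟨n, hn⟩, hxV₀⟩ := hs x hx
  obtain ⟨V, hB, hle, hxV⟩ := c.exists_mem V₀ ((leOfHom v₀).trans hW) x hxV₀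
  refine ⟨V, hle.trans (leOfHom v₀), hxV, n + 1, fun i _ => ?_⟩
  have hmem : rr O (c.B_le V hB) (c.g i) ^ (n + 1) ∈ fam.ideal n V := by
    rw [← map_pow]
    refine c.pow_le V hB n (Ideal.mem_map_of_mem _ (Ideal.pow_mem_pow ?_ _))
    rw [← c.span_g]
    exact Ideal.subset_span ⟨i, rfl⟩
  have h := hn (homOfLE hle) _ hmem
  rwa [show FTors.res M (homOfLE hle) (FTors.res M v₀ s) = rs M (hle.trans (leOfHom v₀)) s from
    rs_rs M (leOfHom v₀) hle s] at h

theorem isTorsSect_of_tk {s : (pre M).obj (op W)} (hs : c.Tk c.r hW s) : FTors.IsTorsSect fam M s := by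
  intro x hx
  obtain ⟨V₀, hV₀, hxV₀, N, hN⟩ := hs x hx
  haveI := c.noeth
  have hrad : c.J ≤ (Ideal.span (Set.range fun i => c.g i ^ N)).radical := by
    conv_lhs => rw [← c.span_g]
    refine Ideal.span_le.2 ?_
    rintro _ ⟨i, rfl⟩
    exact ⟨N, Ideal.subset_span ⟨i, rfl⟩⟩
  obtain ⟨n, hn⟩ := Ideal.exists_pow_le_of_le_radical_of_fg hrad (IsNoetherian.noetherian c.J)
  refine ⟨V₀, homOfLE hV₀, ⟨n, fun W' v a ha => ?_⟩, hxV₀⟩
  refine ext_cover (G := M) fun y hy => ?_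
  obtain ⟨V, hB, hle, hyV⟩ := c.exists_mem W' ((leOfHom v).trans (hV₀.trans hW)) y hy
  refine ⟨V, hle, hyV, ?_⟩
  refine Eq.trans ?_ (map_zero _).symm
  have hkl := hN.res c (hle.trans (leOfHom v))
  rw [show rs M hle (a • FTors.res M v (FTors.res M (homOfLE hV₀) s)) = _ from rs_smul M hle a _]
  rw [show rs M hle (FTors.res M v (FTors.res M (homOfLE hV₀) s)) =
    rs M (hle.trans (leOfHom v)) (rs M hV₀ s) from rs_rs M (leOfHom v) hle _]
  have hmem := Ideal.map_mono hn (c.le_pow V hB n (fam.map_mem n (homOfLE hle) ha))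
  rw [Ideal.map_span] at hmem
  refine c.smul_eq_zero_of_mem_span (N := N) (k := c.r) hkl _ (Ideal.span_mono ?_ hmem)
  rintro _ ⟨_, ⟨i, rfl⟩, rfl⟩
  exact ⟨⟨i, i.2⟩, rfl⟩

end Chart

end Groth.Agent.FTors27
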