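import Groth.Agent.FTors27.Chart
import Groth.Agent.FCompl13.IdealGen
import Groth.Agent.CAlg1.FlatComplete
import Groth.Prelude.Def_FTors3
import Mathlib.AlgebraicGeometry.Morphisms.Flat

/-!
Charts for the open ideals of a locally Noetherian formal scheme and for the powers of an ideal sheaf
on a locally Noetherian scheme.
-/

set_option autoImplicit false
set_option backward.isDefEq.respectTransparency false
set_option backward.isDefEq.respectTransparency.types false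

noncomputable section

universe u

open CategoryTheory CategoryTheory.Limits AlgebraicGeometry TopologicalSpace Opposite

namespace Groth.Agent.FTors27

/-- Restriction between affine opens of a scheme is flat. -/
theorem flat_affine_res {X : Scheme.{u}} {U V : X.Opens} (hU : IsAffineOpen U) (hV : IsAffineOpen V) (i : V ≤ U) :
    (X.presheaf.map (homOfLE i).op).hom.Flat := by
  have h := (𝟙 X : X ⟶ X).flat_appLE hU hV i
  simpa [Scheme.Hom.appLE] using h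

/-- Basis of affine opens within an open. -/
theorem exists_affine_mem {X : Scheme.{u}} (W : X.Opens) {x : X} (hx : x ∈ W) :
    ∃ V : X.Opens, IsAffineOpen V ∧ x ∈ V ∧ V ≤ W := by
  obtain ⟨_, ⟨V, hV, rfl⟩, hxV, hVW⟩ := X.isBasis_affineOpens.exists_subset_of_mem_open hx W.2
  exact ⟨V, hV, hxV, hVW⟩

open FBlow13 (Sec res proj)

variable {𝔛 : FSch.Sys.{u}}

/-- Restriction of sections between affine opens of a formal scheme is flat. -/
theorem flat_sec_res (h𝔛 : 𝔛.IsLocNoethFormal) {U V : (𝔛.X 0).Opens} (hU : IsAffineOpen U)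
    (hV : IsAffineOpen V) (i : V ≤ U) : (res 𝔛 h𝔛.1 i).hom.Flat := by
  obtain ⟨hN, -, hkU⟩ := FCompl13.secRing h𝔛 hU
  obtain ⟨-, hC, hkV⟩ := FCompl13.secRing h𝔛 hV
  let B := Sec 𝔛 h𝔛.1 U
  let S := Sec 𝔛 h𝔛.1 V
  let J := FCompl13.secIdeal 𝔛 h𝔛.1 U
  letI : Algebra B S := (res 𝔛 h𝔛.1 i).hom.toAlgebra
  change Module.Flat B S
  haveI := hN
  have hJ : J.map (algebraMap B S) = FCompl13.secIdeal 𝔛 h𝔛.1 V := FCompl13.secIdeal_map_res h𝔛 hU hV i
  have hmem : ∀ N (x : S), x ∈ (J ^ N • ⊤ : Submodule B S) ↔ x ∈ FCompl13.secIdeal 𝔛 h𝔛.1 V ^ N := fun N x => by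
    rw [AdicC27.pow_smul_top_eq_restrictScalars, hJ]
    rfl
  haveI := hC
  haveI : IsAdicComplete J S := by
    have e := fun N (x y : S) => show (x ≡ y [SMOD (J ^ N • ⊤ : Submodule B S)]) ↔
        (x ≡ y [SMOD (FCompl13.secIdeal 𝔛 h𝔛.1 V ^ N • ⊤ : Submodule S S)]) by
      rw [SModEq.sub_mem, SModEq.sub_mem, hmem, smul_eq_mul, Ideal.mul_top]
    exact { haus' := fun x hx => IsHausdorff.haus (inferInstance : IsHausdorff (FCompl13.secIdeal 𝔛 h𝔛.1 V) S) x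
              fun N => (e N x 0).1 (hx N)
            prec' := fun f hf => by
              obtain ⟨L, hL⟩ := IsPrecomplete.prec (inferInstance : IsPrecomplete (FCompl13.secIdeal 𝔛 h𝔛.1 V) S)
                (f := f) fun {m n} hmn => (e m _ _).1 (hf hmn)
              exact ⟨L, fun n => (e n _ _).2 (hL n)⟩ }
  refine CAlg1.FlatCpl.flat_of_flat_mods J fun N => ?_
  cases N with
  | zero =>
    haveI : Subsingleton (S ⧸ (J ^ 0 • ⊤ : Submodule B S)) :=
      Submodule.Quotient.subsingleton_iff.2 (by simp; exact Ideal.map_top _)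
    infer_instance
  | succ n =>
    let ρ := (𝔛.X n).presheaf.map (homOfLE (FBlow.lvU_mono 𝔛 h𝔛.1 n i)).op
    let q : B ⧸ J ^ (n + 1) →+* Γ(𝔛.X n, 𝔛.lvU h𝔛.1 n U) :=
      Ideal.Quotient.lift _ (proj 𝔛 h𝔛.1 U n).hom fun b hb => RingHom.mem_ker.1 ((hkU n).2.ge hb)
    have hq : Function.Bijective q :=
      ⟨RingHom.lift_injective_of_ker_le_ideal _ _ (hkU n).2.le, fun y => by
        obtain ⟨b, rfl⟩ := (hkU n).1 y
        exact ⟨Ideal.Quotient.mk _ b, rfl⟩⟩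
    letI : Algebra (B ⧸ J ^ (n + 1)) Γ(𝔛.X n, 𝔛.lvU h𝔛.1 n V) := (ρ.hom.comp q).toAlgebra
    haveI : Module.Flat (B ⧸ J ^ (n + 1)) Γ(𝔛.X n, 𝔛.lvU h𝔛.1 n V) :=
      RingHom.Flat.comp (RingHom.Flat.of_bijective hq)
        (flat_affine_res (FBlow13.isAffineOpen_lvU hU n) (FBlow13.isAffineOpen_lvU hV n) _)
    let ψ₀ : S →+ Γ(𝔛.X n, 𝔛.lvU h𝔛.1 n V) := (proj 𝔛 h𝔛.1 V n).hom.toAddMonoidHom
    let ψ : (S ⧸ (J ^ (n + 1) • ⊤ : Submodule B S)) →+ Γ(𝔛.X n, 𝔛.lvU h𝔛.1 n V) :=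
      QuotientAddGroup.lift _ ψ₀ fun s hs =>
        show (proj 𝔛 h𝔛.1 V n).hom s = 0 from RingHom.mem_ker.1 ((hkV n).2.ge ((hmem _ s).1 hs))
    have hsm : ∀ (a : B ⧸ J ^ (n + 1)) (x : S ⧸ (J ^ (n + 1) • ⊤ : Submodule B S)),
        ψ (a • x) = a • ψ x := by
      intro a x
      obtain ⟨b, rfl⟩ := Ideal.Quotient.mk_surjective a
      obtain ⟨s, rfl⟩ := Submodule.Quotient.mk_surjective _ x
      change proj 𝔛 h𝔛.1 V n (res 𝔛 h𝔛.1 i b * s) = ρ (proj 𝔛 h𝔛.1 U n b) * proj 𝔛 h𝔛.1 V n s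
      rw [map_mul, FBlow13.proj_res_apply]
    let ψl : (S ⧸ (J ^ (n + 1) • ⊤ : Submodule B S)) →ₗ[B ⧸ J ^ (n + 1)] Γ(𝔛.X n, 𝔛.lvU h𝔛.1 n V) :=
      { toFun := ψ, map_add' := ψ.map_add, map_smul' := hsm }
    refine Module.Flat.of_linearEquiv (LinearEquiv.ofBijective ψl ⟨?_, fun y => ?_⟩)
    · rw [injective_iff_map_eq_zero]
      intro x hx
      obtain ⟨s, rfl⟩ := Submodule.Quotient.mk_surjective _ x
      rw [Submodule.Quotient.mk_eq_zero, hmem, ← (hkV n).2]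
      exact hx
    · obtain ⟨s, rfl⟩ := (hkV n).1 y
      exact ⟨Submodule.Quotient.mk s, rfl⟩

/-- The chart of the open ideals on an affine open of a locally Noetherian formal scheme, with chosen generators. -/
def formalChartWith (h𝔛 : 𝔛.IsLocNoethFormal) (U : (𝔛.X 0).Opens) (hU : IsAffineOpen U) {r : ℕ}
    (g : Fin r → Sec 𝔛 h𝔛.1 U) (hg : Ideal.span (Set.range g) = FCompl13.secIdeal 𝔛 h𝔛.1 U) :
    Chart (FTors.openIdealFam 𝔛 h𝔛.1) where
  r := r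
  g := g
  span_g := hg
  U := U
  B V := IsAffineOpen (V : (𝔛.X 0).Opens) ∧ V ≤ U
  B_le _ h := h.2
  exists_mem W hW x hx := by
    obtain ⟨V, hV, hxV, hVW⟩ := exists_affine_mem (X := 𝔛.X 0) W hx
    exact ⟨V, ⟨hV, hVW.trans hW⟩, hVW, hxV⟩
  noeth := (FCompl13.secRing h𝔛 hU).1
  flat V hV := flat_sec_res h𝔛 hU hV.1 hV.2
  J := FCompl13.secIdeal 𝔛 h𝔛.1 U
  le_pow V hV n := by
    refine le_of_eq_of_le ((FCompl13.secRing h𝔛 hV.1).2.2 n).2 ?_
    rw [show ((FCompl13.secIdeal 𝔛 h𝔛.1 U) ^ n).map (SiteMod.rres (homOfLE hV.2).op) =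
      FCompl13.secIdeal 𝔛 h𝔛.1 V ^ n from FCompl13.secIdeal_pow_map_res h𝔛 hU hV.1 hV.2 n]
    exact Ideal.pow_le_pow_right (Nat.le_succ n)
  pow_le V hV n := by
    refine le_of_le_of_eq ?_ ((FCompl13.secRing h𝔛 hV.1).2.2 n).2.symm
    exact le_of_eq (FCompl13.secIdeal_pow_map_res h𝔛 hU hV.1 hV.2 (n + 1))

/-- The chart of the open ideals on an affine open. -/
def formalChart (h𝔛 : 𝔛.IsLocNoethFormal) (U : (𝔛.X 0).Opens) (hU : IsAffineOpen U) :
    Chart (FTors.openIdealFam 𝔛 h𝔛.1) :=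
  formalChartWith h𝔛 U hU _
    (Submodule.fg_iff_exists_fin_generating_family.1
      ((FCompl13.secRing h𝔛 hU).1.noetherian (FCompl13.secIdeal 𝔛 h𝔛.1 U))).choose_spec.choose_spec

theorem exists_formalChart (h𝔛 : 𝔛.IsLocNoethFormal) (x : TopCat.of (𝔛.X 0)) :
    ∃ c : Chart (FTors.openIdealFam 𝔛 h𝔛.1), x ∈ c.U := by
  obtain ⟨U, hU, hxU, -⟩ := exists_affine_mem (X := 𝔛.X 0) ⊤ (x := x) trivial
  exact ⟨formalChart h𝔛 U hU, hxU⟩

variable {X : Scheme.{u}} [IsLocallyNoetherian X] (𝓘 : X.IdealSheafData)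

/-- The chart of the powers of an ideal sheaf on an affine open. -/
def schemeChart (U : X.Opens) (hU : IsAffineOpen U) : Chart (FTors.powIdealFam X 𝓘) where
  U := U
  B V := IsAffineOpen (V : X.Opens) ∧ V ≤ U
  B_le _ h := h.2
  exists_mem W hW x hx := by
    obtain ⟨V, hV, hxV, hVW⟩ := exists_affine_mem (X := X) W hx
    exact ⟨V, ⟨hV, hVW.trans hW⟩, hVW, hxV⟩
  noeth := IsLocallyNoetherian.component_noetherian (X := X) ⟨U, hU⟩
  flat V hV := flat_affine_res hU hV.1 hV.2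
  J := 𝓘.ideal ⟨U, hU⟩
  r := _
  g := _
  span_g := (Submodule.fg_iff_exists_fin_generating_family.1
    ((IsLocallyNoetherian.component_noetherian (X := X) ⟨U, hU⟩).noetherian (𝓘.ideal ⟨U, hU⟩))).choose_spec.choose_spec
  le_pow V hV n := fun a ha => by
    rw [Ideal.map_pow, show (𝓘.ideal ⟨U, hU⟩).map (Mod48.ClosedImm.rr X.sheaf hV.2) = 𝓘.ideal ⟨V, hV.1⟩ from
      𝓘.map_ideal (U := ⟨V, hV.1⟩) (V := ⟨U, hU⟩) hV.2]
    have h := (FTors.mem_powIdealFam_iff X 𝓘 n V a).1 ha ⟨V, hV.1⟩ le_rfl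
    rwa [show (X.presheaf.map (homOfLE (le_refl V)).op).hom a = a from
      congr($(X.presheaf.map_id (op V)) a)] at h
  pow_le V hV n := fun a ha => by
    rw [Ideal.map_pow, show (𝓘.ideal ⟨U, hU⟩).map (Mod48.ClosedImm.rr X.sheaf hV.2) = 𝓘.ideal ⟨V, hV.1⟩ from
      𝓘.map_ideal (U := ⟨V, hV.1⟩) (V := ⟨U, hU⟩) hV.2] at ha
    rw [FTors.mem_powIdealFam_iff]
    intro W hW
    have h2 := Ideal.mem_map_of_mem (X.presheaf.map (homOfLE hW).op).hom
      (Ideal.pow_le_pow_right (Nat.le_succ n) ha)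
    have hm := 𝓘.map_ideal (U := W) (V := ⟨V, hV.1⟩) hW
    rw [Ideal.map_pow] at h2
    exact (congrArg (fun I : Ideal Γ(X, W) => I ^ n) hm).le h2

theorem exists_schemeChart (x : TopCat.of X) : ∃ c : Chart (FTors.powIdealFam X 𝓘), x ∈ c.U := by
  obtain ⟨U, hU, hxU, -⟩ := exists_affine_mem (X := X) ⊤ (x := x) trivial
  exact ⟨schemeChart 𝓘 U hU, hxU⟩

end Groth.Agent.FTors27
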