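import Groth.Agent.SiteMod.OpensMod
import Groth.Agent.Mod48.ClosedImmBasic
import Groth.Prelude.Def_FTors
import Mathlib.Algebra.Homology.QuasiIso

/-!
Cohomology sheaves of a complex of modules on a space, section by section.
-/

set_option autoImplicit false
set_option backward.isDefEq.respectTransparency.types false

noncomputable section

universe u

open CategoryTheory CategoryTheory.Limits Opposite TopologicalSpace

namespace Groth.Agent.FTors27

open Mod48 Mod48.ClosedImm SiteMod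

variable {T : TopCat.{u}} {O : Sheaf (Opens.grothendieckTopology T) CommRingCat.{u}}

theorem locSurj_at {M N : ModSite.Mod O} (φ : M ⟶ N) [Epi φ] {W : Opens T} (x : (pre N).obj (op W))
    {y : T} (hy : y ∈ W) :
    ∃ (V : Opens T) (hV : V ≤ W), y ∈ V ∧ ∃ m, ap φ m = rs N hV x := by
  obtain ⟨S, hS, hm⟩ := (epi_iff_locSurj φ).1 inferInstance W x
  obtain ⟨V, v, hv, hyV⟩ := hS y hy
  exact ⟨V, leOfHom v, hyV, hm v hv⟩

theorem ap_injective_of_mono {M N : ModSite.Mod O} (φ : M ⟶ N) [Mono φ] {W : Opens T}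
    {x y : (pre M).obj (op W)} (e : ap φ x = ap φ y) : x = y :=
  PresheafOfModules.injective_of_mono (fgt.map φ) (op W) e

variable (K : CochainComplex (ModSite.Mod O) ℤ) (i : ℤ)

theorem ap_d_iCycles {W : Opens T} (z : (pre (K.cycles i)).obj (op W)) (j : ℤ) :
    ap (K.d i j) (ap (K.iCycles i) z) = 0 := by
  rw [← ap_comp, K.iCycles_d]
  rfl

/-- Every cohomology section is locally the class of a cocycle. -/
theorem exists_cocycle {W : Opens T} (h : (pre (K.homology i)).obj (op W)) {y : T} (hy : y ∈ W) :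
    ∃ (V : Opens T) (hV : V ≤ W), y ∈ V ∧ ∃ z, ap (K.homologyπ i) z = rs (K.homology i) hV h :=
  locSurj_at _ h hy

theorem exists_cycle_of_cocycle {W : Opens T} (z : (pre (K.X i)).obj (op W))
    (hz : ap (K.d i (i + 1)) z = 0) : ∃ c, ap (K.iCycles i) c = z := by
  let S := ShortComplex.mk (K.iCycles i) (K.d i (i + 1)) (K.iCycles_d i (i + 1))
  have hS : S.Exact := ShortComplex.exact_of_f_is_kernel S (K.cyclesIsKernel i (i + 1) (by simp))
  exact exists_preimage_of_ap_eq_zero hS hz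

theorem exists_boundary {W : Opens T} (c : (pre (K.cycles i)).obj (op W))
    (hc : ap (K.homologyπ i) c = 0) {y : T} (hy : y ∈ W) :
    ∃ (V : Opens T) (hV : V ≤ W), y ∈ V ∧ ∃ m, ap (K.d (i - 1) i) m = rs (K.X i) hV (ap (K.iCycles i) c) := by
  let S := ShortComplex.mk (K.toCycles (i - 1) i) (K.homologyπ i) (K.toCycles_comp_homologyπ (i - 1) i)
  have hS : S.Exact := ShortComplex.exact_of_g_is_cokernel S (K.homologyIsCokernel (i - 1) i (by simp))
  haveI := hS.epi_kernelLift
  obtain ⟨c', hc'⟩ := exists_of_ap_kernel (K.homologyπ i) hc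
  obtain ⟨V, hV, hyV, m, hm⟩ := locSurj_at (kernel.lift S.g S.f S.zero) c' hy
  refine ⟨V, hV, hyV, m, ?_⟩
  have e1 : ap (K.toCycles (i - 1) i) m = rs (K.cycles i) hV c := by
    rw [show K.toCycles (i - 1) i = kernel.lift S.g S.f S.zero ≫ kernel.ι (K.homologyπ i) from
      (kernel.lift_ι _ _ _).symm, ap_comp, hm]
    exact ((res_ap (kernel.ι (K.homologyπ i)) (homOfLE hV) c').symm.trans (congrArg _ hc'))
  rw [← K.toCycles_i (i - 1) i, ap_comp, e1]
  exact (res_ap (K.iCycles i) (homOfLE hV) c).symm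

theorem class_boundary {W : Opens T} (c : (pre (K.cycles i)).obj (op W)) (j : ℤ)
    (m : (pre (K.X j)).obj (op W)) (hm : ap (K.d j i) m = ap (K.iCycles i) c) :
    ap (K.homologyπ i) c = 0 := by
  rw [← K.toCycles_i j i, ap_comp] at hm
  rw [← ap_injective_of_mono (K.iCycles i) hm, ← ap_comp, K.toCycles_comp_homologyπ]
  rfl

variable {L : CochainComplex (ModSite.Mod O) ℤ} (φ : K ⟶ L)

theorem ap_homologyMap {W : Opens T} (c : (pre (K.cycles i)).obj (op W)) :
    ap (HomologicalComplex.homologyMap φ i) (ap (K.homologyπ i) c) =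
      ap (L.homologyπ i) (ap (HomologicalComplex.cyclesMap φ i) c) := by
  rw [← ap_comp, ← ap_comp, HomologicalComplex.homologyπ_naturality]

theorem ap_cyclesMap {W : Opens T} (c : (pre (K.cycles i)).obj (op W)) :
    ap (L.iCycles i) (ap (HomologicalComplex.cyclesMap φ i) c) = ap (φ.f i) (ap (K.iCycles i) c) := by
  rw [← ap_comp, ← ap_comp, HomologicalComplex.cyclesMap_i]

/-- A quasi-isomorphism criterion on sections. -/
theorem quasiIsoAt_of_sections (φ : K ⟶ L) [∀ j, Mono (φ.f j)]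
    (hsurj : ∀ (W : Opens T) (z : (pre (L.X i)).obj (op W)), ap (L.d i (i + 1)) z = 0 → ∀ y ∈ W,
      ∃ (V : Opens T) (hV : V ≤ W), y ∈ V ∧ ∃ w v, ap (K.d i (i + 1)) w = 0 ∧
        rs (L.X i) hV z = ap (φ.f i) w + ap (L.d (i - 1) i) v)
    (hinj : ∀ (W : Opens T) (z : (pre (K.X i)).obj (op W)) (m : (pre (L.X (i - 1))).obj (op W)),
      ap (L.d (i - 1) i) m = ap (φ.f i) z → ∀ y ∈ W,
      ∃ (V : Opens T) (hV : V ≤ W), y ∈ V ∧ ∃ t, ap (K.d (i - 1) i) t = rs (K.X i) hV z) :
    QuasiIsoAt φ i := by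
  rw [quasiIsoAt_iff_isIso_homologyMap]
  haveI : Mono (HomologicalComplex.homologyMap φ i) := by
    refine mono_of_ap_injective _ fun W h hh => ?_
    refine ext_cover (G := K.homology i) fun y hy => ?_
    obtain ⟨V, hV, hyV, c, hc⟩ := exists_cocycle K i h hy
    have h1 : ap (L.homologyπ i) (ap (HomologicalComplex.cyclesMap φ i) c) = 0 := by
      refine (ap_homologyMap K i φ c).symm.trans ?_
      rw [hc]
      refine (res_ap (HomologicalComplex.homologyMap φ i) (homOfLE hV) h).symm.trans ?_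
      rw [hh]
      exact map_zero _
    obtain ⟨V₁, hV₁, hyV₁, m, hm⟩ := exists_boundary L i _ h1 hyV
    rw [ap_cyclesMap] at hm
    have hm' : ap (L.d (i - 1) i) m = ap (φ.f i) (rs (K.X i) hV₁ (ap (K.iCycles i) c)) :=
      hm.trans (res_ap (φ.f i) (homOfLE hV₁) _)
    obtain ⟨V₂, hV₂, hyV₂, t, ht⟩ := hinj V₁ _ m hm' y hyV₁
    refine ⟨V₂, (hV₂.trans hV₁).trans hV, hyV₂, ?_⟩
    refine Eq.trans ?_ (map_zero _).symm
    refine ((rs_rs (K.homology i) hV (hV₂.trans hV₁) h).symm.trans (congrArg _ hc.symm)).trans ?_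
    refine (res_ap (K.homologyπ i) (homOfLE (hV₂.trans hV₁)) c).trans ?_
    refine class_boundary K i _ (i - 1) t (ht.trans ?_)
    refine Eq.trans ?_ (res_ap (K.iCycles i) (homOfLE (hV₂.trans hV₁)) c)
    exact rs_rs (K.X i) hV₁ hV₂ _
  haveI : Epi (HomologicalComplex.homologyMap φ i) := by
    rw [epi_iff_locSurj]
    intro W h
    refine ⟨{ arrows := fun V v => ∃ k, ap (HomologicalComplex.homologyMap φ i) k = res (pre (L.homology i)) v.op h
              downward_closed := ?_ }, fun y hy => ?_, fun V v hv => hv⟩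
    · rintro V V' v ⟨k, hk⟩ g
      exact ⟨res (pre (K.homology i)) g.op k,
        (res_ap _ g k).symm.trans ((congrArg _ hk).trans (res_res _ _ _ h))⟩
    obtain ⟨V, hV, hyV, c, hc⟩ := exists_cocycle L i h hy
    obtain ⟨V₁, hV₁, hyV₁, w, v, hw, hwv⟩ := hsurj V _ (ap_d_iCycles L i c (i + 1)) y hyV
    obtain ⟨cw, rfl⟩ := exists_cycle_of_cocycle K i w hw
    refine ⟨V₁, homOfLE (hV₁.trans hV), ⟨ap (K.homologyπ i) cw, ?_⟩, hyV₁⟩
    change _ = rs (L.homology i) (hV₁.trans hV) h
    rw [ap_homologyMap, ← rs_rs (L.homology i) hV hV₁ h, ← hc]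
    refine Eq.trans ?_ (res_ap (L.homologyπ i) (homOfLE hV₁) c).symm
    rw [← sub_eq_zero, ← map_sub]
    refine class_boundary L i _ (i - 1) (-v) ?_
    refine ((map_neg _ v).trans ?_).trans (map_sub _ _ _).symm
    refine Eq.trans ?_ (congrArg (· - _) (ap_cyclesMap K i φ cw).symm)
    refine Eq.trans ?_ (congrArg (_ - ·) ((res_ap (L.iCycles i) (homOfLE hV₁) c).symm.trans hwv).symm)
    abel
  exact isIso_of_mono_of_epi _

end Groth.Agent.FTors27
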