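import Groth.Agent.FTors27.Divide
import Groth.Prelude.Def_SiteCmp

/-!
Complexes of injective modules with torsion cohomology are computed by their torsion subcomplexes.
-/

set_option autoImplicit false
set_option backward.isDefEq.respectTransparency.types false

noncomputable section

universe u

open CategoryTheory CategoryTheory.Limits Opposite TopologicalSpace

namespace Groth.Agent.FTors27

open Mod48 Mod48.ClosedImm SiteMod

variable {T : TopCat.{u}} {O : Sheaf (Opens.grothendieckTopology T) CommRingCat.{u}}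
  {fam : FTors.IdealFam O} (c : Chart fam) (K : CochainComplex (ModSite.Mod O) ℤ)

theorem ap_d_smul {W : Opens T} (i j : ℤ) (a : O.obj.obj (op W)) (z : (pre (K.X i)).obj (op W)) :
    ap (K.d i j) (a • z) = a • ap (K.d i j) z := map_smul _ _ _

theorem ap_zero' {M N : ModSite.Mod O} (f : M ⟶ N) {W : Opens T} : ap f (0 : (pre M).obj (op W)) = 0 := map_zero _

theorem ap_sub' {M N : ModSite.Mod O} (f : M ⟶ N) {W : Opens T} (a b : (pre M).obj (op W)) :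
    ap f (a - b) = ap f a - ap f b := map_sub _ _ _

theorem rs_d {W V : Opens T} (h : V ≤ W) (i j : ℤ) (z : (pre (K.X i)).obj (op W)) :
    rs (K.X j) h (ap (K.d i j) z) = ap (K.d i j) (rs (K.X i) h z) := res_ap _ _ _

theorem rs_add {M : ModSite.Mod O} {W V : Opens T} (h : V ≤ W) (s t : (pre M).obj (op W)) :
    rs M h (s + t) = rs M h s + rs M h t := res_add _ _ _ _

theorem rs_sub {M : ModSite.Mod O} {W V : Opens T} (h : V ≤ W) (s t : (pre M).obj (op W)) :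
    rs M h (s - t) = rs M h s - rs M h t := map_sub _ _ _

theorem dd {W : Opens T} (i j l : ℤ) (z : (pre (K.X i)).obj (op W)) :
    ap (K.d j l) (ap (K.d i j) z) = 0 := by
  rw [← ap_comp, K.d_comp_d]
  rfl

/-- Cocycles are, locally, killed cocycles up to boundaries. -/
def PropS (k : ℕ) : Prop :=
  ∀ (i j : ℤ), i + 1 = j → ∀ (W : Opens T) (hW : W ≤ c.U) (z : (pre (K.X j)).obj (op W)),
    ap (K.d j (j + 1)) z = 0 → ∀ x ∈ W, ∃ (V : Opens T) (hV : V ≤ W), x ∈ V ∧ ∃ w v,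
      c.Tk k (hV.trans hW) w ∧ ap (K.d j (j + 1)) w = 0 ∧ rs (K.X j) hV z = w + ap (K.d i j) v

/-- Killed boundaries are, locally, boundaries of killed sections. -/
def PropI (k : ℕ) : Prop :=
  ∀ (i j : ℤ), i + 1 = j → ∀ (W : Opens T) (hW : W ≤ c.U) (z : (pre (K.X j)).obj (op W))
    (y : (pre (K.X i)).obj (op W)), c.Tk k hW z → ap (K.d i j) y = z → ∀ x ∈ W,
      ∃ (V : Opens T) (hV : V ≤ W), x ∈ V ∧ ∃ t, c.Tk k (hV.trans hW) t ∧ ap (K.d i j) t = rs (K.X j) hV z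

theorem propS_zero : PropS c K 0 := fun i j _ W hW z hz x hx =>
  ⟨W, le_rfl, hx, z, 0, c.tk_zero_iff _, hz, by rw [rs_rfl, ap_zero', add_zero]⟩

theorem propI_zero : PropI c K 0 := fun i j _ W hW z y _ hy x hx =>
  ⟨W, le_rfl, hx, y, c.tk_zero_iff _, hy.trans (rs_rfl _ z).symm⟩

variable [∀ i, Injective (K.X i)] (hH : ∀ i, FTors.IsTors fam (K.homology i))

include hH in
omit [∀ i, Injective (K.X i)] in
/-- Cohomology classes are killed, locally, by powers of the generators. -/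
theorem exists_kill (j : ℤ) {W : Opens T} (hW : W ≤ c.U) (z : (pre (K.X j)).obj (op W))
    (hz : ap (K.d j (j + 1)) z = 0) (k : Fin c.r) {x : T} (hx : x ∈ W) :
    ∃ (V : Opens T) (hV : V ≤ W), x ∈ V ∧ ∃ n m,
      ap (K.d (j - 1) j) m = rr O (hV.trans hW) (c.g k) ^ n • rs (K.X j) hV z := by
  obtain ⟨cz, rfl⟩ := exists_cycle_of_cocycle K j z hz
  obtain ⟨V, hV, hxV, N, hN⟩ :=
    c.tk_of_isTorsSect (k := c.r) (hW := hW) (hH j W (ap (K.homologyπ j) cz)) x hx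
  have h0 : ap (K.homologyπ j) (rr O (hV.trans hW) (c.g k) ^ N • rs (K.cycles j) hV cz) = 0 := by
    refine (map_smul _ _ _).trans ?_
    refine Eq.trans (congrArg (_ • ·) ?_) (hN k k.2)
    exact (res_ap _ (homOfLE hV) cz).symm
  obtain ⟨V', hV', hxV', m, hm⟩ := exists_boundary K j _ h0 hxV
  refine ⟨V', hV'.trans hV, hxV', N, m, hm.trans ?_⟩
  rw [show ap (K.iCycles j) (rr O (hV.trans hW) (c.g k) ^ N • rs (K.cycles j) hV cz) =
      rr O (hV.trans hW) (c.g k) ^ N • ap (K.iCycles j) (rs (K.cycles j) hV cz) from map_smul _ _ _,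
    rs_smul, map_pow, c.rr_rr]
  refine congrArg (_ • ·) ?_
  refine Eq.trans ?_ (rs_rs (K.X j) hV hV' _)
  exact congrArg _ (res_ap (K.iCycles j) (homOfLE hV) cz).symm

include hH in
theorem propS_succ (k : ℕ) (hk : k < c.r) (hS : PropS c K k) (hI : PropI c K k) : PropS c K (k + 1) := by
  intro i j hij W hW z hz x hx
  obtain ⟨V₁, hV₁, hx₁, w, v, hw, hdw, hzw⟩ := hS i j hij W hW z hz x hx
  obtain ⟨V₂, hV₂, hx₂, n, m, hm⟩ := exists_kill c K hH j (hV₁.trans hW) w hdw ⟨k, hk⟩ hx₁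
  obtain rfl : i = j - 1 := by omega
  have hW₂ : V₂ ≤ c.U := hV₂.trans (hV₁.trans hW)
  obtain ⟨V₃, hV₃, hx₃, y, hy, hdy⟩ := hI (j - 1) j (by omega) V₂ hW₂ _ m ((hw.res c hV₂).smul c _) hm x hx₂
  obtain ⟨V₄, hV₄, hx₄, y', hy', e, he⟩ := c.exists_divide k hk (K.X (j - 1)) n (hV₃.trans hW₂) hy hx₃
  let hV : V₄ ≤ W := hV₄.trans (hV₃.trans (hV₂.trans hV₁))
  let w' : (pre (K.X j)).obj (op V₄) :=
    rs (K.X j) (hV₄.trans (hV₃.trans hV₂)) w - ap (K.d (j - 1) j) y'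
  refine ⟨V₄, hV, hx₄, w', rs (K.X (j - 1)) (hV₄.trans (hV₃.trans hV₂)) v + y', ?_, ?_, ?_⟩
  · refine c.tk_succ ((hw.res c _).sub c (hy'.map c (K.d (j - 1) j))) hk fun p hp => ?_
    refine ⟨V₄, le_rfl, hp, e + n, ?_⟩
    rw [rs_rfl]
    have hG : ap (K.d (j - 1) j) (rs (K.X (j - 1)) hV₄ y) =
        rr O (hV₄.trans (hV₃.trans hW₂)) (c.g ⟨k, hk⟩) ^ n • rs (K.X j) (hV₄.trans (hV₃.trans hV₂)) w := by
      rw [← rs_d, hdy, rs_rs, rs_smul, map_pow, c.rr_rr, rs_rs]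
    have h2 := congrArg (ap (K.d (j - 1) j)) he
    rw [ap_d_smul, ap_zero'] at h2
    rw [show ap (K.d (j - 1) j) (rr O (hV₄.trans (hV₃.trans hW₂)) (c.g ⟨k, hk⟩) ^ n • y' - rs (K.X (j - 1)) hV₄ y) =
      rr O (hV₄.trans (hV₃.trans hW₂)) (c.g ⟨k, hk⟩) ^ n • ap (K.d (j - 1) j) y' -
        ap (K.d (j - 1) j) (rs (K.X (j - 1)) hV₄ y) from (map_sub _ _ _).trans (congrArg (· - _) (map_smul _ _ _)),
      hG, ← smul_sub, ← mul_smul, ← pow_add] at h2
    rw [← neg_eq_zero, ← smul_neg, neg_sub]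
    exact h2
  · rw [ap_sub', dd, ← rs_d, hdw, sub_zero]
    exact map_zero _
  · refine Eq.trans (rs_rs (K.X j) hV₁ (hV₄.trans (hV₃.trans hV₂)) z).symm ?_
    rw [hzw, rs_add, rs_d]
    show _ = w' + ap (K.d (j - 1) j) (_ + y')
    rw [show ap (K.d (j - 1) j) (rs (K.X (j - 1)) (hV₄.trans (hV₃.trans hV₂)) v + y') =
      ap (K.d (j - 1) j) (rs (K.X (j - 1)) (hV₄.trans (hV₃.trans hV₂)) v) + ap (K.d (j - 1) j) y' from map_add _ _ _]
    simp only [w']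
    abel

include hH in
theorem propI_succ (k : ℕ) (hk : k < c.r) (hI : PropI c K k) (hS' : PropS c K (k + 1)) : PropI c K (k + 1) := by
  intro i j hij W hW z y hz hy x hx
  have hzk : c.Tk k hW z := fun p hp => by
    obtain ⟨V, hV, hpV, N, hN⟩ := hz p hp
    exact ⟨V, hV, hpV, N, fun l hl => hN l (hl.trans (Nat.lt_succ_self k))⟩
  obtain ⟨V₁, hV₁, hx₁, y₁, hy₁, hdy₁⟩ := hI i j hij W hW z y hzk hy x hx
  obtain ⟨V₂, hV₂, hx₂, N, hN⟩ := (hz.res c hV₁) x hx₁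
  have hW₂ : V₂ ≤ c.U := hV₂.trans (hV₁.trans hW)
  let G := rr O hW₂ (c.g ⟨k, hk⟩)
  have hgy : ap (K.d i (i + 1)) (G ^ N • rs (K.X i) hV₂ y₁) = 0 := by
    rw [hij, ap_d_smul, ← rs_d, hdy₁]
    exact hN ⟨k, hk⟩ (Nat.lt_succ_self k)
  obtain ⟨V₃, hV₃, hx₃, w, v, hw, hdw, hwv⟩ :=
    hS' (i - 1) i (by omega) V₂ hW₂ (G ^ N • rs (K.X i) hV₂ y₁) hgy x hx₂
  have hW₃ : V₃ ≤ c.U := hV₃.trans hW₂
  let G₃ := rr O hW₃ (c.g ⟨k, hk⟩)
  have hgy₃ : rs (K.X i) hV₃ (G ^ N • rs (K.X i) hV₂ y₁) = G₃ ^ N • rs (K.X i) (hV₃.trans hV₂) y₁ := by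
    rw [rs_smul, map_pow, c.rr_rr, rs_rs]
  have hwk : c.Tk k hW₃ w := fun p hp => by
    obtain ⟨V, hV, hpV, M, hM⟩ := hw p hp
    exact ⟨V, hV, hpV, M, fun l hl => hM l (hl.trans (Nat.lt_succ_self k))⟩
  have hdvk : c.Tk k hW₃ (ap (K.d (i - 1) i) v) := by
    have e : ap (K.d (i - 1) i) v = G₃ ^ N • rs (K.X i) (hV₃.trans hV₂) y₁ - w := by
      rw [← hgy₃, hwv, add_sub_cancel_left]
    rw [e]
    exact ((hy₁.res c _).smul c _).sub c hwk
  obtain ⟨V₄, hV₄, hx₄, v', hv', hdv'⟩ := hI (i - 1) i (by omega) V₃ hW₃ _ v hdvk rfl x hx₃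
  obtain ⟨V₅, hV₅, hx₅, v'', hv'', e, he⟩ := c.exists_divide k hk (K.X (i - 1)) N (hV₄.trans hW₃) hv' hx₄
  let h₅₁ : V₅ ≤ V₁ := hV₅.trans (hV₄.trans (hV₃.trans hV₂))
  refine ⟨V₅, h₅₁.trans hV₁, hx₅, rs (K.X i) h₅₁ y₁ - ap (K.d (i - 1) i) v'', ?_, ?_⟩
  · refine c.tk_succ ((hy₁.res c _).sub c (hv''.map c _)) hk fun p hp => ?_
    obtain ⟨V₆, hV₆, hpV, M, hM⟩ := (hw.res c (hV₅.trans hV₄)) p hp
    refine ⟨V₆, hV₆, hpV, M + (e + N), ?_⟩
    let G₅ := rr O (hV₅.trans (hV₄.trans hW₃)) (c.g ⟨k, hk⟩)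
    have h1 : G₅ ^ N • rs (K.X i) h₅₁ y₁ =
        rs (K.X i) (hV₅.trans hV₄) w + ap (K.d (i - 1) i) (rs (K.X (i - 1)) hV₅ v') := by
      rw [← rs_d, hdv', rs_rs, ← rs_add, ← hwv, hgy₃, rs_smul, map_pow, c.rr_rr, rs_rs]
    have h2 := congrArg (ap (K.d (i - 1) i)) he
    rw [ap_d_smul, ap_zero'] at h2
    rw [show ap (K.d (i - 1) i) (G₅ ^ N • v'' - rs (K.X (i - 1)) hV₅ v') =
      G₅ ^ N • ap (K.d (i - 1) i) v'' - ap (K.d (i - 1) i) (rs (K.X (i - 1)) hV₅ v') from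
        (map_sub _ _ _).trans (congrArg (· - _) (map_smul _ _ _)), smul_sub, sub_eq_zero] at h2
    have h3 : G₅ ^ (e + N) • (rs (K.X i) h₅₁ y₁ - ap (K.d (i - 1) i) v'') =
        G₅ ^ e • rs (K.X i) (hV₅.trans hV₄) w := by
      rw [pow_add, mul_smul, smul_sub, h1, smul_sub, smul_add, h2, add_sub_cancel_right]
    have h4 := congrArg (rs (K.X i) hV₆) h3
    rw [rs_smul, rs_smul, map_pow, map_pow, c.rr_rr] at h4
    rw [pow_add, mul_smul, h4, smul_comm, hM ⟨k, hk⟩ (Nat.lt_succ_self k), smul_zero]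
  · rw [ap_sub', dd, sub_zero, ← rs_d, hdy₁, rs_rs]

include hH in
theorem props (k : ℕ) (hk : k ≤ c.r) : PropS c K k ∧ PropI c K k := by
  induction k with
  | zero => exact ⟨propS_zero c K, propI_zero c K⟩
  | succ k ih =>
    have h := ih (Nat.le_of_succ_le hk)
    have hs := propS_succ c K hH k hk h.1 h.2
    exact ⟨hs, propI_succ c K hH k hk h.2 hs⟩

/-- The torsion subcomplex. -/
abbrev gammaCx (fam : FTors.IdealFam O) (K : CochainComplex (ModSite.Mod O) ℤ) :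
    CochainComplex (ModSite.Mod O) ℤ :=
  ((FTors.gamma O fam).mapHomologicalComplex (ComplexShape.up ℤ)).obj K

/-- Its inclusion. -/
abbrev gammaCxι (fam : FTors.IdealFam O) (K : CochainComplex (ModSite.Mod O) ℤ) : gammaCx fam K ⟶ K :=
  (NatTrans.mapHomologicalComplex (FTors.gammaι fam) (ComplexShape.up ℤ)).app K ≫
    ((Functor.mapHomologicalComplexIdIso _ _).hom.app K)

omit c in
theorem mono_gammaι (M : ModSite.Mod O) : Mono ((FTors.gammaι fam).app M) :=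
  mono_of_ap_injective _ fun _ _ hz => Subtype.ext hz

omit c in
include hH in
/-- The torsion subcomplex has the same cohomology. -/
theorem quasiIso_gammaCxι (hcov : ∀ x : T, ∃ c : Chart fam, x ∈ c.U) : QuasiIso (gammaCxι fam K) := by
  haveI : ∀ j, Mono ((gammaCxι fam K).f j) := fun j => by
    haveI := mono_gammaι (fam := fam) (K.X j)
    change Mono ((FTors.gammaι fam).app (K.X j) ≫ 𝟙 _)
    infer_instance
  refine ⟨fun j => quasiIsoAt_of_sections (gammaCx fam K) j (gammaCxι fam K) ?_ ?_⟩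
  · intro W z hz x hx
    obtain ⟨c, hxU⟩ := hcov x
    obtain ⟨V, hV, hxV, w, v, hw, hdw, hwv⟩ := (props c K hH c.r le_rfl).1 (j - 1) j (by omega) (W ⊓ c.U)
      inf_le_right (rs (K.X j) inf_le_left z) (by rw [← rs_d, hz]; exact map_zero _) x ⟨hx, hxU⟩
    let w' : (pre ((gammaCx fam K).X j)).obj (op V) := ⟨w, c.isTorsSect_of_tk hw⟩
    refine ⟨V, hV.trans inf_le_left, hxV, w', v, ?_, ?_⟩
    · exact Subtype.ext hdw
    · rw [rs_rs] at hwv
      exact hwv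
  · intro W z m hm x hx
    obtain ⟨c, hxU⟩ := hcov x
    have hz : c.Tk c.r (inf_le_right : W ⊓ c.U ≤ c.U) (rs (K.X j) inf_le_left (z.1 : (pre (K.X j)).obj (op W))) :=
      c.tk_of_isTorsSect (FTors.IsTorsSect.res (homOfLE inf_le_left) z.2)
    obtain ⟨V, hV, hxV, t, ht, hdt⟩ := (props c K hH c.r le_rfl).2 (j - 1) j (by omega) (W ⊓ c.U)
      inf_le_right _ (rs (K.X (j - 1)) inf_le_left m) hz
      (by rw [← rs_d, hm]; rfl) x ⟨hx, hxU⟩
    refine ⟨V, hV.trans inf_le_left, hxV, (⟨t, c.isTorsSect_of_tk ht⟩ : (pre ((gammaCx fam K).X (j - 1))).obj (op V)), ?_⟩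
    refine Subtype.ext (hdt.trans ?_)
    rw [rs_rs]
    rfl

end Groth.Agent.FTors27
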