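import Groth.Agent.Mod48.KInjDerived
import Mathlib.CategoryTheory.Localization.Adjunction
import Mathlib.Algebra.Homology.DerivedCategory.ExactFunctor
import Mathlib.Algebra.Homology.DerivedCategory.HomologySequence
import Mathlib.Algebra.Homology.DerivedCategory.FullyFaithful

/-!
The adjunction between derived categories induced by an adjunction of exact functors.
-/

set_option autoImplicit false
set_option backward.isDefEq.respectTransparency.types false

universe w w' v v' u u'

open CategoryTheory CategoryTheory.Limits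

namespace Groth.Agent.FTors27

variable {A : Type u} [Category.{v} A] [Abelian A] {B : Type u'} [Category.{v'} B] [Abelian B]
  [HasDerivedCategory.{w} A] [HasDerivedCategory.{w'} B]

/-- Cohomology of the image under an exact functor. -/
theorem nonempty_homology_map_iso (F : A ⥤ B) [F.Additive] [PreservesFiniteLimits F]
    [PreservesFiniteColimits F] (X : DerivedCategory A) (i : ℤ) :
    Nonempty ((DerivedCategory.homologyFunctor B i).obj (F.mapDerivedCategory.obj X) ≅
      F.obj ((DerivedCategory.homologyFunctor A i).obj X)) := by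
  let e := (DerivedCategory.Q : CochainComplex A ℤ ⥤ _).objObjPreimageIso X
  let K := (DerivedCategory.Q : CochainComplex A ℤ ⥤ DerivedCategory A).objPreimage X
  exact ⟨(DerivedCategory.homologyFunctor B i).mapIso (F.mapDerivedCategory.mapIso e.symm ≪≫
      F.mapDerivedCategoryFactors.app K) ≪≫
    (DerivedCategory.homologyFunctorFactors B i).app _ ≪≫
    (K.sc i).mapHomologyIso F ≪≫
    F.mapIso (((DerivedCategory.homologyFunctorFactors A i).app K).symm ≪≫
      (DerivedCategory.homologyFunctor A i).mapIso e)⟩

variable {G : B ⥤ A} {F : A ⥤ B} [G.Additive] [F.Additive] (adj : G ⊣ F)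
  [PreservesFiniteLimits G] [PreservesFiniteColimits G] [PreservesFiniteLimits F] [PreservesFiniteColimits F]

/-- The induced adjunction. -/
noncomputable def mapDerivedAdj : G.mapDerivedCategory ⊣ F.mapDerivedCategory :=
  letI : CatCommSq (G.mapHomotopyCategory (ComplexShape.up ℤ)) DerivedCategory.Qh DerivedCategory.Qh
      G.mapDerivedCategory := ⟨G.mapDerivedCategoryFactorsh.symm⟩
  letI : CatCommSq (F.mapHomotopyCategory (ComplexShape.up ℤ)) DerivedCategory.Qh DerivedCategory.Qh
      F.mapDerivedCategory := ⟨F.mapDerivedCategoryFactorsh.symm⟩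
  (Mod48.adjHomotopy adj).localization DerivedCategory.Qh (HomotopyCategory.quasiIso B (ComplexShape.up ℤ))
    DerivedCategory.Qh (HomotopyCategory.quasiIso A (ComplexShape.up ℤ)) G.mapDerivedCategory F.mapDerivedCategory

theorem isIso_Qh_map_quotient {X Y : CochainComplex A ℤ} (f : X ⟶ Y) (hf : QuasiIso f) :
    IsIso (DerivedCategory.Qh.map ((HomotopyCategory.quotient A (ComplexShape.up ℤ)).map f)) := by
  haveI : IsIso (DerivedCategory.Q.map f) := inferInstance
  exact (NatIso.isIso_map_iff (DerivedCategory.quotientCompQhIso A) f).2 inferInstance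

theorem isIso_of_homology_fix {C D : Type*} [Category C] [Category D] [HasZeroMorphisms C] [HasZeroMorphisms D]
    {F₁ F₂ : C ⥤ D} (τ : F₁ ⟶ F₂) (S : ShortComplex C) [S.HasHomology]
    [F₁.PreservesZeroMorphisms] [F₂.PreservesZeroMorphisms]
    [F₁.PreservesLeftHomologyOf S] [F₂.PreservesLeftHomologyOf S]
    [F₁.PreservesRightHomologyOf S] [F₂.PreservesRightHomologyOf S]
    [(S.map F₁).HasHomology] [(S.map F₂).HasHomology]
    (h : IsIso (τ.app S.homology)) : IsIso (ShortComplex.homologyMap (S.mapNatTrans τ)) := by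
  rw [ShortComplex.homologyMap_mapNatTrans]
  infer_instance

theorem quasiIso_cxCounit (X : CochainComplex A ℤ)
    (h : ∀ i, IsIso (adj.counit.app (X.homology i))) : QuasiIso (Mod48.cxCounit adj X) := by
  refine ⟨fun i => ?_⟩
  rw [quasiIsoAt_iff_isIso_homologyMap]
  haveI : PreservesFiniteLimits (F ⋙ G) := comp_preservesFiniteLimits _ _
  haveI : PreservesFiniteColimits (F ⋙ G) := comp_preservesFiniteColimits _ _
  haveI := isIso_of_homology_fix adj.counit (X.sc i) (h i)
  exact (inferInstance : IsIso (ShortComplex.homologyMap ((X.sc i).mapNatTrans adj.counit)))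

theorem quasiIso_cxUnit (X : CochainComplex B ℤ)
    (h : ∀ i, IsIso (adj.unit.app (X.homology i))) : QuasiIso (Mod48.cxUnit adj X) := by
  refine ⟨fun i => ?_⟩
  rw [quasiIsoAt_iff_isIso_homologyMap]
  haveI : PreservesFiniteLimits (G ⋙ F) := comp_preservesFiniteLimits _ _
  haveI : PreservesFiniteColimits (G ⋙ F) := comp_preservesFiniteColimits _ _
  haveI := isIso_of_homology_fix adj.unit (X.sc i) (h i)
  exact (inferInstance : IsIso (ShortComplex.homologyMap ((X.sc i).mapNatTrans adj.unit)))

/-- The counit is invertible at objects whose cohomology has invertible counit. -/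
theorem isIso_counit_derived (P : ObjectProperty A) [P.IsClosedUnderIsomorphisms]
    (hP : ∀ M, P M → IsIso (adj.counit.app M)) (X : DerivedCategory A)
    (hX : ∀ i, P ((DerivedCategory.homologyFunctor A i).obj X)) :
    IsIso ((mapDerivedAdj adj).counit.app X) := by
  let e := (DerivedCategory.Q : CochainComplex A ℤ ⥤ _).objObjPreimageIso X
  let K := (DerivedCategory.Q : CochainComplex A ℤ ⥤ DerivedCategory A).objPreimage X
  let K' := (HomotopyCategory.quotient A (ComplexShape.up ℤ)).obj K
  have hK : ∀ i, IsIso (adj.counit.app (K.homology i)) := fun i => hP _ (P.prop_of_iso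
    ((DerivedCategory.homologyFunctor A i).mapIso e.symm ≪≫ (DerivedCategory.homologyFunctorFactors A i).app K)
    (hX i))
  haveI hq : IsIso (DerivedCategory.Qh.map ((Mod48.adjHomotopy adj).counit.app K')) :=
    isIso_Qh_map_quotient _ (quasiIso_cxCounit adj K hK)
  let E : DerivedCategory.Qh.obj K' ≅ X := (DerivedCategory.quotientCompQhIso A).app K ≪≫ e
  haveI : IsIso ((mapDerivedAdj adj).counit.app (DerivedCategory.Qh.obj K')) := by
    rw [mapDerivedAdj, Adjunction.localization_counit_app]
    infer_instance
  exact (NatTrans.isIso_app_iff_of_iso _ E).1 inferInstance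

/-- The unit is invertible at objects whose cohomology has invertible unit. -/
theorem isIso_unit_derived (P : ObjectProperty B) [P.IsClosedUnderIsomorphisms]
    (hP : ∀ M, P M → IsIso (adj.unit.app M)) (X : DerivedCategory B)
    (hX : ∀ i, P ((DerivedCategory.homologyFunctor B i).obj X)) :
    IsIso ((mapDerivedAdj adj).unit.app X) := by
  let e := (DerivedCategory.Q : CochainComplex B ℤ ⥤ _).objObjPreimageIso X
  let K := (DerivedCategory.Q : CochainComplex B ℤ ⥤ DerivedCategory B).objPreimage X
  let K' := (HomotopyCategory.quotient B (ComplexShape.up ℤ)).obj K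
  have hK : ∀ i, IsIso (adj.unit.app (K.homology i)) := fun i => hP _ (P.prop_of_iso
    ((DerivedCategory.homologyFunctor B i).mapIso e.symm ≪≫ (DerivedCategory.homologyFunctorFactors B i).app K)
    (hX i))
  haveI hq : IsIso (DerivedCategory.Qh.map ((Mod48.adjHomotopy adj).unit.app K')) :=
    isIso_Qh_map_quotient _ (quasiIso_cxUnit adj K hK)
  let E : DerivedCategory.Qh.obj K' ≅ X := (DerivedCategory.quotientCompQhIso B).app K ≪≫ e
  haveI : IsIso ((mapDerivedAdj adj).unit.app (DerivedCategory.Qh.obj K')) := by
    rw [mapDerivedAdj, Adjunction.localization_unit_app]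
    infer_instance
  exact (NatTrans.isIso_app_iff_of_iso _ E).1 inferInstance

theorem right_map_bijective_of_isIso_counit {C D : Type*} [Category C] [Category D] {L : D ⥤ C} {R : C ⥤ D}
    (a : L ⊣ R) (X Y : C) [IsIso (a.counit.app X)] : Function.Bijective (fun φ : X ⟶ Y => R.map φ) := by
  have h : (fun φ : X ⟶ Y => R.map φ) =
      (fun ψ => (a.homEquiv _ _) ψ) ∘ (fun φ : X ⟶ Y => a.counit.app X ≫ φ) := funext fun φ => by
    simp [Adjunction.homEquiv_unit]
  rw [h]
  exact (Equiv.bijective _).comp ⟨fun φ ψ e => (cancel_epi _).1 e, fun ψ => ⟨inv (a.counit.app X) ≫ ψ, by simp⟩⟩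

theorem left_map_bijective_of_isIso_unit {C D : Type*} [Category C] [Category D] {L : D ⥤ C} {R : C ⥤ D}
    (a : L ⊣ R) (X Y : D) [IsIso (a.unit.app Y)] : Function.Bijective (fun φ : X ⟶ Y => L.map φ) := by
  have h : (fun φ : X ⟶ Y => L.map φ) =
      (fun ψ => (a.homEquiv _ _).symm ψ) ∘ (fun φ : X ⟶ Y => φ ≫ a.unit.app Y) := funext fun φ => by
    simp [Adjunction.homEquiv_counit]
  rw [h]
  exact (Equiv.bijective _).comp ⟨fun φ ψ e => (cancel_mono _).1 e, fun ψ => ⟨ψ ≫ inv (a.unit.app Y), by simp⟩⟩

end Groth.Agent.FTors27
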