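import Groth.Agent.FTors27.DerPush

/-!
Derived inverse and direct image between torsion complexes.
-/

set_option autoImplicit false
set_option backward.isDefEq.respectTransparency false
set_option backward.isDefEq.respectTransparency.types false

universe u

open CategoryTheory CategoryTheory.Limits AlgebraicGeometry Opposite
attribute [local instance] HasDerivedCategory.standard

namespace Groth.Agent.FTors27

variable {𝔛 : FSch.Sys.{u}} (h : 𝔛.IsFormal) {Y : Scheme.{u}} (p : ∀ n, 𝔛.X n ⟶ Y)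
  (hp : ∀ n, 𝔛.ι n ≫ p (n + 1) = p n) [∀ n, IsClosedImmersion (p n)]
  (I : Y.IdealSheafData) (hker : ∀ n, (p n).ker = I ^ (n + 1))

omit [∀ n, IsClosedImmersion (p n)] in
theorem isClosedUnderIso_torsF : (FTors.IsTorsF 𝔛 h).IsClosedUnderIsomorphisms :=
  ⟨fun e hM => isTors_of_iso _ e hM⟩

omit [∀ n, IsClosedImmersion (p n)] in
theorem isClosedUnderIso_torsZp : (FTors.IsTorsZp Y I).IsClosedUnderIsomorphisms :=
  ⟨fun e hM => isTors_of_iso _ e hM⟩

include hker in
theorem rpushD_map_bijective [IsLocallyNoetherian Y] [PreservesFiniteLimits (FSch.toSchemeMor 𝔛 h p hp).pull]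
    [SiteCmp.HasRpushD (FSch.toSchemeMor 𝔛 h p hp)]
    (G H : DerivedCategory (FSch.ModF 𝔛 h)) (hG : FTors.IsDTorsF 𝔛 h G) :
    Function.Bijective (fun φ : G ⟶ H => (SiteCmp.RpushD (FSch.toSchemeMor 𝔛 h p hp)).map φ) := by
  haveI : PreservesFiniteColimits (FSch.toSchemeMor 𝔛 h p hp).push := preservesFiniteColimits_κ h p hp
  haveI := isClosedUnderIso_torsF (𝔛 := 𝔛) h
  obtain ⟨e⟩ := nonempty_rpushD_iso (FSch.toSchemeMor 𝔛 h p hp)
  refine map_bijective_of_natIso e ?_
  haveI := isIso_counit_derived (FSch.toSchemeMor 𝔛 h p hp).adj (FTors.IsTorsF 𝔛 h)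
    (fun M hM => isIso_counit h p hp I hker hM) G hG
  exact right_map_bijective_of_isIso_counit (mapDerivedAdj (FSch.toSchemeMor 𝔛 h p hp).adj) G H

include hker in
theorem pullD_torsion [IsLocallyNoetherian Y] [PreservesFiniteLimits (FSch.toSchemeMor 𝔛 h p hp).pull]
    (F : DerivedCategory (ModSite.Mod Y.sheaf)) (hF : FTors.IsDTorsZp Y I F) :
    FTors.IsDTorsF 𝔛 h ((SiteCmp.pullD (FSch.toSchemeMor 𝔛 h p hp)).obj F) := fun i => by
  obtain ⟨e⟩ := nonempty_homology_map_iso (FSch.toSchemeMor 𝔛 h p hp).pull F i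
  exact isTors_of_iso _ e.symm (isTorsF_pull h p hp I hker _ (hF i)).1

include hker in
theorem rpushD_torsion [SiteCmp.HasRpushD (FSch.toSchemeMor 𝔛 h p hp)]
    (G : DerivedCategory (FSch.ModF 𝔛 h)) (hG : FTors.IsDTorsF 𝔛 h G) :
    FTors.IsDTorsZp Y I ((SiteCmp.RpushD (FSch.toSchemeMor 𝔛 h p hp)).obj G) := fun i => by
  haveI : PreservesFiniteColimits (FSch.toSchemeMor 𝔛 h p hp).push := preservesFiniteColimits_κ h p hp
  obtain ⟨e⟩ := nonempty_rpushD_iso (FSch.toSchemeMor 𝔛 h p hp)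
  obtain ⟨e'⟩ := nonempty_homology_map_iso (FSch.toSchemeMor 𝔛 h p hp).push G i
  exact isTors_of_iso _ ((DerivedCategory.homologyFunctor _ i).mapIso (e.app G) ≪≫ e').symm
    (isTorsZp_push h p hp I hker (hG i))

include hker in
theorem pullD_map_bijective [IsLocallyNoetherian Y] [PreservesFiniteLimits (FSch.toSchemeMor 𝔛 h p hp).pull]
    (E F : DerivedCategory (ModSite.Mod Y.sheaf)) (hF : FTors.IsDTorsZp Y I F) :
    Function.Bijective (fun φ : E ⟶ F => (SiteCmp.pullD (FSch.toSchemeMor 𝔛 h p hp)).map φ) := by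
  haveI : PreservesFiniteColimits (FSch.toSchemeMor 𝔛 h p hp).push := preservesFiniteColimits_κ h p hp
  haveI := isClosedUnderIso_torsZp (Y := Y) I
  haveI := isIso_unit_derived (FSch.toSchemeMor 𝔛 h p hp).adj (FTors.IsTorsZp Y I)
    (fun M hM => (isTorsF_pull h p hp I hker M hM).2) F hF
  exact left_map_bijective_of_isIso_unit (mapDerivedAdj (FSch.toSchemeMor 𝔛 h p hp).adj) E F

end Groth.Agent.FTors27
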