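import Groth.Agent.FTors27.DerAdj

/-!
Derived categories of a coreflective exact subcategory.
-/

set_option autoImplicit false
set_option backward.isDefEq.respectTransparency.types false

noncomputable section

universe w w' v v' u u'

open CategoryTheory CategoryTheory.Limits

namespace Groth.Agent.FTors27

variable {A : Type u} [Category.{v} A] [Abelian A] {B : Type u'} [Category.{v'} B] [Abelian B]
  {G : B ⥤ A} {F : A ⥤ B} [G.Additive] [F.Additive] (adj : G ⊣ F)
  [PreservesFiniteLimits G] [PreservesFiniteColimits G]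

include adj in
/-- A functor with an exact left adjoint preserves K-injectivity. -/
theorem isKInjective_map_of_adj (J : CochainComplex A ℤ) (hJ : J.IsKInjective) :
    CochainComplex.IsKInjective ((F.mapHomologicalComplex (ComplexShape.up ℤ)).obj J) where
  nonempty_homotopy_zero {K} f hK := by
    let qB := HomotopyCategory.quotient B (ComplexShape.up ℤ)
    let qA := HomotopyCategory.quotient A (ComplexShape.up ℤ)
    let a := Mod48.adjHomotopy adj
    let h := (a.homEquiv (qB.obj K) (qA.obj J)).symm (qB.map f)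
    have hK' : ((G.mapHomologicalComplex (ComplexShape.up ℤ)).obj K).Acyclic := fun i =>
      (hK i).map G
    obtain ⟨g, hg⟩ := qA.map_surjective (X := (G.mapHomologicalComplex (ComplexShape.up ℤ)).obj K) (Y := J) h
    have h0 : h = 0 := by
      rw [← hg, HomotopyCategory.eq_of_homotopy g 0 (CochainComplex.IsKInjective.homotopyZero g hK'), Functor.map_zero]
      rfl
    have h1 : qB.map f = 0 := by
      refine (Equiv.apply_symm_apply (a.homEquiv _ _) _).symm.trans ?_
      change a.homEquiv _ _ h = 0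
      haveI : (G.mapHomotopyCategory (ComplexShape.up ℤ)).Additive := inferInstance
      rw [h0, Adjunction.homEquiv_unit, Functor.map_zero, comp_zero]
    exact ⟨HomotopyCategory.homotopyOfEq _ _ (h1.trans (qB.map_zero _ _).symm)⟩

variable [HasDerivedCategory.{w} A] [HasDerivedCategory.{w'} B]
  (P : ObjectProperty A)

/-- Complexes with cohomology in `P` have K-injective resolutions with quasi-invertible counit. -/
def GoodRes : Prop :=
  ∀ M : CochainComplex A ℤ, (∀ i, P (M.homology i)) →
    ∃ (J : CochainComplex A ℤ) (u : M ⟶ J), J.IsKInjective ∧ QuasiIso u ∧ QuasiIso (Mod48.cxCounit adj J)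

theorem isIso_Qh_map_iff {X Y : CochainComplex A ℤ} (f : X ⟶ Y) :
    IsIso (DerivedCategory.Qh.map ((HomotopyCategory.quotient A (ComplexShape.up ℤ)).map f)) ↔ QuasiIso f := by
  rw [DerivedCategory.isIso_Qh_map_iff]
  exact HomotopyCategory.quotient_map_mem_quasiIso_iff f |>.trans (HomologicalComplex.mem_quasiIso_iff f)

theorem map_bijective_congr {C D : Type*} [Category* C] [Category* D] (H : C ⥤ D) {X X' Y Y' : C}
    (eX : X ≅ X') (eY : Y ≅ Y') (h : Function.Bijective (fun φ : X' ⟶ Y' => H.map φ)) :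
    Function.Bijective (fun φ : X ⟶ Y => H.map φ) := by
  refine ⟨fun a b hab => ?_, fun ψ => ?_⟩
  · have h1 : eX.inv ≫ a ≫ eY.hom = eX.inv ≫ b ≫ eY.hom := h.1 (by
      simp only [Functor.map_comp]
      exact congrArg (fun t => H.map eX.inv ≫ t ≫ H.map eY.hom) hab)
    simpa using h1
  · obtain ⟨φ, hφ⟩ := h.2 (H.map eX.inv ≫ ψ ≫ H.map eY.hom)
    refine ⟨eX.hom ≫ φ ≫ eY.inv, ?_⟩
    simp only at hφ
    simp [hφ]

/-- The image of a quotient object. -/
def mapQh (X : CochainComplex B ℤ) :
    G.mapDerivedCategory.obj (DerivedCategory.Qh.obj ((HomotopyCategory.quotient B (ComplexShape.up ℤ)).obj X)) ≅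
      DerivedCategory.Qh.obj ((HomotopyCategory.quotient A (ComplexShape.up ℤ)).obj
        ((G.mapHomologicalComplex (ComplexShape.up ℤ)).obj X)) :=
  G.mapDerivedCategoryFactorsh.app ((HomotopyCategory.quotient B (ComplexShape.up ℤ)).obj X)

/-- The counit at a complex, in the derived category. -/
abbrev counitD (J : CochainComplex A ℤ) :
    DerivedCategory.Qh.obj ((HomotopyCategory.quotient A (ComplexShape.up ℤ)).obj
      ((G.mapHomologicalComplex (ComplexShape.up ℤ)).obj ((F.mapHomologicalComplex (ComplexShape.up ℤ)).obj J))) ⟶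
    DerivedCategory.Qh.obj ((HomotopyCategory.quotient A (ComplexShape.up ℤ)).obj J) :=
  DerivedCategory.Qh.map ((HomotopyCategory.quotient A (ComplexShape.up ℤ)).map (Mod48.cxCounit adj J))

/-- Morphisms into the image of a K-injective complex. -/
theorem map_comp_counit_bijective (X : CochainComplex B ℤ) (J : CochainComplex A ℤ) (hJ : J.IsKInjective) :
    Function.Bijective (fun φ : DerivedCategory.Qh.obj ((HomotopyCategory.quotient B (ComplexShape.up ℤ)).obj X) ⟶
        DerivedCategory.Qh.obj ((HomotopyCategory.quotient B (ComplexShape.up ℤ)).obj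
          ((F.mapHomologicalComplex (ComplexShape.up ℤ)).obj J)) =>
      (mapQh (G := G) X).inv ≫ G.mapDerivedCategory.map φ ≫ (mapQh (G := G) _).hom ≫ counitD adj J) := by
  haveI := hJ
  haveI := isKInjective_map_of_adj adj J hJ
  let qB := HomotopyCategory.quotient B (ComplexShape.up ℤ)
  let qA := HomotopyCategory.quotient A (ComplexShape.up ℤ)
  let FJ := (F.mapHomologicalComplex (ComplexShape.up ℤ)).obj J
  have hb := CochainComplex.IsKInjective.Qh_map_bijective (qB.obj X) FJ
  have key : ∀ f : qB.obj X ⟶ qB.obj FJ,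
      (mapQh (G := G) X).inv ≫ G.mapDerivedCategory.map (DerivedCategory.Qh.map f) ≫ (mapQh (G := G) FJ).hom ≫
        counitD adj J =
      DerivedCategory.Qh.map (((Mod48.adjHomotopy adj).homEquiv (qB.obj X) (qA.obj J)).symm f) := by
    intro f
    have hn : G.mapDerivedCategory.map (DerivedCategory.Qh.map f) ≫ (mapQh (G := G) FJ).hom =
        (mapQh (G := G) X).hom ≫ DerivedCategory.Qh.map ((G.mapHomotopyCategory (ComplexShape.up ℤ)).map f) :=
      G.mapDerivedCategoryFactorsh.hom.naturality f
    refine (congrArg (_ ≫ ·) ((Category.assoc _ _ _).symm.trans ((congrArg (· ≫ _) hn).trans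
      (Category.assoc _ _ _)))).trans ((Iso.inv_hom_id_assoc _ _).trans ?_)
    rw [Adjunction.homEquiv_counit]
    exact (DerivedCategory.Qh.map_comp _ _).symm
  refine ⟨fun a b hab => ?_, fun ψ => ?_⟩
  · obtain ⟨a, rfl⟩ := hb.2 a
    obtain ⟨b, rfl⟩ := hb.2 b
    have h1 := (CochainComplex.IsKInjective.Qh_map_bijective _ J).1 ((key a).symm.trans (hab.trans (key b)))
    exact congrArg _ (((Mod48.adjHomotopy adj).homEquiv _ _).symm.injective h1)
  · obtain ⟨g, rfl⟩ := (CochainComplex.IsKInjective.Qh_map_bijective _ J).2 ψ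
    refine ⟨DerivedCategory.Qh.map ((Mod48.adjHomotopy adj).homEquiv (qB.obj X) (qA.obj J) g), ?_⟩
    exact (key _).trans (congrArg _ (Equiv.symm_apply_apply _ g))

variable [P.IsClosedUnderIsomorphisms] (hP : ∀ N : B, P (G.obj N)) [G.ReflectsIsomorphisms]
  (hres : GoodRes adj P)

include hP hres in
/-- Every object is represented by the image of a K-injective complex with invertible counit. -/
theorem exists_iso_map (Y : DerivedCategory B) :
    ∃ J : CochainComplex A ℤ, J.IsKInjective ∧ QuasiIso (Mod48.cxCounit adj J) ∧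
      Nonempty (Y ≅ DerivedCategory.Qh.obj ((HomotopyCategory.quotient B (ComplexShape.up ℤ)).obj
        ((F.mapHomologicalComplex (ComplexShape.up ℤ)).obj J))) := by
  let K := (DerivedCategory.Q : CochainComplex B ℤ ⥤ DerivedCategory B).objPreimage Y
  let e := (DerivedCategory.Q : CochainComplex B ℤ ⥤ _).objObjPreimageIso Y
  have hK : ∀ i, P (((G.mapHomologicalComplex (ComplexShape.up ℤ)).obj K).homology i) := fun i =>
    P.prop_of_iso ((K.sc i).mapHomologyIso G).symm (hP _)
  obtain ⟨J, u, hJ, hu, hc⟩ := hres _ hK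
  let y : K ⟶ (F.mapHomologicalComplex (ComplexShape.up ℤ)).obj J :=
    Mod48.cxUnit adj K ≫ (F.mapHomologicalComplex (ComplexShape.up ℤ)).map u
  have hy : (G.mapHomologicalComplex (ComplexShape.up ℤ)).map y ≫ Mod48.cxCounit adj J = u := by
    ext n
    change G.map (adj.unit.app (K.X n) ≫ F.map (u.f n)) ≫ adj.counit.app (J.X n) = u.f n
    refine (congrArg (· ≫ adj.counit.app (J.X n)) (G.map_comp _ _)).trans ((Category.assoc _ _ _).trans ?_)
    refine (congrArg (_ ≫ ·) (adj.counit.naturality (u.f n))).trans ?_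
    exact adj.left_triangle_components_assoc (K.X n) (u.f n)
  haveI : QuasiIso ((G.mapHomologicalComplex (ComplexShape.up ℤ)).map y ≫ Mod48.cxCounit adj J) := by
    rw [hy]; exact hu
  haveI := hc
  haveI : QuasiIso ((G.mapHomologicalComplex (ComplexShape.up ℤ)).map y) :=
    quasiIso_of_comp_right _ (Mod48.cxCounit adj J)
  haveI : QuasiIso y := (HomologicalComplex.quasiIso_map_iff_of_preservesHomology y G).1 inferInstance
  exact ⟨J, hJ, hc, ⟨e.symm ≪≫ ((DerivedCategory.quotientCompQhIso B).app K).symm ≪≫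
    @asIso _ _ _ _ _ ((isIso_Qh_map_iff y).2 inferInstance)⟩⟩

include adj hP hres in
/-- The derived inclusion is fully faithful. -/
theorem mapDerived_bijective (X Y : DerivedCategory B) :
    Function.Bijective (fun φ : X ⟶ Y => G.mapDerivedCategory.map φ) := by
  obtain ⟨J, hJ, hc, ⟨eY⟩⟩ := exists_iso_map adj P hP hres Y
  let K := (DerivedCategory.Q : CochainComplex B ℤ ⥤ DerivedCategory B).objPreimage X
  let eX : X ≅ DerivedCategory.Qh.obj ((HomotopyCategory.quotient B (ComplexShape.up ℤ)).obj K) :=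
    ((DerivedCategory.Q : CochainComplex B ℤ ⥤ _).objObjPreimageIso X).symm ≪≫
      ((DerivedCategory.quotientCompQhIso B).app K).symm
  refine map_bijective_congr _ eX eY ?_
  haveI : IsIso (counitD adj J) := (isIso_Qh_map_iff _).2 hc
  have hb := map_comp_counit_bijective adj K J hJ
  have h2 : Function.Bijective (fun ψ : G.mapDerivedCategory.obj (DerivedCategory.Qh.obj
      ((HomotopyCategory.quotient B (ComplexShape.up ℤ)).obj K)) ⟶ _ =>
      (mapQh (G := G) K).inv ≫ ψ ≫ (mapQh (G := G) _).hom ≫ counitD adj J) :=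
    ⟨fun a b hab => (cancel_mono ((mapQh (G := G) _).hom ≫ counitD adj J)).1
        ((cancel_epi (mapQh (G := G) K).inv).1 hab),
      fun ψ => ⟨(mapQh (G := G) K).hom ≫ ψ ≫ inv ((mapQh (G := G) _).hom ≫ counitD adj J), by simp⟩⟩
  exact ((Function.Bijective.of_comp_iff' h2 _).1 hb)

include adj hP hres in
/-- The essential image consists of the objects with cohomology in `P`. -/
theorem mem_essImage_iff (X : DerivedCategory A) :
    G.mapDerivedCategory.essImage X ↔ ∀ i, P ((DerivedCategory.homologyFunctor A i).obj X) := by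
  refine ⟨fun hX i => ?_, fun hX => ?_⟩
  · obtain ⟨Y, ⟨e⟩⟩ := hX
    obtain ⟨e'⟩ := nonempty_homology_map_iso G Y i
    exact P.prop_of_iso (e'.symm ≪≫ (DerivedCategory.homologyFunctor A i).mapIso e) (hP _)
  · let K := (DerivedCategory.Q : CochainComplex A ℤ ⥤ DerivedCategory A).objPreimage X
    let e := (DerivedCategory.Q : CochainComplex A ℤ ⥤ _).objObjPreimageIso X
    obtain ⟨J, u, hJ, hu, hc⟩ := hres K fun i => P.prop_of_iso
      ((DerivedCategory.homologyFunctor A i).mapIso e.symm ≪≫ (DerivedCategory.homologyFunctorFactors A i).app K) (hX i)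
    haveI := hu
    haveI : IsIso (counitD adj J) := (isIso_Qh_map_iff _).2 hc
    exact ⟨_, ⟨mapQh (G := G) ((F.mapHomologicalComplex (ComplexShape.up ℤ)).obj J) ≪≫ asIso (counitD adj J) ≪≫
      (DerivedCategory.quotientCompQhIso A).app J ≪≫ (asIso (DerivedCategory.Q.map u)).symm ≪≫ e⟩⟩

include hP hres in
/-- Morphisms from objects with cohomology in `P` do not see the counit. -/
theorem comp_counit_bijective (E : DerivedCategory A)
    (hE : ∀ i, P ((DerivedCategory.homologyFunctor A i).obj E)) (J : CochainComplex A ℤ) (hJ : J.IsKInjective) :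
    Function.Bijective (fun ψ : E ⟶ DerivedCategory.Qh.obj ((HomotopyCategory.quotient A (ComplexShape.up ℤ)).obj
        ((G.mapHomologicalComplex (ComplexShape.up ℤ)).obj ((F.mapHomologicalComplex (ComplexShape.up ℤ)).obj J))) =>
      ψ ≫ counitD adj J) := by
  obtain ⟨Y, ⟨e⟩⟩ := (mem_essImage_iff adj P hP hres E).2 hE
  let K := (DerivedCategory.Q : CochainComplex B ℤ ⥤ DerivedCategory B).objPreimage Y
  let eY : DerivedCategory.Qh.obj ((HomotopyCategory.quotient B (ComplexShape.up ℤ)).obj K) ≅ Y :=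
    (DerivedCategory.quotientCompQhIso B).app K ≪≫ (DerivedCategory.Q : CochainComplex B ℤ ⥤ _).objObjPreimageIso Y
  let ε : DerivedCategory.Qh.obj ((HomotopyCategory.quotient A (ComplexShape.up ℤ)).obj
      ((G.mapHomologicalComplex (ComplexShape.up ℤ)).obj K)) ≅ E :=
    (mapQh (G := G) K).symm ≪≫ G.mapDerivedCategory.mapIso eY ≪≫ e
  have hb := map_comp_counit_bijective adj K J hJ
  have hm := mapDerived_bijective adj P hP hres
    (DerivedCategory.Qh.obj ((HomotopyCategory.quotient B (ComplexShape.up ℤ)).obj K))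
    (DerivedCategory.Qh.obj ((HomotopyCategory.quotient B (ComplexShape.up ℤ)).obj
        ((F.mapHomologicalComplex (ComplexShape.up ℤ)).obj J)))
  refine ⟨fun a b hab => ?_, fun ψ => ?_⟩
  · obtain ⟨a', ha⟩ := hm.2 ((mapQh (G := G) K).hom ≫ ε.hom ≫ a ≫ (mapQh (G := G) _).inv)
    obtain ⟨b', hb'⟩ := hm.2 ((mapQh (G := G) K).hom ≫ ε.hom ≫ b ≫ (mapQh (G := G) _).inv)
    simp only at ha hb' hab
    have h1 : a' = b' := hb.1 (by simp [ha, hb', hab])
    subst h1
    have h2 := ha.symm.trans hb'
    simpa using h2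
  · obtain ⟨φ, hφ⟩ := hb.2 (ε.hom ≫ ψ)
    refine ⟨ε.inv ≫ (mapQh (G := G) K).inv ≫ G.mapDerivedCategory.map φ ≫ (mapQh (G := G) _).hom, ?_⟩
    simp only at hφ
    simp [hφ]

end Groth.Agent.FTors27
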