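import Groth.Agent.FTors27.Image

/-!
Inverse and direct image between power-torsion modules on a locally Noetherian scheme and torsion
modules on a formal scheme over it.
-/

set_option autoImplicit false
set_option backward.isDefEq.respectTransparency false
set_option backward.isDefEq.respectTransparency.types false

noncomputable section

universe u

open CategoryTheory CategoryTheory.Limits AlgebraicGeometry TopologicalSpace Opposite

namespace Groth.Agent.FTors27

variable {𝔛 : FSch.Sys.{u}} (h : 𝔛.IsFormal) {Y : Scheme.{u}} (p : ∀ n, 𝔛.X n ⟶ Y)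
  (hp : ∀ n, 𝔛.ι n ≫ p (n + 1) = p n) [∀ n, IsClosedImmersion (p n)]
  (I : Y.IdealSheafData) (hker : ∀ n, (p n).ker = I ^ (n + 1))

theorem isTors_of_iso {C : Type u} [SmallCategory C] {J : GrothendieckTopology C} {O : Sheaf J CommRingCat.{u}}
    (T : FTors.IdealFam O) {M M' : ModSite.Mod O} (e : M ≅ M') (hM : FTors.IsTors T M) :
    FTors.IsTors T M' := fun U s => by
  have h := (hM U (e.inv.val.app (op U) s)).hom e.hom
  have he : e.hom.val.app (op U) (e.inv.val.app (op U) s) = s :=
    congrArg (fun φ : M' ⟶ M' => φ.val.app (op U) s) e.inv_hom_id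
  rwa [he] at h

include hker in
theorem exists_torsF_iso (N : ModSite.Mod Y.sheaf) (hN : FTors.IsTorsZp Y I N) :
    ∃ M : FSch.ModF 𝔛 h, FTors.IsTorsF 𝔛 h M ∧ Nonempty ((κ h p hp).obj M ≅ N) :=
  ⟨img' h p hp I hker N hN, isTorsF_img' h p hp I hker N hN, ⟨pushImg'Iso h p hp I hker N hN⟩⟩

include hker in
theorem isTorsF_pull [IsLocallyNoetherian Y] (N : ModSite.Mod Y.sheaf) (hN : FTors.IsTorsZp Y I N) :
    FTors.IsTorsF 𝔛 h ((FSch.toSchemeMor 𝔛 h p hp).pull.obj N) ∧
      IsIso ((FSch.toSchemeMor 𝔛 h p hp).adj.unit.app N) := by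
  let a := (FSch.toSchemeMor 𝔛 h p hp).adj
  obtain ⟨M, hM, ⟨e⟩⟩ := exists_torsF_iso h p hp I hker N hN
  haveI hc := isIso_counit h p hp I hker hM
  refine ⟨isTors_of_iso _ ((asIso (a.counit.app M)).symm ≪≫
    (FSch.toSchemeMor 𝔛 h p hp).pull.mapIso e) hM, ?_⟩
  haveI hu : IsIso (a.unit.app ((κ h p hp).obj M)) := by
    have ht := a.right_triangle_components M
    haveI : IsIso (a.unit.app ((κ h p hp).obj M) ≫ (κ h p hp).map (a.counit.app M)) := by
      rw [show a.unit.app ((κ h p hp).obj M) ≫ (κ h p hp).map (a.counit.app M) = 𝟙 _ from ht]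
      infer_instance
    exact IsIso.of_isIso_comp_right (a.unit.app ((κ h p hp).obj M)) ((κ h p hp).map (a.counit.app M))
  haveI : IsIso (e.hom ≫ a.unit.app N) := by
    rw [show e.hom ≫ a.unit.app N = a.unit.app ((κ h p hp).obj M) ≫
      (κ h p hp).map ((FSch.toSchemeMor 𝔛 h p hp).pull.map e.hom) from a.unit.naturality e.hom]
    infer_instance
  exact IsIso.of_isIso_comp_left e.hom (a.unit.app N)

end Groth.Agent.FTors27
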