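import Groth.Agent.FTors27.Classes
import Groth.Agent.FTors27.Equiv
import Mathlib.CategoryTheory.Abelian.Subcategory
import Mathlib.Algebra.Homology.ShortComplex.ExactFunctor
import Mathlib.CategoryTheory.Abelian.Exact

/-!
Torsion modules form a subcategory closed under subobjects, quotients and finite products, and the
torsion functor is right adjoint to its inclusion.
-/

set_option autoImplicit false
set_option backward.isDefEq.respectTransparency.types false

noncomputable section

universe u

open CategoryTheory CategoryTheory.Limits Opposite TopologicalSpace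

namespace Groth.Agent.FTors27

open Mod48 Mod48.ClosedImm SiteMod

variable {T : TopCat.{u}} {O : Sheaf (Opens.grothendieckTopology T) CommRingCat.{u}}
  (fam : FTors.IdealFam O)

theorem killedBy_of_mono {M N : ModSite.Mod O} (φ : M ⟶ N) [Mono φ] {n : ℕ} {W : Opens T}
    {s : (pre M).obj (op W)} (h : FTors.KilledBy fam N n (ap φ s)) : FTors.KilledBy fam M n s :=
  fun V g a ha => ap_injective_of_mono φ <| by
    refine (map_smul _ _ _).trans (Eq.trans ?_ (map_zero _).symm)
    exact (congrArg (a • ·) (res_ap φ g s).symm).trans (h g a ha)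

instance isTors_isClosedUnderSubobjects : (FTors.IsTors fam).IsClosedUnderSubobjects where
  prop_of_mono {M N} φ _ hN := fun W s => by
    refine isTorsSect_of_locally fam fun y hy => ?_
    obtain ⟨V, hV, n, hyV, hn⟩ := tors_exists fam (hN W (ap φ s)) hy
    refine ⟨V, hV, n, hyV, killedBy_of_mono fam φ ?_⟩
    rwa [← show rs N hV (ap φ s) = ap φ (rs M hV s) from res_ap φ (homOfLE hV) s]

instance isTors_isClosedUnderQuotients : (FTors.IsTors fam).IsClosedUnderQuotients where
  prop_of_epi {M N} φ _ hM := fun W s => by
    refine isTorsSect_of_locally fam fun y hy => ?_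
    obtain ⟨V, hV, hyV, m, hm⟩ := locSurj_at φ s hy
    obtain ⟨V', hV', n, hyV', hn⟩ := tors_exists fam (hM V m) hyV
    refine ⟨V', hV'.trans hV, n, hyV', fun V'' g a ha => ?_⟩
    rw [← rs_rs N hV hV' s, ← hm, show rs N hV' (ap φ m) = ap φ (rs M hV' m) from res_ap φ (homOfLE hV') m]
    refine (congrArg (a • ·) (res_ap φ g _)).trans ?_
    exact (map_smul _ _ _).symm.trans ((congrArg (ap φ) (hn g a ha)).trans (map_zero _))

instance isTors_containsZero : (FTors.IsTors fam).ContainsZero where
  exists_zero := by
    obtain ⟨Z, hZ⟩ := HasZeroObject.zero (C := ModSite.Mod O)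
    refine ⟨Z, hZ, fun W s => ?_⟩
    obtain rfl : s = 0 := congrArg (fun φ : Z ⟶ Z => ap φ s) (hZ.eq_of_src (𝟙 Z) 0)
    exact isTorsSect_of_locally fam fun y hy =>
      ⟨W, le_rfl, 0, hy, (FTors.KilledBy.zero fam Z 0 W).res (homOfLE le_rfl)⟩

instance isTors_isClosedUnderBinaryProducts : (FTors.IsTors fam).IsClosedUnderBinaryProducts where
  limitsOfShape_le := by
    rintro X ⟨p⟩
    let A : ModSite.Mod O := p.diag.obj ⟨.left⟩
    let B : ModSite.Mod O := p.diag.obj ⟨.right⟩
    have hbi : FTors.IsTors fam (A ⊞ B) := fun W s => by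
      have hA := (p.prop_diag_obj ⟨.left⟩ W (ap (biprod.fst : A ⊞ B ⟶ A) s)).hom (biprod.inl : A ⟶ A ⊞ B)
      have hB := (p.prop_diag_obj ⟨.right⟩ W (ap (biprod.snd : A ⊞ B ⟶ B) s)).hom (biprod.inr : B ⟶ A ⊞ B)
      have hs := congrArg (fun φ : A ⊞ B ⟶ A ⊞ B => ap φ s) (biprod.total (X := A) (Y := B))
      rw [show s = ap biprod.inl (ap biprod.fst s) + ap biprod.inr (ap biprod.snd s) from hs.symm]
      exact hA.add hB
    refine (FTors.IsTors fam).prop_of_iso ?_ hbi
    exact (IsLimit.conePointUniqueUpToIso (BinaryBiproduct.isLimit A B)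
      ((IsLimit.postcomposeHomEquiv (diagramIsoPair p.diag) _).symm p.isLimit))

instance isTors_isClosedUnderKernels : (FTors.IsTors fam).IsClosedUnderKernels := inferInstance

instance isTors_isClosedUnderCokernels : (FTors.IsTors fam).IsClosedUnderCokernels := inferInstance

instance isTors_isClosedUnderFiniteProducts : (FTors.IsTors fam).IsClosedUnderFiniteProducts :=
  .mk'

section Exact

variable {A : Type*} [Category* A] [Abelian A] (P : ObjectProperty A) [P.ContainsZero] [P.IsClosedUnderKernels]
  [P.IsClosedUnderCokernels] [P.IsClosedUnderFiniteProducts]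

/-- The inclusion of a closed subcategory is left exact. -/
theorem preservesFiniteLimits_ι : PreservesFiniteLimits P.ι := by
  haveI : ∀ {X Y : P.FullSubcategory} (f : X ⟶ Y), PreservesLimit (parallelPair f 0) P.ι := fun f =>
    P.preservesKernels_ι f
  exact Functor.preservesFiniteLimits_of_preservesKernels P.ι

/-- The inclusion of a closed subcategory is right exact. -/
theorem preservesFiniteColimits_ι : PreservesFiniteColimits P.ι := by
  haveI : ∀ {X Y : P.FullSubcategory} (f : X ⟶ Y), PreservesColimit (parallelPair f 0) P.ι := fun f =>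
    P.preservesCokernels_ι f
  exact Functor.preservesFiniteColimits_of_preservesCokernels P.ι

end Exact

theorem isTors_gamma (M : ModSite.Mod O) : FTors.IsTors fam ((FTors.gamma O fam).obj M) := fun W s => by
  refine isTorsSect_of_locally fam fun y hy => ?_
  obtain ⟨V, hV, n, hyV, hn⟩ := tors_exists fam (M := M) (s := (s : {x // x ∈ FTors.torsSub fam M W}).1)
    (s : {x // x ∈ FTors.torsSub fam M W}).2 hy
  exact ⟨V, hV, n, hyV, fun V' g a ha => Subtype.ext (hn g a ha)⟩

theorem mono_gammaι' (M : ModSite.Mod O) : Mono ((FTors.gammaι fam).app M) :=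
  mono_of_ap_injective _ fun _ _ hz => Subtype.ext hz

/-- The inclusion is invertible on torsion modules. -/
theorem isIso_gammaι {M : ModSite.Mod O} (hM : FTors.IsTors fam M) : IsIso ((FTors.gammaι fam).app M) := by
  haveI := mono_gammaι' fam M
  haveI : Epi ((FTors.gammaι fam).app M) := (epi_iff_locSurj _).2 fun W s =>
    ⟨⊤, GrothendieckTopology.top_mem _ _, fun V v _ =>
      ⟨(⟨res (pre M) v.op s, hM V _⟩ : {x // x ∈ FTors.torsSub fam M V}), rfl⟩⟩
  exact isIso_of_mono_of_epi _

/-- The torsion functor, with values in torsion modules. -/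
abbrev gammaR : ModSite.Mod O ⥤ (FTors.IsTors fam).FullSubcategory :=
  (FTors.IsTors fam).lift (FTors.gamma O fam) (isTors_gamma fam)

instance : (gammaR fam).Additive where
  map_add {M N f g} := by
    ext1
    exact (FTors.gamma O fam).map_add

/-- The torsion functor is right adjoint to the inclusion of torsion modules. -/
def gammaAdj : (FTors.IsTors fam).ι ⊣ gammaR fam :=
  Adjunction.mkOfHomEquiv
    { homEquiv := fun X M =>
        { toFun := fun f => (FTors.IsTors fam).homMk
            (haveI := isIso_gammaι fam X.property; inv ((FTors.gammaι fam).app X.obj) ≫ (FTors.gamma O fam).map f)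
          invFun := fun g => g.hom ≫ (FTors.gammaι fam).app M
          left_inv := fun f => by
            haveI := isIso_gammaι fam X.property
            change (inv ((FTors.gammaι fam).app X.obj) ≫ (FTors.gamma O fam).map f) ≫ (FTors.gammaι fam).app M = f
            rw [Category.assoc, (FTors.gammaι fam).naturality]
            exact IsIso.inv_hom_id_assoc _ _
          right_inv := fun g => by
            haveI := isIso_gammaι fam X.property
            haveI := mono_gammaι' fam M
            ext1
            refine (cancel_mono ((FTors.gammaι fam).app M)).1 ?_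
            change (inv ((FTors.gammaι fam).app X.obj) ≫
              (FTors.gamma O fam).map (g.hom ≫ (FTors.gammaι fam).app M)) ≫ (FTors.gammaι fam).app M = _
            rw [Category.assoc]
            refine (congrArg (_ ≫ ·) ((FTors.gammaι fam).naturality (g.hom ≫ (FTors.gammaι fam).app M))).trans ?_
            exact IsIso.inv_hom_id_assoc _ _ }
      homEquiv_naturality_left_symm := fun {X X' M} f g => by
        change (f.hom ≫ g.hom) ≫ (FTors.gammaι fam).app M = f.hom ≫ g.hom ≫ (FTors.gammaι fam).app M
        exact Category.assoc _ _ _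
      homEquiv_naturality_right := fun {X M M'} f g => by
        ext1
        exact (congrArg (_ ≫ ·) ((FTors.gamma O fam).map_comp f g)).trans (Category.assoc _ _ _).symm }

theorem gammaAdj_counit_app (M : ModSite.Mod O) :
    (gammaAdj fam).counit.app M = (FTors.gammaι fam).app M := by
  change (𝟙 ((gammaR fam).obj M) : (gammaR fam).obj M ⟶ (gammaR fam).obj M).hom ≫ (FTors.gammaι fam).app M = _
  exact Category.id_comp ((FTors.gammaι fam).app M)

end Groth.Agent.FTors27
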