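import Groth.Agent.FTors27.Core
import Groth.Agent.FTors27.TorsCat
import Groth.Agent.FTors27.DerSub
import Groth.Agent.Mod48.ModPush
import Groth.Prelude.Def_FTors2

/-!
The derived torsion functor of a family of ideals admitting charts.
-/

set_option autoImplicit false
set_option backward.isDefEq.respectTransparency.types false

noncomputable section

universe u

open CategoryTheory CategoryTheory.Limits Opposite TopologicalSpace
attribute [local instance] HasDerivedCategory.standard

namespace Groth.Agent.FTors27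

open Mod48 Mod48.ClosedImm SiteMod

variable {T : TopCat.{u}} {O : Sheaf (Opens.grothendieckTopology T) CommRingCat.{u}}
  (fam : FTors.IdealFam O)

/-- Object of the derived category defined by a complex. -/
abbrev qh (K : CochainComplex (ModSite.Mod O) ℤ) : DerivedCategory (ModSite.Mod O) :=
  DerivedCategory.Qh.obj ((HomotopyCategory.quotient _ (ComplexShape.up ℤ)).obj K)

/-- The inclusion of the torsion subcomplex, in the derived category. -/
abbrev gammaQh (K : CochainComplex (ModSite.Mod O) ℤ) : qh (gammaCx fam K) ⟶ qh K :=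
  DerivedCategory.Qh.map ((HomotopyCategory.quotient _ (ComplexShape.up ℤ)).map (gammaCxι fam K))

variable {fam}

theorem isTors_homology_gammaCx (K : CochainComplex (ModSite.Mod O) ℤ) (i : ℤ) :
    FTors.IsTors fam ((gammaCx fam K).homology i) :=
  (FTors.IsTors fam).prop_of_epi ((gammaCx fam K).homologyπ i)
    ((FTors.IsTors fam).prop_of_mono ((gammaCx fam K).iCycles i) (isTors_gamma fam (K.X i)))

theorem gammaCxι_f (K : CochainComplex (ModSite.Mod O) ℤ) (j : ℤ) :
    (gammaCxι fam K).f j = (FTors.gammaι fam).app (K.X j) := by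
  change (FTors.gammaι fam).app (K.X j) ≫ 𝟙 _ = _
  exact Category.comp_id _

theorem cxCounit_gammaAdj (K : CochainComplex (ModSite.Mod O) ℤ) :
    Mod48.cxCounit (gammaAdj fam) K = gammaCxι fam K := by
  refine HomologicalComplex.hom_ext _ _ fun j => ?_
  exact (gammaAdj_counit_app fam (K.X j)).trans (gammaCxι_f K j).symm

variable (hcov : ∀ x : T, ∃ c : Chart fam, x ∈ c.U)

include hcov in
theorem quasiIso_gammaCxι_iff (K : CochainComplex (ModSite.Mod O) ℤ) [∀ i, Injective (K.X i)] :
    QuasiIso (gammaCxι fam K) ↔ ∀ i, FTors.IsTors fam (K.homology i) := by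
  refine ⟨fun h i => ?_, fun h => quasiIso_gammaCxι K h hcov⟩
  haveI := h
  haveI : IsIso (HomologicalComplex.homologyMap (gammaCxι fam K) i) :=
    (quasiIsoAt_iff_isIso_homologyMap _ i).1 (h.1 i)
  exact isTors_of_iso fam (asIso (HomologicalComplex.homologyMap (gammaCxι fam K) i)) (isTors_homology_gammaCx K i)

theorem exists_resolution (M : CochainComplex (ModSite.Mod O) ℤ) :
    ∃ (J : CochainComplex (ModSite.Mod O) ℤ) (u : M ⟶ J),
      J.IsKInjective ∧ QuasiIso u ∧ ∀ i, Injective (J.X i) := by
  have : IsGrothendieckAbelian.{u} (ModSite.Mod O) := Coh69.sheafOfModules_isGrothendieckAbelian (ModSite.ringSh O)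
  obtain ⟨I, φ, h1, h2, -, h4⟩ := CohDer42.exists_kinjective_resolution M
  exact ⟨I, φ, h1, h2, h4⟩

/-- Every object is represented by a K-injective complex of injectives. -/
theorem exists_qh_iso (E : DerivedCategory (ModSite.Mod O)) :
    ∃ J : CochainComplex (ModSite.Mod O) ℤ, J.IsKInjective ∧ (∀ i, Injective (J.X i)) ∧ Nonempty (qh J ≅ E) := by
  obtain ⟨J, u, h1, h2, h3⟩ := exists_resolution
    ((DerivedCategory.Q : CochainComplex (ModSite.Mod O) ℤ ⥤ _).objPreimage E)
  haveI := h2
  exact ⟨J, h1, h3, ⟨(DerivedCategory.quotientCompQhIso _).app J ≪≫ (asIso (DerivedCategory.Q.map u)).symm ≪≫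
    (DerivedCategory.Q : CochainComplex (ModSite.Mod O) ℤ ⥤ _).objObjPreimageIso E⟩⟩

theorem isTors_isClosedUnderIso : (FTors.IsTors fam).IsClosedUnderIsomorphisms := inferInstance

theorem isDTors_of_iso {E E' : DerivedCategory (ModSite.Mod O)} (e : E ≅ E') (h : FTors.IsDTors fam E) :
    FTors.IsDTors fam E' :=
  fun i => isTors_of_iso fam ((DerivedCategory.homologyFunctor _ i).mapIso e) (h i)

theorem isDTors_qh_iff (K : CochainComplex (ModSite.Mod O) ℤ) :
    FTors.IsDTors fam (qh K) ↔ ∀ i, FTors.IsTors fam (K.homology i) := by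
  let e := fun i => (DerivedCategory.homologyFunctor _ i).mapIso ((DerivedCategory.quotientCompQhIso _).app K) ≪≫
    (DerivedCategory.homologyFunctorFactors _ i).app K
  exact ⟨fun h i => isTors_of_iso fam (e i) (h i), fun h i => isTors_of_iso fam (e i).symm (h i)⟩

include hcov in
theorem goodRes : GoodRes (gammaAdj fam) (FTors.IsTors fam) := fun M hM => by
  obtain ⟨J, u, h1, h2, h3⟩ := exists_resolution M
  refine ⟨J, u, h1, h2, ?_⟩
  rw [cxCounit_gammaAdj]
  haveI := h2
  haveI : ∀ i, IsIso (HomologicalComplex.homologyMap u i) := fun i =>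
    (quasiIsoAt_iff_isIso_homologyMap _ i).1 (h2.1 i)
  exact quasiIso_gammaCxι J (fun i => isTors_of_iso fam (asIso (HomologicalComplex.homologyMap u i)) (hM i)) hcov

section Incl

instance : PreservesFiniteLimits (FTors.IsTors fam).ι := preservesFiniteLimits_ι _

instance : PreservesFiniteColimits (FTors.IsTors fam).ι := preservesFiniteColimits_ι _

include hcov in
theorem ι_mapDerived_bijective [HasDerivedCategory (FTors.IsTors fam).FullSubcategory]
    (X Y : DerivedCategory (FTors.IsTors fam).FullSubcategory) :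
    Function.Bijective (fun φ : X ⟶ Y => (FTors.IsTors fam).ι.mapDerivedCategory.map φ) :=
  mapDerived_bijective (gammaAdj fam) (FTors.IsTors fam) (fun N => N.property) (goodRes hcov) X Y

include hcov in
theorem ι_essImage_iff [HasDerivedCategory (FTors.IsTors fam).FullSubcategory]
    (E : DerivedCategory (ModSite.Mod O)) :
    (FTors.IsTors fam).ι.mapDerivedCategory.essImage E ↔ FTors.IsDTors fam E :=
  mem_essImage_iff (gammaAdj fam) (FTors.IsTors fam) (fun N => N.property) (goodRes hcov) E

include hcov in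
theorem comp_gammaQh_bijective (E : DerivedCategory (ModSite.Mod O)) (hE : FTors.IsDTors fam E)
    (J : CochainComplex (ModSite.Mod O) ℤ) (hJ : J.IsKInjective) :
    Function.Bijective (fun ψ : E ⟶ qh (gammaCx fam J) => ψ ≫ gammaQh fam J) := by
  have h := comp_counit_bijective (gammaAdj fam) (FTors.IsTors fam) (fun N => N.property) (goodRes hcov) E hE J hJ
  rw [counitD, cxCounit_gammaAdj] at h
  exact h

end Incl

section RGamma

variable [FTors.HasRgamma fam]

/-- The unit of the derived torsion functor. -/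
abbrev gammaUnit : FTors.gammaKh fam ⟶ DerivedCategory.Qh ⋙ FTors.Rgamma fam :=
  (FTors.gammaKh fam).totalRightDerivedUnit DerivedCategory.Qh
    (HomotopyCategory.quasiIso (ModSite.Mod O) (ComplexShape.up ℤ))

theorem isIso_gammaUnit (J : CochainComplex (ModSite.Mod O) ℤ) (hJ : J.IsKInjective) :
    IsIso ((gammaUnit (fam := fam)).app ((HomotopyCategory.quotient _ (ComplexShape.up ℤ)).obj J)) :=
  Mod48.isIso_unit_of_kInjective (FTors.Rgamma fam) gammaUnit (Mod48.enoughKInj_mod O) J hJ

/-- The value of the derived torsion functor at a K-injective complex. -/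
def unitIso (J : CochainComplex (ModSite.Mod O) ℤ) (hJ : J.IsKInjective) :
    qh (gammaCx fam J) ≅ (FTors.Rgamma fam).obj (qh J) :=
  @asIso _ _ _ _ _ (isIso_gammaUnit (fam := fam) J hJ)

theorem gammaτ_app (J : CochainComplex (ModSite.Mod O) ℤ) :
    (FTors.gammaτ fam).app ((HomotopyCategory.quotient _ (ComplexShape.up ℤ)).obj J) = gammaQh fam J := by
  change (FTors.gammaτ0 fam).app J = _
  simp only [FTors.gammaτ0, NatTrans.comp_app, Functor.associator_inv_app, Functor.associator_hom_app,
    Functor.leftUnitor_hom_app, Functor.whiskerRight_app, Category.id_comp]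
  erw [Category.comp_id]
  refine (congrArg (· ≫ _) (DerivedCategory.Qh.map_id _)).trans ((Category.id_comp _).trans ?_)
  exact ((HomotopyCategory.quotient _ (ComplexShape.up ℤ) ⋙ DerivedCategory.Qh).map_comp _ _).symm

theorem unitIso_hom_comp_ε (J : CochainComplex (ModSite.Mod O) ℤ) (hJ : J.IsKInjective) :
    (unitIso (fam := fam) J hJ).hom ≫ (FTors.Rgammaε fam).app (qh J) = gammaQh fam J := by
  change (gammaUnit (fam := fam)).app ((HomotopyCategory.quotient _ (ComplexShape.up ℤ)).obj J) ≫ _ = _
  have h := Functor.rightDerived_fac_app (FTors.Rgamma fam) (gammaUnit (fam := fam))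
    (HomotopyCategory.quasiIso (ModSite.Mod O) (ComplexShape.up ℤ)) (𝟭 (DerivedCategory (ModSite.Mod O)))
    (FTors.gammaτ fam ≫ (Functor.rightUnitor _).inv) ((HomotopyCategory.quotient _ (ComplexShape.up ℤ)).obj J)
  refine h.trans ?_
  rw [← gammaτ_app]
  exact Category.comp_id _

theorem isDTors_rgamma (E : DerivedCategory (ModSite.Mod O)) : FTors.IsDTors fam ((FTors.Rgamma fam).obj E) := by
  obtain ⟨J, hJ, -, ⟨e⟩⟩ := exists_qh_iso E
  refine isDTors_of_iso ((FTors.Rgamma fam).mapIso e) (isDTors_of_iso (unitIso J hJ) ?_)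
  exact (isDTors_qh_iff (gammaCx fam J)).2 (isTors_homology_gammaCx J)

include hcov in
/-- Torsion cohomology is detected by the counit. -/
theorem isDTors_iff_isIso_ε (E : DerivedCategory (ModSite.Mod O)) :
    FTors.IsDTors fam E ↔ IsIso ((FTors.Rgammaε fam).app E) := by
  refine ⟨fun hE => ?_, fun h => isDTors_of_iso (@asIso _ _ _ _ _ h) (isDTors_rgamma E)⟩
  obtain ⟨J, hJ, hJ', ⟨e⟩⟩ := exists_qh_iso E
  haveI := hJ'
  have hq : IsIso (gammaQh fam J) :=
    (isIso_Qh_map_iff _).2 ((quasiIso_gammaCxι_iff hcov J).2 ((isDTors_qh_iff J).1 (isDTors_of_iso e.symm hE)))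
  haveI : IsIso ((FTors.Rgammaε fam).app (qh J)) := by
    rw [show (FTors.Rgammaε fam).app (qh J) = (unitIso (fam := fam) J hJ).inv ≫ gammaQh fam J from
      (Iso.eq_inv_comp _).2 (unitIso_hom_comp_ε J hJ)]
    infer_instance
  exact (NatTrans.isIso_app_iff_of_iso _ e).1 this

include hcov in
/-- The universal property of the derived torsion functor. -/
theorem comp_ε_bijective (E F : DerivedCategory (ModSite.Mod O)) (hE : FTors.IsDTors fam E) :
    Function.Bijective (fun φ : E ⟶ (FTors.Rgamma fam).obj F => φ ≫ (FTors.Rgammaε fam).app F) := by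
  obtain ⟨J, hJ, -, ⟨e⟩⟩ := exists_qh_iso F
  let ε : qh (gammaCx fam J) ≅ (FTors.Rgamma fam).obj F :=
    unitIso J hJ ≪≫ (FTors.Rgamma fam).mapIso e
  have hε : ε.hom ≫ (FTors.Rgammaε fam).app F = gammaQh fam J ≫ e.hom := by
    refine (Category.assoc _ _ _).trans ((congrArg (_ ≫ ·) ((FTors.Rgammaε fam).naturality e.hom)).trans ?_)
    exact (Category.assoc _ _ _).symm.trans (congrArg (· ≫ e.hom) (unitIso_hom_comp_ε J hJ))
  have hb := comp_gammaQh_bijective hcov E hE J hJ
  refine ⟨fun a b hab => ?_, fun ψ => ?_⟩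
  · have h1 : a ≫ ε.inv = b ≫ ε.inv := hb.1 (by
      refine (cancel_mono e.hom).1 ?_
      simp only [Category.assoc, ← hε, Iso.inv_hom_id_assoc]
      exact hab)
    exact (cancel_mono ε.inv).1 h1
  · obtain ⟨φ, hφ⟩ := hb.2 (ψ ≫ e.inv)
    refine ⟨φ ≫ ε.hom, ?_⟩
    simp only at hφ
    simp only [Category.assoc, hε, ← Category.assoc φ, hφ, Iso.inv_hom_id, Category.comp_id]

end RGamma

end Groth.Agent.FTors27
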