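import Groth.Agent.FTors27.DerKappa
import Groth.Agent.FTors27.DerTors
import Groth.Agent.FTors27.Charts
import Groth.Agent.FCompl13.FlatCompl
import Groth.Prelude.Def_FTors3

/-!
Derived torsion commutes with the direct image from a completion.
-/

set_option autoImplicit false
set_option backward.isDefEq.respectTransparency false
set_option backward.isDefEq.respectTransparency.types false

universe u

open CategoryTheory CategoryTheory.Limits AlgebraicGeometry Opposite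
attribute [local instance] HasDerivedCategory.standard

namespace Groth.Agent.FTors27

theorem bijective_comp_map_of_adj {C D : Type*} [Category* C] [Category* D] {L : D ⥤ C} {R R' : C ⥤ D}
    (a : L ⊣ R') (e : R ≅ R') (T : D) {X Y : C} (ε : X ⟶ Y)
    (h : Function.Bijective (fun φ : L.obj T ⟶ X => φ ≫ ε)) :
    Function.Bijective (fun ψ : T ⟶ R.obj X => ψ ≫ R.map ε) := by
  have h1 : Function.Bijective (fun ψ : T ⟶ R'.obj X => ψ ≫ R'.map ε) := by
    refine (Function.Bijective.of_comp_iff _ (a.homEquiv T X).bijective).1 ?_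
    have : (fun ψ : T ⟶ R'.obj X => ψ ≫ R'.map ε) ∘ (a.homEquiv T X) =
        (a.homEquiv T Y) ∘ (fun φ : L.obj T ⟶ X => φ ≫ ε) :=
      funext fun φ => (a.homEquiv_naturality_right φ ε).symm
    rw [this]
    exact (a.homEquiv T Y).bijective.comp h
  have hfun : ∀ ψ : T ⟶ R.obj X, ψ ≫ R.map ε = ((ψ ≫ e.hom.app X) ≫ R'.map ε) ≫ e.inv.app Y := fun ψ => by
    simp
  refine ⟨fun p q hpq => ?_, fun ψ => ?_⟩
  · simp only [hfun] at hpq
    exact (cancel_mono (e.hom.app X)).1 (h1.1 ((cancel_mono (e.inv.app Y)).1 hpq))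
  · obtain ⟨φ, hφ⟩ := h1.2 (ψ ≫ e.hom.app Y)
    refine ⟨φ ≫ e.inv.app X, ?_⟩
    simp only at hφ
    simp [hfun, hφ]

/-- Two objects with the same universal property over a common target are uniquely isomorphic. -/
theorem existsUnique_iso_over {D : Type*} [Category* D] {A B Z : D} (f : A ⟶ Z) (g : B ⟶ Z)
    (hf : ∀ T : D, (T = A ∨ T = B) → Function.Bijective (fun ψ : T ⟶ A => ψ ≫ f))
    (hg : ∀ T : D, (T = A ∨ T = B) → Function.Bijective (fun ψ : T ⟶ B => ψ ≫ g)) :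
    ∃! e : A ≅ B, e.hom ≫ g = f := by
  obtain ⟨a, ha⟩ := (hg A (.inl rfl)).2 f
  obtain ⟨b, hb⟩ := (hf B (.inr rfl)).2 g
  simp only at ha hb
  refine ⟨⟨a, b, (hf A (.inl rfl)).1 (by simp [hb, ha]), (hg B (.inr rfl)).1 (by simp [hb, ha])⟩, ha, fun e he => ?_⟩
  ext1
  exact (hg A (.inl rfl)).1 (by simpa [ha] using he)

variable {𝔛 : FSch.Sys.{u}} (h : 𝔛.IsFormal) {Y : Scheme.{u}} (p : ∀ n, 𝔛.X n ⟶ Y)
  (hp : ∀ n, 𝔛.ι n ≫ p (n + 1) = p n) [∀ n, IsClosedImmersion (p n)]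
  (I : Y.IdealSheafData) (hker : ∀ n, (p n).ker = I ^ (n + 1))

include hker in
theorem preservesFiniteLimits_pull [IsLocallyNoetherian Y] (h𝔛 : 𝔛.IsLocNoethFormal) :
    PreservesFiniteLimits (FSch.toSchemeMor 𝔛 h p hp).pull :=
  FCompl13.isFlat_toSchemeMor 𝔛 h𝔛 p hp I hker

include hker in
theorem existsUnique_iso_rgammaZp_rpushD [IsLocallyNoetherian Y] (h𝔛 : 𝔛.IsLocNoethFormal)
    [SiteCmp.HasRpushD (FSch.toSchemeMor 𝔛 h p hp)] [FTors.HasRgammaT 𝔛 h] [FTors.HasRgammaZp Y I]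
    (E : DerivedCategory (FSch.ModF 𝔛 h)) :
    ∃! e : (FTors.RgammaZp Y I).obj ((SiteCmp.RpushD (FSch.toSchemeMor 𝔛 h p hp)).obj E) ≅
        (SiteCmp.RpushD (FSch.toSchemeMor 𝔛 h p hp)).obj ((FTors.RgammaT 𝔛 h).obj E),
      e.hom ≫ (SiteCmp.RpushD (FSch.toSchemeMor 𝔛 h p hp)).map ((FTors.RgammaTε 𝔛 h).app E) =
        (FTors.RgammaZpε Y I).app ((SiteCmp.RpushD (FSch.toSchemeMor 𝔛 h p hp)).obj E) := by
  haveI : PreservesFiniteColimits (FSch.toSchemeMor 𝔛 h p hp).push := preservesFiniteColimits_κ h p hp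
  haveI := preservesFiniteLimits_pull h p hp I hker h𝔛
  obtain ⟨e⟩ := nonempty_rpushD_iso (FSch.toSchemeMor 𝔛 h p hp)
  have hcovX := exists_formalChart h𝔛
  have hcovY := exists_schemeChart (X := Y) I
  have hA : FTors.IsDTorsZp Y I ((FTors.RgammaZp Y I).obj ((SiteCmp.RpushD (FSch.toSchemeMor 𝔛 h p hp)).obj E)) :=
    isDTors_rgamma _
  have hB : FTors.IsDTorsZp Y I
      ((SiteCmp.RpushD (FSch.toSchemeMor 𝔛 h p hp)).obj ((FTors.RgammaT 𝔛 h).obj E)) :=
    rpushD_torsion h p hp I hker _ (isDTors_rgamma (fam := FTors.openIdealFam 𝔛 h) E)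
  refine existsUnique_iso_over _ _ (fun T hT => ?_) (fun T hT => ?_)
  · refine comp_ε_bijective hcovY T _ ?_
    rcases hT with rfl | rfl
    · exact hA
    · exact hB
  · refine bijective_comp_map_of_adj (mapDerivedAdj (FSch.toSchemeMor 𝔛 h p hp).adj) e T _ ?_
    refine comp_ε_bijective (fam := FTors.openIdealFam 𝔛 h) hcovX _ E ?_
    refine pullD_torsion h p hp I hker T ?_
    rcases hT with rfl | rfl
    · exact hA
    · exact hB

end Groth.Agent.FTors27
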