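import Groth.Agent.FTors27.StalkQiso
import Groth.Agent.FTors27.DerPushComm

/-!
Derived torsion commutes with the inverse image to a completion.
-/

set_option autoImplicit false
set_option backward.isDefEq.respectTransparency false
set_option backward.isDefEq.respectTransparency.types false

noncomputable section

universe u

open CategoryTheory CategoryTheory.Limits AlgebraicGeometry Opposite TopologicalSpace
attribute [local instance] HasDerivedCategory.standard

namespace Groth.Agent.FTors27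

open Mod48 Mod48.ClosedImm SiteMod

variable {𝔛 : FSch.Sys.{u}} (h : 𝔛.IsFormal) {Y : Scheme.{u}} (p : ∀ n, 𝔛.X n ⟶ Y)
  (hp : ∀ n, 𝔛.ι n ≫ p (n + 1) = p n) [∀ n, IsClosedImmersion (p n)]
  (I : Y.IdealSheafData) (hker : ∀ n, (p n).ker = I ^ (n + 1))

local notation "cc" => FSch.schSharp 𝔛 h p hp

/-- The inverse image functor. -/
abbrev pl : ModSite.Mod Y.sheaf ⥤ FSch.ModF 𝔛 h := (ringedMap cc).pull

instance additive_pl : (pl h p hp).Additive := Adjunction.left_adjoint_additive (ringedMap cc).adj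

/-- The inverse image of a complex. -/
abbrev plCx (K : CochainComplex (ModSite.Mod Y.sheaf) ℤ) : CochainComplex (FSch.ModF 𝔛 h) ℤ :=
  ((pl h p hp).mapHomologicalComplex (ComplexShape.up ℤ)).obj K

include hker in
/-- Charts matched along the inverse image. -/
theorem exists_charts [IsLocallyNoetherian Y] (h𝔛 : 𝔛.IsLocNoethFormal) (x : TopCat.of (𝔛.X 0)) :
    ∃ (cY : Chart (FTors.powIdealFam Y I)) (cX : Chart (FTors.openIdealFam 𝔛 h))
      (hy : pb p x ∈ cY.U) (hx : x ∈ cX.U),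
      gens cX hx = (gens cY hy).map (βx cc x) := by
  obtain ⟨V, hV, hyV, -⟩ := exists_affine_mem (X := Y) ⊤ (x := pb p x) trivial
  let cY := schemeChart I V hV
  have hU : IsAffineOpen (p 0 ⁻¹ᵁ V) := hV.preimage (p 0)
  let g : Fin cY.r → FBlow13.Sec 𝔛 h𝔛.1 (p 0 ⁻¹ᵁ V) := fun i => FCompl13.sg h p hp V (cY.g i)
  have hg : Ideal.span (Set.range g) = FCompl13.secIdeal 𝔛 h𝔛.1 (p 0 ⁻¹ᵁ V) := by
    have e : Ideal.span (Set.range g) = (I.ideal ⟨V, hV⟩).map (FCompl13.sg h p hp V) := by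
      rw [show I.ideal ⟨V, hV⟩ = Ideal.span (Set.range cY.g) from cY.span_g.symm, Ideal.map_span, ← Set.range_comp]
      rfl
    rw [e]
    refine le_antisymm (Ideal.map_le_iff_le_comap.2 fun b hb => ?_) fun a ha => ?_
    · exact (crn_eq_zero_iff h p hp I hker 0 hV b).2 (by rwa [zero_add, pow_one])
    · have := mem_map_of_proj_eq_zero h p hp I hker 0 hV (a := a) ha
      rwa [zero_add, pow_one] at this
  refine ⟨cY, formalChartWith h𝔛 (p 0 ⁻¹ᵁ V) hU g hg, hyV, hyV, ?_⟩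
  simp only [gens, List.map_ofFn]
  refine congrArg List.ofFn (funext fun i => ?_)
  exact (βx_grR cc hyV (cY.g i)).symm

variable (x : TopCat.of (𝔛.X 0))

include hker in
theorem flat_β [IsLocallyNoetherian Y] (h𝔛 : 𝔛.IsLocNoethFormal) : (βx cc x).Flat :=
  flat_βx cc (FCompl13.flat_stalk 𝔛 h𝔛 p hp I hker x)

variable (J : CochainComplex (ModSite.Mod Y.sheaf) ℤ)

/-- The stalk of the inverse image of the torsion inclusion. -/
abbrev plι (n : ℤ) : (stalkMC x (plCx h p hp (gammaCx (FTors.powIdealFam Y I) J))).X n →ₗ[Ay (𝔛.Osh h) x]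
    (stalkMC x (plCx h p hp J)).X n :=
  stm x ((pl h p hp).map ((gammaCxι (FTors.powIdealFam Y I) J).f n))

theorem plι_comm (n : ℤ) (z : (stalkMC x (plCx h p hp (gammaCx (FTors.powIdealFam Y I) J))).X n) :
    (stalkMC x (plCx h p hp J)).d n (plι h p hp I x J n z) =
      plι h p hp I x J (n + 1) ((stalkMC x (plCx h p hp (gammaCx (FTors.powIdealFam Y I) J))).d n z) :=
  stm_comm (((pl h p hp).mapHomologicalComplex (ComplexShape.up ℤ)).map (gammaCxι (FTors.powIdealFam Y I) J)) n z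

include hker in
theorem P_pull_quot [IsLocallyNoetherian Y] (h𝔛 : 𝔛.IsLocNoethFormal) [∀ i, Injective (J.X i)]
    (cY : Chart (FTors.powIdealFam Y I)) (hy : pb p x ∈ cY.U) :
    Kos.P ((gens cY hy).map (βx cc x))
      (quotMC (stalkMC x (plCx h p hp J)) (fun n => LinearMap.range (plι h p hp I x J n))
        (range_stable (M := stalkMC x (plCx h p hp (gammaCx (FTors.powIdealFam Y I) J)))
          (N := stalkMC x (plCx h p hp J)) (plι h p hp I x J) (plι_comm h p hp I x J))) := by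
  obtain ⟨Q, s, hs, hP⟩ := exists_ses_gamma cY hy J
  letI := βAlg cc x
  haveI : Module.Flat (Ay Y.sheaf (pb p x)) (Ay (𝔛.Osh h) x) := flat_β h p hp I hker x h𝔛
  let M' := stalkMC x (plCx h p hp J)
  letI instM : ∀ n, Module (Ay Y.sheaf (pb p x)) (M'.X n) := fun n => restrMod cc x ((pl h p hp).obj (J.X n))
  haveI : ∀ n, IsScalarTower (Ay Y.sheaf (pb p x)) (Ay (𝔛.Osh h) x) (M'.X n) := fun n =>
    IsScalarTower.of_algebraMap_smul fun _ _ => rfl
  let L' := fun n => LinearMap.range (plι h p hp I x J n)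
  let Q' := quotMC M' L' (range_stable (M := stalkMC x (plCx h p hp (gammaCx (FTors.powIdealFam Y I) J)))
    (N := M') (plι h p hp I x J) (plι_comm h p hp I x J))
  letI instQ : ∀ n, Module (Ay Y.sheaf (pb p x)) (Q'.X n) := fun n => Module.compHom (M'.X n ⧸ L' n) (βx cc x)
  haveI : ∀ n, IsScalarTower (Ay Y.sheaf (pb p x)) (Ay (𝔛.Osh h) x) (Q'.X n) := fun n =>
    IsScalarTower.of_algebraMap_smul fun _ _ => rfl
  let φ : ∀ n, (stalkMC (pb p x) J).X n →+ M'.X n ⧸ L' n := fun n =>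
    (L' n).mkQ.toAddMonoidHom.comp (pullEta cc (J.X n) x)
  have key : ∀ n m m', s.g n m = s.g n m' → φ n m = φ n m' := fun n m m' e => by
    obtain ⟨b, hb⟩ := (s.exact n (m - m')).1 (by rw [map_sub, e, sub_self])
    rw [← sub_eq_zero, ← map_sub, ← hb, hs]
    exact (Submodule.Quotient.mk_eq_zero _).2 ⟨pullEta cc _ x b, pullEta_naturality cc _ x _ b⟩
  let η' : ∀ n, Q.X n →ₗ[Ay Y.sheaf (pb p x)] Q'.X n := fun n =>
    { toFun := fun q => φ n (Function.surjInv (s.surj n) q)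
      map_add' := fun q q' => (key n _ (Function.surjInv (s.surj n) q + Function.surjInv (s.surj n) q')
        (by simp only [map_add, Function.surjInv_eq])).trans (map_add (φ n) _ _)
      map_smul' := fun a q => (key n _ (a • Function.surjInv (s.surj n) q)
        (by simp only [map_smul, Function.surjInv_eq])).trans
        ((congrArg (L' n).mkQ (pullEta_smul cc (J.X n) x a _)).trans (map_smul (L' n).mkQ _ _)) }
  have hη' : ∀ n m, η' n (s.g n m) = Submodule.Quotient.mk (pullEta cc (J.X n) x m) := fun n m =>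
    key n _ m (Function.surjInv_eq (s.surj n) _)
  have β : Kos.BC Q Q' :=
    { η := η'
      comm := fun n q => by
        obtain ⟨m, rfl⟩ := s.surj n q
        rw [hη', s.g_comm, hη']
        exact congrArg (Submodule.Quotient.mk (p := L' (n + 1)))
          (pullEta_naturality cc (J.X n) x (J.d n (n + 1)) m)
      isBC := fun n => by
        refine isBaseChange_quotient (M' := M'.X n) (s.f n) (s.g n) (s.surj n) (s.exact n)
          (pullEtaLin cc (J.X n) x) (isBaseChange_pullEta cc (J.X n) x) (L' n) ?_ (η' n) (hη' n)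
        refine le_antisymm ?_ ?_
        · change LinearMap.range (plι h p hp I x J n) ≤ _
          rw [LinearMap.range_eq_map, ← span_pullEta cc _ x, Submodule.map_span]
          refine Submodule.span_le.2 ?_
          rintro _ ⟨_, ⟨b, rfl⟩, rfl⟩
          exact Submodule.subset_span ⟨b, (congrArg (pullEta cc (J.X n) x) (hs n b)).trans
            (pullEta_naturality cc _ x _ b).symm⟩
        · refine Submodule.span_le.2 ?_
          rintro _ ⟨b, rfl⟩
          exact ⟨pullEta cc _ x b, (pullEta_naturality cc _ x _ b).trans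
            (congrArg (pullEta cc (J.X n) x) (hs n b)).symm⟩ }
  exact Kos.P_of_bc (gens cY hy) β hP

variable {N : CochainComplex (FSch.ModF 𝔛 h) ℤ} (v : plCx h p hp J ⟶ N) [QuasiIso v] [∀ n, Mono (v.f n)]
  [∀ i, Injective (N.X i)]
  (a : plCx h p hp (gammaCx (FTors.powIdealFam Y I) J) ⟶ gammaCx (FTors.openIdealFam 𝔛 h) N)
  (ha : a ≫ gammaCxι (FTors.openIdealFam 𝔛 h) N =
    ((pl h p hp).mapHomologicalComplex (ComplexShape.up ℤ)).map (gammaCxι (FTors.powIdealFam Y I) J) ≫ v)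

/-- The quotient of the stalk of `N` by the inverse image of the torsion. -/
abbrev lowSub (n : ℤ) : Submodule (Ay (𝔛.Osh h) x) ((stalkMC x N).X n) :=
  (LinearMap.range (plι h p hp I x J n)).map (stm x (v.f n))

/-- The torsion of `N`, on stalks. -/
abbrev highSub (N : CochainComplex (FSch.ModF 𝔛 h) ℤ) (n : ℤ) : Submodule (Ay (𝔛.Osh h) x) ((stalkMC x N).X n) :=
  LinearMap.range (stm x ((gammaCxι (FTors.openIdealFam 𝔛 h) N).f n))

theorem lowSub_d (n : ℤ) (z : (stalkMC x N).X n) (hz : z ∈ lowSub h p hp I x J v n) :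
    (stalkMC x N).d n z ∈ lowSub h p hp I x J v (n + 1) :=
  map_stable (M := stalkMC x (plCx h p hp J)) (N := stalkMC x N) (fun n => stm x (v.f n))
    (fun n z => stm_comm v n z) (fun n => LinearMap.range (plι h p hp I x J n))
    (range_stable (M := stalkMC x (plCx h p hp (gammaCx (FTors.powIdealFam Y I) J)))
      (N := stalkMC x (plCx h p hp J)) (plι h p hp I x J) (plι_comm h p hp I x J)) n z hz

theorem highSub_d (n : ℤ) (z : (stalkMC x N).X n) (hz : z ∈ highSub h x N n) :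
    (stalkMC x N).d n z ∈ highSub h x N (n + 1) :=
  range_stable (M := stalkMC x (gammaCx (FTors.openIdealFam 𝔛 h) N)) (N := stalkMC x N)
    (fun n => stm x ((gammaCxι (FTors.openIdealFam 𝔛 h) N).f n))
    (fun n z => stm_comm (gammaCxι (FTors.openIdealFam 𝔛 h) N) n z) n z hz

include ha in
theorem stm_a (n : ℤ) (z : (stalkMC x (plCx h p hp (gammaCx (FTors.powIdealFam Y I) J))).X n) :
    stm x ((gammaCxι (FTors.openIdealFam 𝔛 h) N).f n) (stm x (a.f n) z) = stm x (v.f n) (plι h p hp I x J n z) := by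
  obtain ⟨W, -, hz, s, rfl⟩ := exists_grS _ z (W₀ := ⊤) (y := x) trivial
  refine ((congrArg _ (stm_grS (a.f n) hz s)).trans (stm_grS _ hz _)).trans ?_
  refine Eq.trans ?_ ((congrArg _ (stm_grS ((pl h p hp).map ((gammaCxι (FTors.powIdealFam Y I) J).f n)) hz s)).trans
    (stm_grS _ hz _)).symm
  rw [← ap_comp, ← ap_comp]
  exact congrArg (fun φ => grS (N.X n) hz (ap φ s)) (congr($(ha).f n))

include hker ha in
theorem acy_layer [IsLocallyNoetherian Y] (h𝔛 : 𝔛.IsLocNoethFormal) [∀ i, Injective (J.X i)] :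
    Kos.Acy (layerMC (stalkMC x N) (highSub h x N) (highSub_d h x) (lowSub h p hp I x J v)
      (lowSub_d h p hp I x J v)) := by
  obtain ⟨cY, cX, hy, hx, hgens⟩ := exists_charts h p hp I hker h𝔛 x
  have hle : ∀ n, lowSub h p hp I x J v n ≤ highSub h x N n := by
    rintro n _ ⟨_, ⟨z, rfl⟩, rfl⟩
    exact ⟨stm x (a.f n) z, stm_a h p hp I x J v a ha n z⟩
  have P1 : Kos.P (gens cX hx) (quotMC (stalkMC x N) (lowSub h p hp I x J v) (lowSub_d h p hp I x J v)) := by
    rw [hgens]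
    refine (sesComp (M := stalkMC x (plCx h p hp J)) (N := stalkMC x N) (fun n => stm x (v.f n))
      (fun n z => stm_comm v n z) (fun n => LinearMap.range (plι h p hp I x J n))
      (range_stable (M := stalkMC x (plCx h p hp (gammaCx (FTors.powIdealFam Y I) J)))
        (N := stalkMC x (plCx h p hp J)) (plι h p hp I x J) (plι_comm h p hp I x J))
      (fun n => stm_injective (v.f n))).P₂ _ (P_pull_quot h p hp I hker x J h𝔛 cY hy) ?_
    exact Kos.P_of_acy _ _ (acy_coker v (y := x))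
  have P2 : Kos.P (gens cX hx) (quotMC (stalkMC x N) (highSub h x N) (highSub_d h x)) := by
    have hP := P_quot cX hx N cX.r le_rfl
    have e : (fun n => highSub h x N n) = Lk cX hx N cX.r := funext fun n => range_gammaι cX hx N n
    revert hP
    generalize Lk_d cX hx N cX.r = hd
    intro hP
    revert hd hP
    rw [← e]
    exact fun _ hP => hP
  refine Kos.acy_of_hTors (gens cX hx) _ ?_
    ((sesLayer (stalkMC x N) _ (highSub_d h x) _ (lowSub_d h p hp I x J v) hle).P₁ _ P1 P2)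
  intro b hb n z _
  obtain ⟨i, rfl⟩ := List.mem_ofFn.1 hb
  obtain ⟨_, w, hw, rfl⟩ := z
  obtain ⟨k, hk⟩ : ∃ k : ℕ, grR hx (cX.g i) ^ k • w = 0 := by
    rw [show highSub h x N (n + 1) = Lk cX hx N cX.r (n + 1) from range_gammaι cX hx N (n + 1)] at hw
    exact hw _ ⟨i, i.2, rfl⟩
  refine ⟨k, 0, (map_zero _).trans ?_⟩
  refine Subtype.ext ?_
  exact ((congrArg (lowSub h p hp I x J v (n + 1)).mkQ hk).symm.trans (map_smul _ _ _)).symm.trans (map_zero _) |>.symm

include hker ha in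
/-- The comparison of torsion subcomplexes is a quasi-isomorphism. -/
theorem quasiIso_comparison [IsLocallyNoetherian Y] (h𝔛 : 𝔛.IsLocNoethFormal) [∀ i, Injective (J.X i)] :
    QuasiIso a := by
  haveI : PreservesFiniteLimits (pl h p hp) := preservesFiniteLimits_pull h p hp I hker h𝔛
  haveI : ∀ n, Mono (a.f n) := fun n => by
    haveI : Mono ((gammaCxι (FTors.powIdealFam Y I) J).f n) := mono_of_ap_injective _ fun _ _ hz => Subtype.ext hz
    have hm : Mono ((((pl h p hp).mapHomologicalComplex (ComplexShape.up ℤ)).map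
        (gammaCxι (FTors.powIdealFam Y I) J) ≫ v).f n) := by
      change Mono ((pl h p hp).map _ ≫ v.f n)
      infer_instance
    rw [← ha] at hm
    haveI : Mono (a.f n ≫ (gammaCxι (FTors.openIdealFam 𝔛 h) N).f n) := hm
    exact mono_of_mono (a.f n) ((gammaCxι (FTors.openIdealFam 𝔛 h) N).f n)
  haveI : ∀ n, Mono ((gammaCxι (FTors.openIdealFam 𝔛 h) N).f n) := fun n =>
    mono_of_ap_injective _ fun _ _ hz => Subtype.ext hz
  refine ⟨fun i => ?_⟩
  obtain ⟨n, rfl⟩ : ∃ n, i = n + 1 := ⟨i - 1, (sub_add_cancel i 1).symm⟩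
  refine quasiIsoAt_of_sections _ (n + 1) a ?_ ?_
  · intro W z hz y hy
    let L := lowSub h p hp I y J v
    let hL := lowSub_d h p hp I y J v
    let ι := fun n => stm y ((gammaCxι (FTors.openIdealFam 𝔛 h) N).f n)
    let ζ : (layerMC (stalkMC y N) (highSub h y N) (highSub_d h y) L hL).X (n + 1) :=
      ⟨Submodule.Quotient.mk (ι (n + 1) (grS _ hy z)), _, ⟨_, rfl⟩, rfl⟩
    have hζ : (layerMC (stalkMC y N) (highSub h y N) (highSub_d h y) L hL).d (n + 1) ζ = 0 := by
      refine Subtype.ext ?_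
      change Submodule.Quotient.mk ((stalkMC y N).d (n + 1) (ι (n + 1) (grS _ hy z))) = 0
      rw [show (stalkMC y N).d (n + 1) (ι (n + 1) (grS _ hy z)) =
        ι (n + 1 + 1) ((stalkMC y (gammaCx (FTors.openIdealFam 𝔛 h) N)).d (n + 1) (grS _ hy z)) from
          stm_comm (gammaCxι (FTors.openIdealFam 𝔛 h) N) (n + 1) _]
      change Submodule.Quotient.mk (ι (n + 1 + 1) (stm y ((gammaCx (FTors.openIdealFam 𝔛 h) N).d (n + 1) (n + 1 + 1))
        (grS _ hy z))) = 0
      rw [stm_grS, hz, grS_zero, map_zero]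
      rfl
    obtain ⟨⟨_, w, ⟨ω, rfl⟩, rfl⟩, hw⟩ :=
      acy_layer h p hp I hker y J v a ha h𝔛 n ζ hζ
    obtain ⟨_, ⟨ν, rfl⟩, hν⟩ := (Submodule.Quotient.eq _).1 (congrArg Subtype.val hw).symm
    have hν := (stm_a h p hp I y J v a ha _ ν).trans hν
    have e : stm y (a.f (n + 1)) ν =
        grS _ hy z - stm y ((gammaCx (FTors.openIdealFam 𝔛 h) N).d n (n + 1)) ω := by
      refine stm_injective ((gammaCxι (FTors.openIdealFam 𝔛 h) N).f (n + 1)) (hν.trans ?_)
      refine Eq.trans ?_ (map_sub _ _ _).symm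
      exact congrArg (fun t => ι (n + 1) (grS _ hy z) - t) (stm_comm (gammaCxι (FTors.openIdealFam 𝔛 h) N) n ω)
    obtain ⟨W₁, hW₁, h₁, u, rfl⟩ := exists_grS _ ν hy
    obtain ⟨W₂, hW₂, h₂, m, rfl⟩ := exists_grS _ ω h₁
    change stm y (a.f (n + 1)) (grS _ h₁ u) =
      grS _ hy z - stm y ((gammaCx (FTors.openIdealFam 𝔛 h) N).d n (n + 1)) (grS _ h₂ m) at e
    rw [stm_grS, stm_grS, ← grS_res (hW₂.trans hW₁) h₂ z, ← grS_res hW₂ h₂, ← grS_sub, ← sub_eq_zero, ← grS_sub] at e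
    obtain ⟨V, hV, hyV, eV⟩ := exists_nbhd_zero h₂ _ e
    rw [rs_sub, sub_eq_zero, rs_sub, rs_rs, rs_rs, rs_d,
      show rs _ (hV.trans hW₂) (ap (a.f (n + 1)) u) = ap (a.f (n + 1)) (rs _ (hV.trans hW₂) u) from
        res_ap (a.f (n + 1)) (homOfLE (hV.trans hW₂)) u] at eV
    refine ⟨V, hV.trans (hW₂.trans hW₁), hyV, rs _ (hV.trans hW₂) u,
      cast (by rw [show n + 1 - 1 = n by omega]) (rs _ hV m), ?_, ?_⟩
    · refine ap_injective_of_mono (a.f (n + 1 + 1)) (Eq.trans ?_ (map_zero _).symm)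
      rw [← ap_comp, ← a.comm, ap_comp, eV, ap_sub', dd, sub_zero, ← rs_d, hz]
      exact map_zero _
    · have hc : ∀ (j : ℤ) (hj : n = j) (e' : (pre ((gammaCx (FTors.openIdealFam 𝔛 h) N).X n)).obj (op V) =
          (pre ((gammaCx (FTors.openIdealFam 𝔛 h) N).X j)).obj (op V)),
          ap ((gammaCx (FTors.openIdealFam 𝔛 h) N).d j (n + 1))
              (cast (congrArg (fun M : ModuleCat _ => (M : Type u)) e') (rs _ hV m)) =
            ap ((gammaCx (FTors.openIdealFam 𝔛 h) N).d n (n + 1)) (rs _ hV m) := by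
        rintro j rfl e'
        rfl
      rw [hc _ (by omega) (by rw [show n + 1 - 1 = n by omega]), eV, sub_add_cancel]
  · intro W z m hm y hy
    revert m
    rw [show n + 1 - 1 = n by omega]
    intro m hm
    let L := lowSub h p hp I y J v
    let hL := lowSub_d h p hp I y J v
    let ι := fun n => stm y ((gammaCxι (FTors.openIdealFam 𝔛 h) N).f n)
    obtain ⟨k, rfl⟩ : ∃ k, n = k + 1 := ⟨n - 1, (sub_add_cancel n 1).symm⟩
    let ζ : (layerMC (stalkMC y N) (highSub h y N) (highSub_d h y) L hL).X (k + 1) :=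
      ⟨Submodule.Quotient.mk (ι (k + 1) (grS _ hy m)), _, ⟨_, rfl⟩, rfl⟩
    have hζ : (layerMC (stalkMC y N) (highSub h y N) (highSub_d h y) L hL).d (k + 1) ζ = 0 := by
      refine Subtype.ext ((Submodule.Quotient.mk_eq_zero _).2 ?_)
      refine ⟨_, ⟨grS _ hy z, rfl⟩, ?_⟩
      refine (stm_a h p hp I y J v a ha _ _).symm.trans ?_
      rw [stm_grS (a.f (k + 1 + 1)), ← hm, ← stm_grS ((gammaCx (FTors.openIdealFam 𝔛 h) N).d (k + 1) (k + 1 + 1))]
      exact (stm_comm (gammaCxι (FTors.openIdealFam 𝔛 h) N) (k + 1) _).symm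
    obtain ⟨⟨_, w, ⟨ω, rfl⟩, rfl⟩, hw⟩ :=
      acy_layer h p hp I hker y J v a ha h𝔛 k ζ hζ
    obtain ⟨_, ⟨ν, rfl⟩, hν⟩ := (Submodule.Quotient.eq _).1 (congrArg Subtype.val hw).symm
    have hν := (stm_a h p hp I y J v a ha _ ν).trans hν
    have e : stm y (a.f (k + 1)) ν =
        grS _ hy m - stm y ((gammaCx (FTors.openIdealFam 𝔛 h) N).d k (k + 1)) ω := by
      refine stm_injective ((gammaCxι (FTors.openIdealFam 𝔛 h) N).f (k + 1)) (hν.trans ?_)
      refine Eq.trans ?_ (map_sub _ _ _).symm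
      exact congrArg (fun t => ι (k + 1) (grS _ hy m) - t) (stm_comm (gammaCxι (FTors.openIdealFam 𝔛 h) N) k ω)
    have e2 := congrArg ((stalkMC y (gammaCx (FTors.openIdealFam 𝔛 h) N)).d (k + 1)) e
    rw [map_sub] at e2
    replace e2 := (stm_comm a (k + 1) ν).symm.trans (e2.trans (sub_eq_self.2
      ((stalkMC y (gammaCx (FTors.openIdealFam 𝔛 h) N)).dd k ω)))
    obtain ⟨W₁, hW₁, h₁, t, rfl⟩ := exists_grS _ ν hy
    change stm y (a.f (k + 1 + 1)) (stm y (HomologicalComplex.d _ (k + 1) (k + 1 + 1)) (grS _ h₁ t)) =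
      stm y ((gammaCx (FTors.openIdealFam 𝔛 h) N).d (k + 1) (k + 1 + 1)) (grS _ hy m) at e2
    rw [stm_grS ((gammaCx (FTors.openIdealFam 𝔛 h) N).d (k + 1) (k + 1 + 1)), hm, ← stm_grS (a.f (k + 1 + 1))] at e2
    have e3 := stm_injective (a.f (k + 1 + 1)) e2
    rw [stm_grS, ← grS_res hW₁ h₁ z, ← sub_eq_zero, ← grS_sub] at e3
    obtain ⟨V, hV, hyV, eV⟩ := exists_nbhd_zero h₁ _ e3
    rw [rs_sub, sub_eq_zero, rs_d, rs_rs] at eV
    exact ⟨V, hV.trans hW₁, hyV, rs _ hV t, eV⟩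

/-- The quotient followed by localization, as a functor on complexes. -/
abbrev qhF {A : Type*} [Category A] [Abelian A] [HasDerivedCategory A] :
    CochainComplex A ℤ ⥤ DerivedCategory A :=
  HomotopyCategory.quotient A (ComplexShape.up ℤ) ⋙ DerivedCategory.Qh

/-- An exact functor on derived categories, evaluated on complexes. -/
def qhFactors {A B : Type*} [Category A] [Category B] [Abelian A] [Abelian B] [HasDerivedCategory A]
    [HasDerivedCategory B] (F : A ⥤ B) [F.Additive] [PreservesFiniteLimits F] [PreservesFiniteColimits F] :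
    qhF ⋙ F.mapDerivedCategory ≅ F.mapHomologicalComplex (ComplexShape.up ℤ) ⋙ qhF :=
  Functor.isoWhiskerRight (DerivedCategory.quotientCompQhIso A) _ ≪≫ F.mapDerivedCategoryFactors ≪≫
    Functor.isoWhiskerLeft _ (DerivedCategory.quotientCompQhIso B).symm

theorem map_comp3 {C D : Type*} [Category C] [Category D] (F : C ⥤ D) {A B X Z : C} (a : A ⟶ B) (b : B ⟶ X)
    (c : X ⟶ Z) (t : A ⟶ Z := a ≫ b ≫ c) (ht : a ≫ b ≫ c = t := by rfl) :
    F.map a ≫ F.map b ≫ F.map c = F.map t := by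
  subst ht
  simp only [Functor.map_comp]

theorem chain_eq {D : Type*} [Category D] {A B C B' C' E E' Z : D} (m1 : A ⟶ B) (z1 : B ⟶ C) (am : C ⟶ B')
    (gx : B' ⟶ C') (iv : C' ⟶ E) (z2 : E ⟶ E') (m2 : E' ⟶ Z) (g : C ⟶ E) (P : B ⟶ E') (T : A ⟶ Z)
    (h1 : am ≫ gx ≫ iv = g) (h2 : z1 ≫ g ≫ z2 = P) (h3 : m1 ≫ P ≫ m2 = T) :
    (m1 ≫ z1 ≫ am) ≫ gx ≫ iv ≫ z2 ≫ m2 = T := by
  subst h1 h2 h3
  simp only [Category.assoc]

include hker in
/-- The derived torsion functor commutes with the inverse image to the completion. -/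
theorem exists_iso_pullD_rgamma [IsLocallyNoetherian Y] (h𝔛 : 𝔛.IsLocNoethFormal)
    [PreservesFiniteLimits (FSch.toSchemeMor 𝔛 h p hp).pull] [FTors.HasRgammaT 𝔛 h] [FTors.HasRgammaZp Y I]
    (F : DerivedCategory (ModSite.Mod Y.sheaf)) :
    ∃ e : (SiteCmp.pullD (FSch.toSchemeMor 𝔛 h p hp)).obj ((FTors.RgammaZp Y I).obj F) ≅
        (FTors.RgammaT 𝔛 h).obj ((SiteCmp.pullD (FSch.toSchemeMor 𝔛 h p hp)).obj F),
      e.hom ≫ (FTors.RgammaTε 𝔛 h).app ((SiteCmp.pullD (FSch.toSchemeMor 𝔛 h p hp)).obj F) =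
        (SiteCmp.pullD (FSch.toSchemeMor 𝔛 h p hp)).map ((FTors.RgammaZpε Y I).app F) := by
  obtain ⟨J, hJ, hJ', ⟨e₀⟩⟩ := exists_qh_iso F
  haveI := hJ'
  haveI : IsGrothendieckAbelian.{u} (FSch.ModF 𝔛 h) := Coh69.sheafOfModules_isGrothendieckAbelian (ModSite.ringSh _)
  obtain ⟨N, v, hN, hv, hv', hN'⟩ := CohDer42.exists_kinjective_resolution (plCx h p hp J)
  haveI := hv
  haveI := hv'
  haveI := hN'
  let famY := FTors.powIdealFam Y I
  let famX := FTors.openIdealFam 𝔛 h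
  let c := (FSch.toSchemeMor 𝔛 h p hp).pull.mapHomologicalComplex (ComplexShape.up ℤ)
  let b := c.map (gammaCxι famY J) ≫ v
  have hT : ∀ j, FTors.IsTors famX ((plCx h p hp (gammaCx famY J)).X j) := fun j =>
    (isTorsF_pull h p hp I hker _ (isTors_gamma famY (J.X j))).1
  haveI : ∀ j, IsIso ((FTors.gammaι famX).app ((plCx h p hp (gammaCx famY J)).X j)) := fun j => isIso_gammaι famX (hT j)
  let a0 : ∀ j, (plCx h p hp (gammaCx famY J)).X j ⟶ (gammaCx famX N).X j := fun j =>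
    inv ((FTors.gammaι famX).app ((plCx h p hp (gammaCx famY J)).X j)) ≫ (FTors.gamma _ famX).map (b.f j)
  haveI : ∀ j, Mono ((gammaCxι famX N).f j) := fun j => mono_of_ap_injective _ fun _ _ hz => Subtype.ext hz
  have ha0 : ∀ j, a0 j ≫ (gammaCxι famX N).f j = b.f j := fun j => by
    rw [gammaCxι_f, Category.assoc, IsIso.inv_comp_eq]
    exact (FTors.gammaι famX).naturality (b.f j)
  let a : plCx h p hp (gammaCx famY J) ⟶ gammaCx famX N :=
    { f := a0
      comm' := fun i j _ => by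
        refine (cancel_mono ((gammaCxι famX N).f j)).1 ?_
        refine (Category.assoc _ _ _).trans (((congrArg (a0 i ≫ ·) ((gammaCxι famX N).comm i j).symm).trans ?_).trans
          ((congrArg (_ ≫ ·) (ha0 j)).symm.trans (Category.assoc _ _ _).symm))
        refine ((Category.assoc _ _ _).symm.trans (congrArg (· ≫ N.d i j) (ha0 i))).trans ?_
        exact b.comm i j }
  have ha : a ≫ gammaCxι famX N = b := HomologicalComplex.hom_ext _ _ fun j => ha0 j
  haveI : QuasiIso a := quasiIso_comparison h p hp I hker J v a ha h𝔛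
  let ζ := qhFactors (FSch.toSchemeMor 𝔛 h p hp).pull
  haveI : IsIso (qhF.map a) := (isIso_Qh_map_iff _).2 inferInstance
  haveI : IsIso (qhF.map v) := (isIso_Qh_map_iff _).2 inferInstance
  let w : qhF.obj N ≅ (SiteCmp.pullD (FSch.toSchemeMor 𝔛 h p hp)).obj F :=
    (asIso (qhF.map v)).symm ≪≫ (ζ.app J).symm ≪≫ (SiteCmp.pullD (FSch.toSchemeMor 𝔛 h p hp)).mapIso e₀
  let u : (SiteCmp.pullD (FSch.toSchemeMor 𝔛 h p hp)).obj ((FTors.RgammaZp Y I).obj F) ≅ qhF.obj (gammaCx famX N) :=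
    (SiteCmp.pullD (FSch.toSchemeMor 𝔛 h p hp)).mapIso ((FTors.RgammaZp Y I).mapIso e₀.symm ≪≫ (unitIso J hJ).symm) ≪≫
      ζ.app (gammaCx famY J) ≪≫ asIso (qhF.map a)
  refine ⟨u ≪≫ unitIso N hN ≪≫ (FTors.RgammaT 𝔛 h).mapIso w, ?_⟩
  have h1 : qhF.map a ≫ qhF.map (gammaCxι famX N) ≫ inv (qhF.map v) = qhF.map (c.map (gammaCxι famY J)) := by
    rw [← qhF.map_comp_assoc, ha, qhF.map_comp, Category.assoc, IsIso.hom_inv_id, Category.comp_id]
  have h2 : (ζ.app (gammaCx famY J)).hom ≫ qhF.map (c.map (gammaCxι famY J)) ≫ (ζ.app J).inv =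
      (SiteCmp.pullD (FSch.toSchemeMor 𝔛 h p hp)).map (qhF.map (gammaCxι famY J)) :=
    (Category.assoc _ _ _).symm.trans ((Iso.comp_inv_eq _).2 (ζ.hom.naturality (gammaCxι famY J)).symm)
  have h3 : (FTors.RgammaZp Y I).map e₀.inv ≫ (unitIso J hJ).inv ≫ qhF.map (gammaCxι famY J) ≫ e₀.hom =
      (FTors.RgammaZpε Y I).app F := by
    rw [show (unitIso (fam := famY) J hJ).inv ≫ qhF.map (gammaCxι famY J) ≫ e₀.hom =
      (FTors.RgammaZpε Y I).app (qh J) ≫ e₀.hom from (Iso.inv_comp_eq _).2 (by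
        rw [← Category.assoc]
        exact congrArg (· ≫ e₀.hom) (unitIso_hom_comp_ε J hJ).symm)]
    refine ((FTors.RgammaZpε Y I).naturality_assoc e₀.inv e₀.hom).trans ?_
    exact (congrArg (_ ≫ ·) e₀.inv_hom_id).trans (Category.comp_id _)
  have h4 : ((unitIso (fam := famX) N hN).hom ≫ (FTors.RgammaT 𝔛 h).map w.hom) ≫
      (FTors.RgammaTε 𝔛 h).app ((SiteCmp.pullD (FSch.toSchemeMor 𝔛 h p hp)).obj F) = qhF.map (gammaCxι famX N) ≫ w.hom := by
    refine (Category.assoc _ _ _).trans ((congrArg (_ ≫ ·) ((FTors.RgammaTε 𝔛 h).naturality w.hom)).trans ?_)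
    exact (Category.assoc _ _ _).symm.trans (congrArg (· ≫ w.hom) (unitIso_hom_comp_ε N hN))
  refine (Category.assoc _ _ _).trans ((congrArg (u.hom ≫ ·) h4).trans ?_)
  refine chain_eq _ _ _ _ _ _ _ _ _ _ h1 h2 ?_
  refine Eq.trans ?_ (congrArg (fun t => (SiteCmp.pullD (FSch.toSchemeMor 𝔛 h p hp)).map t) h3)
  exact map_comp3 _ _ _ _ _ (Category.assoc _ _ _)

include hker in
theorem existsUnique_iso_pullD_rgamma [IsLocallyNoetherian Y] (h𝔛 : 𝔛.IsLocNoethFormal)
    [PreservesFiniteLimits (FSch.toSchemeMor 𝔛 h p hp).pull] [FTors.HasRgammaT 𝔛 h] [FTors.HasRgammaZp Y I]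
    (F : DerivedCategory (ModSite.Mod Y.sheaf)) :
    ∃! e : (SiteCmp.pullD (FSch.toSchemeMor 𝔛 h p hp)).obj ((FTors.RgammaZp Y I).obj F) ≅
        (FTors.RgammaT 𝔛 h).obj ((SiteCmp.pullD (FSch.toSchemeMor 𝔛 h p hp)).obj F),
      e.hom ≫ (FTors.RgammaTε 𝔛 h).app ((SiteCmp.pullD (FSch.toSchemeMor 𝔛 h p hp)).obj F) =
        (SiteCmp.pullD (FSch.toSchemeMor 𝔛 h p hp)).map ((FTors.RgammaZpε Y I).app F) := by
  obtain ⟨e, he⟩ := exists_iso_pullD_rgamma h p hp I hker h𝔛 F
  refine ⟨e, he, fun e' he' => ?_⟩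
  ext1
  exact (comp_ε_bijective (fam := FTors.openIdealFam 𝔛 h) (exists_formalChart h𝔛) _
    ((SiteCmp.pullD (FSch.toSchemeMor 𝔛 h p hp)).obj F)
    (pullD_torsion h p hp I hker _ (isDTors_rgamma (fam := FTors.powIdealFam Y I) F))).1 (he'.trans he.symm)

include hker in
theorem pullD_map_bijective' [IsLocallyNoetherian Y] (h𝔛 : 𝔛.IsLocNoethFormal)
    [PreservesFiniteLimits (FSch.toSchemeMor 𝔛 h p hp).pull] [FTors.HasRgammaT 𝔛 h] [FTors.HasRgammaZp Y I]
    (E F : DerivedCategory (ModSite.Mod Y.sheaf)) (hE : FTors.IsDTorsZp Y I E) :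
    Function.Bijective (fun φ : E ⟶ F => (SiteCmp.pullD (FSch.toSchemeMor 𝔛 h p hp)).map φ) := by
  obtain ⟨e, he⟩ := exists_iso_pullD_rgamma h p hp I hker h𝔛 F
  have hY := comp_ε_bijective (exists_schemeChart (X := Y) I) E F hE
  have hX := comp_ε_bijective (fam := FTors.openIdealFam 𝔛 h) (exists_formalChart h𝔛)
    ((SiteCmp.pullD (FSch.toSchemeMor 𝔛 h p hp)).obj E) ((SiteCmp.pullD (FSch.toSchemeMor 𝔛 h p hp)).obj F)
    (pullD_torsion h p hp I hker E hE)
  have hκ := pullD_map_bijective h p hp I hker E ((FTors.RgammaZp Y I).obj F) (isDTors_rgamma _)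
  refine (Function.Bijective.of_comp_iff _ hY).1 ?_
  have : (fun φ : E ⟶ F => (SiteCmp.pullD (FSch.toSchemeMor 𝔛 h p hp)).map φ) ∘
      (fun φ => φ ≫ (FTors.RgammaZpε Y I).app F) =
      (fun ψ => ψ ≫ (FTors.RgammaTε 𝔛 h).app ((SiteCmp.pullD (FSch.toSchemeMor 𝔛 h p hp)).obj F)) ∘
        (fun ψ => ψ ≫ e.hom) ∘ (fun φ => (SiteCmp.pullD (FSch.toSchemeMor 𝔛 h p hp)).map φ) := by
    funext φ
    exact (Functor.map_comp _ _ _).trans ((congrArg (_ ≫ ·) he.symm).trans (Category.assoc _ _ _).symm)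
  have hc : Function.Bijective (fun ψ : (SiteCmp.pullD (FSch.toSchemeMor 𝔛 h p hp)).obj E ⟶
      (SiteCmp.pullD (FSch.toSchemeMor 𝔛 h p hp)).obj ((FTors.RgammaZp Y I).obj F) => ψ ≫ e.hom) :=
    ⟨fun a b hab => (cancel_mono e.hom).1 hab, fun ψ => ⟨ψ ≫ e.inv, by simp⟩⟩
  exact this ▸ hX.comp (hc.comp hκ)

end Groth.Agent.FTors27
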