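import Groth.Agent.FTors27.DerAdj
import Groth.Agent.FTors27.Equiv
import Groth.Prelude.Def_SiteCmp
import Mathlib.CategoryTheory.Functor.Derived.RightDerived

/-!
The derived direct image along an exact direct image.
-/

set_option autoImplicit false
set_option backward.isDefEq.respectTransparency.types false

universe u

open CategoryTheory CategoryTheory.Limits Opposite
attribute [local instance] HasDerivedCategory.standard

namespace Groth.Agent.FTors27

variable {C : Type u} [SmallCategory C] {J : GrothendieckTopology C} {O_C : Sheaf J CommRingCat.{u}}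
  {D : Type u} [SmallCategory D] {K : GrothendieckTopology D} {O_D : Sheaf K CommRingCat.{u}}

/-- An exact direct image computes the derived one. -/
theorem nonempty_rpushD_iso (f : ModSite.RMor O_C O_D) [SiteCmp.HasRpushD f] [f.push.Additive]
    [PreservesFiniteLimits f.push] [PreservesFiniteColimits f.push] :
    Nonempty (SiteCmp.RpushD f ≅ f.push.mapDerivedCategory) := by
  let W := HomotopyCategory.quasiIso (ModSite.Mod O_C) (ComplexShape.up ℤ)
  let e : SiteCmp.pushKh f ≅ DerivedCategory.Qh ⋙ f.push.mapDerivedCategory :=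
    f.push.mapDerivedCategoryFactorsh.symm
  haveI : f.push.mapDerivedCategory.IsRightDerivedFunctor e.hom W :=
    Functor.isRightDerivedFunctor_of_inverts W f.push.mapDerivedCategory e.symm
  exact ⟨Functor.rightDerivedUnique (SiteCmp.RpushD f) f.push.mapDerivedCategory
    ((SiteCmp.pushKh f).totalRightDerivedUnit DerivedCategory.Qh W) e.hom W⟩

theorem map_bijective_of_natIso {C' D' : Type*} [Category C'] [Category D'] {F₁ F₂ : C' ⥤ D'} (e : F₁ ≅ F₂)
    {X Y : C'} (h : Function.Bijective (fun φ : X ⟶ Y => F₂.map φ)) :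
    Function.Bijective (fun φ : X ⟶ Y => F₁.map φ) := by
  have he : (fun φ : X ⟶ Y => F₁.map φ) =
      (fun ψ => e.hom.app X ≫ ψ ≫ e.inv.app Y) ∘ (fun φ : X ⟶ Y => F₂.map φ) := funext fun φ => by
    simp
  rw [he]
  refine Function.Bijective.comp ⟨fun a b hab => ?_, fun c => ⟨e.inv.app X ≫ c ≫ e.hom.app Y, by simp⟩⟩ h
  exact (cancel_mono (e.inv.app Y)).1 ((cancel_epi (e.hom.app X)).1 hab)

end Groth.Agent.FTors27
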