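import Groth.Agent.FTors27.Chart
import Groth.Agent.SiteMod.ExtZero
import Groth.Agent.SiteMod.LocPres

/-!
Torsion sections of injective modules are divisible up to torsion.
-/

set_option autoImplicit false
set_option backward.isDefEq.respectTransparency.types false

noncomputable section

universe u

open CategoryTheory CategoryTheory.Limits Opposite TopologicalSpace

namespace Groth.Agent.FTors27

open Mod48 Mod48.ClosedImm SiteMod

variable {T : TopCat.{u}} {O : Sheaf (Opens.grothendieckTopology T) CommRingCat.{u}}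

theorem injective_restr (V : Opens T) (I : ModSite.Mod O) [Injective I] :
    Injective ((ModSite.restr O V).obj I) := by
  haveI := extZero_preservesFiniteLimits (O := O) V
  exact (ModSite.extZeroAdj O V).map_injective I inferInstance

/-- A value prescribed on finitely many functions, compatibly with their relations, comes from one section. -/
theorem exists_sect_of_rel {V : Opens T} {ι : Type u} [Fintype ι] (a : ι → O.obj.obj (op V))
    (I : ModSite.Mod O) [Injective I] (v : ι → (pre I).obj (op V))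
    (h : ∀ (W : Opens T) (hW : W ≤ V) (co : ι → O.obj.obj (op W)), (∑ i, co i * rr O hW (a i)) = 0 →
      ∑ i, co i • rs I hW (v i) = 0) :
    ∃ z, ∀ i, a i • z = v i := by
  classical
  let ht := topO.isTerminal V
  let α : freeM (O := O.over V) ι ⟶ ModSite.unit (O.over V) :=
    freeTo ht fun i => toU (O := O.over V) (W := topO V) (a i)
  let β : freeM (O := O.over V) ι ⟶ (ModSite.restr O V).obj I :=
    freeTo ht (G := (ModSite.restr O V).obj I) v
  have hrel : kernel.ι α ≫ β = 0 := by
    apply fgt.map_injective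
    refine PresheafOfModules.hom_ext fun W => ModuleCat.hom_ext (LinearMap.ext fun t => ?_)
    let x := ap (kernel.ι α) (W := W.unop) t
    have h0 : ap α x = 0 := by
      show ap α (ap (kernel.ι α) _) = 0
      rw [← ap_comp, kernel.condition]
      rfl
    show ap β x = 0
    rw [ap_freeTo] at h0 ⊢
    let co : ι → O.obj.obj (op W.unop.left) := fun i =>
      ofU (O := O.over V) (W := W.unop) (ap (coord (O := O.over V) i) x)
    have h1 : ∑ i, co i * rr O (leOfHom W.unop.hom) (a i) = 0 := by
      refine Eq.trans (Finset.sum_congr rfl fun i _ => ?_) h0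
      refine congrArg (fun z => co i * z) ?_
      show rres W.unop.hom.op (a i) = rres ((topO.isTerminal V).from W.unop).left.op (a i)
      rw [topO.from_left]
    refine Eq.trans (Finset.sum_congr rfl fun i _ => ?_) (h _ (leOfHom W.unop.hom) co h1)
    exact congrArg (fun z : (pre I).obj (op W.unop.left) => co i • z)
      ((res_top I (v i) W.unop).trans rfl)
  haveI := injective_restr V I
  let β' : Abelian.coimage α ⟶ (ModSite.restr O V).obj I := cokernel.desc (kernel.ι α) β hrel
  let ψ := Injective.factorThru β' (Abelian.factorThruCoimage α)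
  have hψ : α ≫ ψ = β := by
    calc α ≫ ψ = (Abelian.coimage.π α ≫ Abelian.factorThruCoimage α) ≫ ψ := by rw [Abelian.coimage.fac]
      _ = Abelian.coimage.π α ≫ β' := by rw [Category.assoc, Injective.comp_factorThru]
      _ = β := cokernel.π_desc _ _ _
  refine ⟨ap ψ (toU (O := O.over V) (W := topO V) 1), fun i => ?_⟩
  have h2 := congrArg (fun φ => ap φ (gen₀ (T := topO V) i)) hψ
  change ap (α ≫ ψ) (gen₀ i) = ap β (gen₀ i) at h2
  rw [ap_comp, ap_freeTo_gen₀, ap_freeTo_gen₀, ap_unit_eq_smul] at h2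
  exact h2

namespace Chart

variable {fam : FTors.IdealFam O} (c : Chart fam)

/-- A section killed by the first `k` generators is divisible by the next, up to sections killed by it. -/
theorem exists_divide (k : ℕ) (hk : k < c.r) (I : ModSite.Mod O) [Injective I] (n : ℕ) {W : Opens T}
    (hW : W ≤ c.U) {y : (pre I).obj (op W)} (hy : c.Tk k hW y) {x : T} (hx : x ∈ W) :
    ∃ (V : Opens T) (hV : V ≤ W), x ∈ V ∧ ∃ z, c.Tk k (hV.trans hW) z ∧ ∃ e : ℕ,
      rr O (hV.trans hW) (c.g ⟨k, hk⟩) ^ e • (rr O (hV.trans hW) (c.g ⟨k, hk⟩) ^ n • z - rs I hV y) = 0 := by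
  classical
  obtain ⟨V, hV, hxV, N, hN⟩ := hy x hx
  haveI := c.noeth
  let ι₀ := { i : Fin c.r // (i : ℕ) < k }
  obtain ⟨e, he⟩ := exists_colon_bound (c.g ⟨k, hk⟩) (fun i : ι₀ => c.g i.1 ^ N)
  refine ⟨V, hV, hxV, ?_⟩
  let G := rr O (hV.trans hW) (c.g ⟨k, hk⟩)
  let a : ULift.{u} (Option ι₀) → O.obj.obj (op V) := fun o =>
    o.down.elim (G ^ (e + n)) fun i => rr O (hV.trans hW) (c.g i.1 ^ N)
  let v : ULift.{u} (Option ι₀) → (pre I).obj (op V) := fun o =>
    o.down.elim (G ^ e • rs I hV y) fun _ => 0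
  obtain ⟨z, hz⟩ := exists_sect_of_rel a I v fun W' hW' co hco => by
    refine ext_cover (G := I) fun p hp => ?_
    obtain ⟨V', hB, hle, hpV'⟩ := c.exists_mem W' (hW'.trans (hV.trans hW)) p hp
    refine ⟨V', hle, hpV', ?_⟩
    refine Eq.trans ?_ (map_zero _).symm
    rw [← Fintype.sum_equiv Equiv.ulift.symm (fun o => co ⟨o⟩ • rs I hW' (v ⟨o⟩)) _ (fun _ => rfl),
      Fintype.sum_option]
    have hsum : (∑ i : ι₀, co ⟨some i⟩ • rs I hW' (v ⟨some i⟩)) = 0 := by
      refine Finset.sum_eq_zero fun i _ => ?_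
      rw [show rs I hW' (v ⟨some i⟩) = 0 from map_zero _, smul_zero]
    rw [hsum, add_zero, show v ⟨none⟩ = G ^ e • rs I hV y from rfl, rs_smul, rs_smul, rs_smul, ← mul_smul, rs_rs, rs_rs]
    rw [← Fintype.sum_equiv Equiv.ulift.symm (fun o => co ⟨o⟩ * rr O hW' (a ⟨o⟩)) _ (fun _ => rfl),
      Fintype.sum_option] at hco
    let f := rr O (c.B_le V' hB)
    have hf : ∀ b, rr O hle (rr O hW' (rr O (hV.trans hW) b)) = f b := fun b => by
      rw [c.rr_rr, c.rr_rr]
    have hG : ∀ m : ℕ, rr O hle (rr O hW' (G ^ m)) = f (c.g ⟨k, hk⟩) ^ m := fun m => by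
      rw [map_pow, map_pow, hf]
    have h2 := congrArg (rr O hle) hco
    rw [map_add, map_mul, map_sum, map_zero, show a ⟨none⟩ = G ^ (e + n) from rfl, hG] at h2
    have hmem := he _ f (c.flat V' hB) n (rr O hle (co ⟨none⟩)) (by
      rw [eq_neg_of_add_eq_zero_left h2]
      refine neg_mem (sum_mem fun i _ => ?_)
      rw [map_mul, show a ⟨some i⟩ = rr O (hV.trans hW) (c.g i.1 ^ N) from rfl, hf]
      exact Ideal.mul_mem_left _ _ (Ideal.subset_span ⟨i, rfl⟩))
    rw [hG]
    have hkl := hN.res c (hle.trans hW')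
    rw [rs_rs] at hkl
    exact c.smul_eq_zero_of_mem_span hkl _ hmem
  refine ⟨z, c.tk_of_kl (N := N) fun i hi => ?_, e, ?_⟩
  · rw [← map_pow]
    exact hz ⟨some ⟨i, hi⟩⟩
  · rw [smul_sub, ← mul_smul, ← pow_add, sub_eq_zero]
    exact hz ⟨none⟩

end Chart

end Groth.Agent.FTors27
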