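import Groth.Agent.SiteMod.HomColim
import Groth.Agent.FCompl13.IndCoh
import Mathlib.CategoryTheory.Presentable.Directed
import Mathlib.CategoryTheory.Presentable.Finite

/-!
Coherent modules on a quasi-compact locally Noetherian formal scheme are finitely presentable.
-/

set_option autoImplicit false
set_option backward.isDefEq.respectTransparency false

noncomputable section

universe u

open CategoryTheory CategoryTheory.Limits AlgebraicGeometry TopologicalSpace Opposite

namespace Groth.Agent.FTors27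

theorem finQC_of_noetherianSpace (X : TopCat.{u}) [NoetherianSpace X] : SiteMod.FinQC X := by
  intro ι V hV
  classical
  obtain ⟨t, ht⟩ := (NoetherianSpace.isCompact (Set.univ : Set X)).elim_finite_subcover
    (fun i => (V i : Set X)) (fun i => (V i).isOpen) fun x _ => by
      have hx : x ∈ iSup V := by rw [hV]; trivial
      obtain ⟨i, hi⟩ := Opens.mem_iSup.1 hx
      exact Set.mem_iUnion.2 ⟨i, hi⟩
  refine ⟨{i // i ∈ t}, inferInstance, fun i => V i.1, ?_, fun i => ⟨i.1, le_rfl⟩,
    fun i j => NoetherianSpace.isCompact _⟩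
  refine eq_top_iff.2 fun x _ => ?_
  obtain ⟨i, hi, hxi⟩ := Set.mem_iUnion₂.1 (ht (Set.mem_univ x))
  exact Opens.mem_iSup.2 ⟨⟨i, hi⟩, hxi⟩

theorem isFinitelyPresentable_mod {X : TopCat.{u}} [NoetherianSpace X]
    {O : Sheaf (Opens.grothendieckTopology X) CommRingCat.{u}} (G : ModSite.Mod O)
    [G.IsFinitePresentation] : IsFinitelyPresentable.{u} G := by
  rw [isFinitelyPresentable_iff_preservesFilteredColimitsOfSize]
  refine ⟨fun J _ _ => ⟨fun {K} => ?_⟩⟩
  obtain ⟨α, _, _, _, F, _⟩ := IsFiltered.exists_directed J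
  haveI : PreservesColimit (F ⋙ K) (coyoneda.obj (op G)) :=
    SiteMod.preservesColimit_coyoneda (finQC_of_noetherianSpace X) (F ⋙ K) G
  exact Functor.Final.preservesColimit_of_comp F

theorem isFinitelyPresentable_coh {𝔛 : FSch.Sys.{u}} (h𝔛 : 𝔛.IsLocNoethFormal) [CompactSpace (𝔛.X 0)]
    {G : FSch.ModF 𝔛 h𝔛.1} (hG : FSch.IsCohF 𝔛 h𝔛.1 G) : IsFinitelyPresentable.{u} G := by
  haveI := h𝔛.2.2 0
  haveI : AlgebraicGeometry.IsNoetherian (𝔛.X 0) := {}
  haveI : SheafOfModules.IsFinitePresentation.{u} G := hG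
  haveI : NoetherianSpace (TopCat.of (𝔛.X 0)) := inferInstanceAs (NoetherianSpace (𝔛.X 0))
  exact isFinitelyPresentable_mod (X := TopCat.of (𝔛.X 0)) G

end Groth.Agent.FTors27
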