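import Groth.Agent.FTors27.Push

/-!
Power-torsion modules on `Y` are direct images of torsion modules on the formal scheme.
-/

set_option autoImplicit false
set_option backward.isDefEq.respectTransparency false
set_option backward.isDefEq.respectTransparency.types false
set_option linter.unusedSectionVars false

noncomputable section

universe u

open CategoryTheory CategoryTheory.Limits AlgebraicGeometry TopologicalSpace Opposite

namespace Groth.Agent.FTors27

open Mod48 Mod48.ClosedImm SiteMod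

variable {𝔛 : FSch.Sys.{u}} (h : 𝔛.IsFormal) {Y : Scheme.{u}} (p : ∀ n, 𝔛.X n ⟶ Y)
  (hp : ∀ n, 𝔛.ι n ≫ p (n + 1) = p n) [∀ n, IsClosedImmersion (p n)]
  (I : Y.IdealSheafData) (hker : ∀ n, (p n).ker = I ^ (n + 1))
  (N : ModSite.Mod Y.sheaf) (hN : FTors.IsTorsZp Y I N)

omit [∀ n, IsClosedImmersion (p n)] in
theorem proj_res_congr (n : ℕ) {W W' : Opens (TopCat.of (𝔛.X 0))} (hW : W' ≤ W)
    {a b : FBlow13.Sec 𝔛 h W} (e : FBlow13.proj 𝔛 h W n a = FBlow13.proj 𝔛 h W n b) :
    FBlow13.proj 𝔛 h W' n (FBlow13.res 𝔛 h hW a) = FBlow13.proj 𝔛 h W' n (FBlow13.res 𝔛 h hW b) := by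
  rw [FBlow13.proj_res_apply, FBlow13.proj_res_apply, e]

omit [∀ n, IsClosedImmersion (p n)] in
theorem crn_rr (n : ℕ) {W : Opens (TopCat.of (𝔛.X 0))} {U V : Y.Opens} (hVU : V ≤ U)
    (hU : (Opens.map (pb p)).obj U ≤ W) (hV : (Opens.map (pb p)).obj V ≤ W)
    (a : FBlow13.Sec 𝔛 h W) (b : Γ(Y, U))
    (e : crn h p hp n U b = FBlow13.proj 𝔛 h (p 0 ⁻¹ᵁ U) n (FBlow13.res 𝔛 h hU a)) :
    crn h p hp n V (Y.presheaf.map (homOfLE hVU).op b) =
      FBlow13.proj 𝔛 h (p 0 ⁻¹ᵁ V) n (FBlow13.res 𝔛 h hV a) := by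
  rw [crn_res, e]
  refine (FBlow13.proj_res_apply (map_le (pb p) hVU) n _).symm.trans ?_
  exact congrArg _ (rres_rres (O := 𝔛.Osh h) _ _ a)

include hker in
omit [∀ n, IsClosedImmersion (p n)] in
theorem kz_smul_congr [∀ n, IsClosedImmersion (p n)] (n : ℕ) {U : Y.Opens} {s : (pre N).obj (op U)}
    (hs : Kz I n N s) {b b' : Γ(Y, U)} (e : crn h p hp n U b = crn h p hp n U b') : b • s = b' • s := by
  have h0 : crn h p hp n U (b - b') = 0 := by
    unfold crn at e ⊢
    rw [map_sub, map_sub, sub_eq_zero]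
    exact e
  have := smul_eq_zero_of_kz I hs (mem_powIdeal_of_crn_eq_zero h p hp I hker n (b - b') h0)
  rwa [sub_smul, sub_eq_zero] at this

theorem not_mem_pre' {U : Y.Opens} (hU : U ≤ U₀ (hi p)) (z : TopCat.of (𝔛.X 0)) :
    z ∉ (Opens.map (pb p)).obj U := fun hz => hU hz ⟨z, rfl⟩

include hker hN hp h in
theorem eq_zero' {U : Y.Opens} (hU : U ≤ U₀ (hi p)) (s : (pre N).obj (op U)) : s = 0 := by
  refine ext_cover (G := N) fun y hy => ?_
  obtain ⟨V, hV, n, hyV, hn⟩ := tz_exists I (hN U s) hy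
  refine ⟨V, hV, hyV, ?_⟩
  refine Eq.trans ?_ (map_zero _).symm
  refine (one_smul (Y.sheaf.obj.obj (op V)) _).symm.trans ?_
  refine smul_eq_zero_of_kz I hn (mem_powIdeal_of_crn_eq_zero h p hp I hker n 1 ?_)
  unfold crn
  rw [ClosedImm.fun_subsingleton (O := 𝔛.Osh h) (not_mem_pre' p (hV.trans hU))
    (FCompl13.sg h p hp V 1) 0, map_zero]

include hker hN hp h in
theorem res_injective' {U U' : Y.Opens} (hle : U ≤ U')
    (hpre : (Opens.map (pb p)).obj U' ≤ (Opens.map (pb p)).obj U)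
    {s t : (pre N).obj (op U')} (e : rs N hle s = rs N hle t) : s = t := by
  refine ext_cover fun y hy => ?_
  by_cases hyr : y ∈ Set.range (pb p)
  · obtain ⟨z, rfl⟩ := hyr
    exact ⟨U, hle, hpre hy, e⟩
  · exact ⟨U' ⊓ U₀ (hi p), inf_le_left, ⟨hy, hyr⟩,
      (eq_zero' h p hp I hker N hN inf_le_right _).trans (eq_zero' h p hp I hker N hN inf_le_right _).symm⟩

include hker hN hp h in
theorem res_surjective' {U U' : Y.Opens} (hle : U ≤ U')
    (hpre : (Opens.map (pb p)).obj U' ≤ (Opens.map (pb p)).obj U)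
    (s : (pre N).obj (op U)) : ∃ t : (pre N).obj (op U'), rs N hle t = s := by
  let V : ULift.{u} Bool → Y.Opens := fun j => bif j.down then U else U' ⊓ U₀ (hi p)
  let σ : ∀ j, (pre N).obj (op (V j)) := fun j => match j with
    | ⟨true⟩ => s
    | ⟨false⟩ => 0
  obtain ⟨t, ht⟩ := glue N V (W := U')
    (fun j => by rcases j with ⟨_ | _⟩; exacts [inf_le_left, hle])
    (fun y hy => by
      by_cases hyr : y ∈ Set.range (pb p)
      · obtain ⟨z, rfl⟩ := hyr
        exact ⟨⟨true⟩, hpre hy⟩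
      · exact ⟨⟨false⟩, hy, hyr⟩)
    σ (by
      rintro ⟨_ | _⟩ ⟨_ | _⟩
      · rfl
      · exact (eq_zero' h p hp I hker N hN (inf_le_left.trans inf_le_right) _).trans
          (eq_zero' h p hp I hker N hN (inf_le_left.trans inf_le_right) _).symm
      · exact (eq_zero' h p hp I hker N hN (inf_le_right.trans inf_le_right) _).trans
          (eq_zero' h p hp I hker N hN (inf_le_right.trans inf_le_right) _).symm
      · rfl)
  exact ⟨t, ht ⟨true⟩⟩

/-- `b` computes the product of `s` by `a` on `U`. -/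
def IsRep {W : Opens (TopCat.of (𝔛.X 0))} (a : FBlow13.Sec 𝔛 h W)
    (s : (pre N).obj (op (Umax (hi p) W))) (U : Y.Opens) (b : Γ(Y, U)) : Prop :=
  ∃ (hU : U ≤ Umax (hi p) W) (n : ℕ), Kz I n N (rs N hU s) ∧
    crn h p hp n U b = FBlow13.proj 𝔛 h (p 0 ⁻¹ᵁ U) n (FBlow13.res 𝔛 h (pre_le (hi p) hU) a)

variable {h p hp I N}

theorem IsRep.res {W : Opens (TopCat.of (𝔛.X 0))} {a : FBlow13.Sec 𝔛 h W}
    {s : (pre N).obj (op (Umax (hi p) W))} {U V : Y.Opens} {b : Γ(Y, U)}
    (hb : IsRep h p hp I N a s U b) (hV : V ≤ U) :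
    IsRep h p hp I N a s V (Y.presheaf.map (homOfLE hV).op b) := by
  obtain ⟨hU, n, hk, e⟩ := hb
  refine ⟨hV.trans hU, n, ?_, crn_rr h p hp n hV _ _ a b e⟩
  have := hk.res (homOfLE hV)
  rwa [show FTors.res N (homOfLE hV) (rs N hU s) = rs N (hV.trans hU) s from rs_rs N hU hV s] at this

variable (h p hp I N)

include hker in
theorem isRep_unique {W : Opens (TopCat.of (𝔛.X 0))} {a : FBlow13.Sec 𝔛 h W}
    {s : (pre N).obj (op (Umax (hi p) W))} {U : Y.Opens} {b b' : Γ(Y, U)}
    (hb : IsRep h p hp I N a s U b) (hb' : IsRep h p hp I N a s U b') (hU : U ≤ Umax (hi p) W) :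
    b • rs N hU s = b' • rs N hU s := by
  obtain ⟨_, n, hk, e⟩ := hb
  obtain ⟨_, m, hk', e'⟩ := hb'
  rcases le_total n m with hnm | hmn
  · exact kz_smul_congr h p hp I hker N n hk (e.trans (crn_eq_of_le h p hp hnm b' _ e').symm)
  · exact kz_smul_congr h p hp I hker N m hk' ((crn_eq_of_le h p hp hmn b _ e).trans e'.symm)

include hker hN in
theorem exists_isRep {W : Opens (TopCat.of (𝔛.X 0))} (a : FBlow13.Sec 𝔛 h W)
    (s : (pre N).obj (op (Umax (hi p) W))) {y : Y} (hy : y ∈ Umax (hi p) W) :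
    ∃ (U : Y.Opens) (b : Γ(Y, U)), y ∈ U ∧ IsRep h p hp I N a s U b := by
  obtain ⟨U₁, hU₁, n, hy₁, hn⟩ := tz_exists I (hN _ s) hy
  obtain ⟨V, -, hV, hyV, b, hb⟩ := exists_lift h p hp I hker n
    (FBlow13.res 𝔛 h (pre_le (hi p) hU₁) a) hy₁
  refine ⟨V, b, hyV, hV.trans hU₁, n, ?_, hb.trans (congrArg _ (rres_rres (O := 𝔛.Osh h) _ _ a))⟩
  have := hn.res (homOfLE hV)
  rwa [show FTors.res N (homOfLE hV) (rs N hU₁ s) = rs N (hV.trans hU₁) s from rs_rs N hU₁ hV s] at this

/-- `t` is the product of `s` by `a`. -/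
def IsAct' {W : Opens (TopCat.of (𝔛.X 0))} (a : FBlow13.Sec 𝔛 h W)
    (s t : (pre N).obj (op (Umax (hi p) W))) : Prop :=
  ∀ (U : Y.Opens) (hU : U ≤ Umax (hi p) W) (b : Γ(Y, U)),
    IsRep h p hp I N a s U b → rs N hU t = b • rs N hU s

include hker hN in
theorem exists_act' {W : Opens (TopCat.of (𝔛.X 0))} (a : FBlow13.Sec 𝔛 h W)
    (s : (pre N).obj (op (Umax (hi p) W))) : ∃ t, IsAct' h p hp I N a s t := by
  let ι := { q : Σ U : Y.Opens, Γ(Y, U) // IsRep h p hp I N a s q.1 q.2 }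
  obtain ⟨t, ht⟩ := glue N (fun q : ι => q.1.1) (W := Umax (hi p) W) (fun q => q.2.choose)
    (fun y hy => by
      obtain ⟨U, b, hyU, hb⟩ := exists_isRep h p hp I hker N hN a s hy
      exact ⟨⟨⟨U, b⟩, hb⟩, hyU⟩)
    (fun q => q.1.2 • rs N q.2.choose s)
    (fun q r => by
      rw [rs_smul, rs_smul, rs_rs, rs_rs]
      exact isRep_unique h p hp I hker N (q.2.res inf_le_left) (r.2.res inf_le_right) _)
  exact ⟨t, fun U hU b hb => ht ⟨⟨U, b⟩, hb⟩⟩

include hker hN in
theorem ext_rep {W : Opens (TopCat.of (𝔛.X 0))} (a a' : FBlow13.Sec 𝔛 h W)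
    (s s' : (pre N).obj (op (Umax (hi p) W))) {t t' : (pre N).obj (op (Umax (hi p) W))}
    (e : ∀ (U : Y.Opens) (hU : U ≤ Umax (hi p) W) (b b' : Γ(Y, U)),
      IsRep h p hp I N a s U b → IsRep h p hp I N a' s' U b' → rs N hU t = rs N hU t') : t = t' := by
  refine ext_cover fun y hy => ?_
  obtain ⟨U, b, hyU, hb⟩ := exists_isRep h p hp I hker N hN a s hy
  obtain ⟨U', b', hyU', hb'⟩ := exists_isRep h p hp I hker N hN a' s' hy
  exact ⟨U ⊓ U', inf_le_left.trans hb.choose, ⟨hyU, hyU'⟩,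
    e _ _ _ _ (hb.res inf_le_left) (hb'.res inf_le_right)⟩

include hker hN in
/-- The action of sections of the formal scheme. -/
def act' {W : Opens (TopCat.of (𝔛.X 0))} (a : FBlow13.Sec 𝔛 h W)
    (s : (pre N).obj (op (Umax (hi p) W))) : (pre N).obj (op (Umax (hi p) W)) :=
  (exists_act' h p hp I hker N hN a s).choose

theorem act'_spec {W : Opens (TopCat.of (𝔛.X 0))} (a : FBlow13.Sec 𝔛 h W)
    (s : (pre N).obj (op (Umax (hi p) W))) {U : Y.Opens} (hU : U ≤ Umax (hi p) W) {b : Γ(Y, U)}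
    (hb : IsRep h p hp I N a s U b) : rs N hU (act' h p hp I hker N hN a s) = b • rs N hU s :=
  (exists_act' h p hp I hker N hN a s).choose_spec U hU b hb

theorem isRep_res {W' W : Opens (TopCat.of (𝔛.X 0))} (hW : W' ≤ W) {a : FBlow13.Sec 𝔛 h W}
    {s : (pre N).obj (op (Umax (hi p) W))} {U : Y.Opens} {b : Γ(Y, U)}
    (hb : IsRep h p hp I N (FBlow13.res 𝔛 h hW a) (rs N (Umax_mono (hi p) hW) s) U b) :
    IsRep h p hp I N a s U b := by
  obtain ⟨hU, n, hk, e⟩ := hb
  refine ⟨hU.trans (Umax_mono (hi p) hW), n, ?_, e.trans (congrArg _ (rres_rres (O := 𝔛.Osh h) _ _ a))⟩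
  rwa [rs_rs] at hk

theorem act'_res {W' W : Opens (TopCat.of (𝔛.X 0))} (hW : W' ≤ W) (a : FBlow13.Sec 𝔛 h W)
    (s : (pre N).obj (op (Umax (hi p) W))) :
    rs N (Umax_mono (hi p) hW) (act' h p hp I hker N hN a s) =
      act' h p hp I hker N hN (FBlow13.res 𝔛 h hW a) (rs N (Umax_mono (hi p) hW) s) := by
  refine ext_rep h p hp I hker N hN (FBlow13.res 𝔛 h hW a) (FBlow13.res 𝔛 h hW a)
    (rs N (Umax_mono (hi p) hW) s) (rs N (Umax_mono (hi p) hW) s)
    fun U hU b b' hb _ => ?_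
  rw [act'_spec h p hp I hker N hN _ _ hU hb, rs_rs, rs_rs]
  exact act'_spec h p hp I hker N hN a s _ (isRep_res h p hp I N hW hb)

theorem act'_sg {U : Y.Opens} (b : Γ(Y, U)) (s : (pre N).obj (op (Umax (hi p) ((Opens.map (pb p)).obj U)))) :
    rs N (le_Umax (hi p) le_rfl) (act' h p hp I hker N hN (FCompl13.sg h p hp U b) s) =
      b • rs N (le_Umax (hi p) le_rfl) s := by
  refine ext_cover (G := N) fun y hy => ?_
  obtain ⟨V, hV, n, hyV, hn⟩ := tz_exists I (hN U (rs N (le_Umax (hi p) le_rfl) s)) hy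
  refine ⟨V, hV, hyV, ?_⟩
  rw [rs_smul, rs_rs, rs_rs]
  refine act'_spec h p hp I hker N hN _ s _ ⟨_, n, by rwa [rs_rs] at hn, ?_⟩
  exact congrArg _ (sg_res h p hp hV b)

/-- The module structure on sections. -/
@[implicit_reducible]
def module' (W : (Opens (TopCat.of (𝔛.X 0)))ᵒᵖ) :
    Module ((ModSite.ringSh (𝔛.Osh h)).obj.obj W) ((ClosedImm.imgAb (hi p) N).obj W) where
  smul a s := act' h p hp I hker N hN (W := W.unop) a s
  one_smul s := by
    change act' h p hp I hker N hN (W := W.unop) 1 s = (s : (pre N).obj (op (Umax (hi p) W.unop)))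
    refine ext_rep h p hp I hker N hN (1 : FBlow13.Sec 𝔛 h W.unop) 1 s s fun U hU b b' hb _ => ?_
    rw [act'_spec h p hp I hker N hN _ _ hU hb]
    refine Eq.trans ?_ (one_smul (Γ(Y, U)) _)
    obtain ⟨hU', n, hk, e⟩ := hb
    refine isRep_unique h p hp I hker N ⟨hU', n, hk, e⟩ ⟨hU', n, hk, ?_⟩ hU
    unfold crn
    rw [map_one, map_one, map_one, map_one]
  zero_smul s := by
    change act' h p hp I hker N hN (W := W.unop) 0 s = (0 : (pre N).obj (op (Umax (hi p) W.unop)))
    refine ext_rep h p hp I hker N hN (0 : FBlow13.Sec 𝔛 h W.unop) 0 s s fun U hU b b' hb _ => ?_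
    rw [act'_spec h p hp I hker N hN _ _ hU hb]
    refine Eq.trans ?_ ((zero_smul (Γ(Y, U)) (rs N hU s)).trans (map_zero _).symm)
    obtain ⟨hU', n, hk, e⟩ := hb
    refine isRep_unique h p hp I hker N ⟨hU', n, hk, e⟩ ⟨hU', n, hk, ?_⟩ hU
    unfold crn
    rw [map_zero, map_zero, map_zero, map_zero]
  smul_zero a := by
    change act' h p hp I hker N hN (W := W.unop) a (0 : (pre N).obj (op (Umax (hi p) W.unop))) =
      (0 : (pre N).obj (op (Umax (hi p) W.unop)))
    refine ext_rep h p hp I hker N hN a a (0 : (pre N).obj (op (Umax (hi p) W.unop))) 0 fun U hU b b' hb _ => ?_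
    rw [act'_spec h p hp I hker N hN _ _ hU hb,
      show rs N hU (0 : (pre N).obj (op (Umax (hi p) W.unop))) = 0 from map_zero _, smul_zero]
  smul_add a s t := by
    change act' h p hp I hker N hN (W := W.unop) a (show (pre N).obj (op (Umax (hi p) W.unop)) from s + t) =
      (act' h p hp I hker N hN a s + act' h p hp I hker N hN a t : (pre N).obj (op (Umax (hi p) W.unop)))
    refine ext_rep h p hp I hker N hN (W := W.unop) a a s t fun U hU b b' hb hb' => ?_
    refine Eq.trans ?_ (res_add _ _ _ _).symm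
    refine Eq.trans ?_ (congrArg₂ (· + ·) (act'_spec h p hp I hker N hN a s hU hb).symm
      (act'_spec h p hp I hker N hN a t hU hb').symm)
    obtain ⟨_, n, hk, e⟩ := hb
    obtain ⟨_, m, hk', e'⟩ := hb'
    have hsum : rs N hU (show (pre N).obj (op (Umax (hi p) W.unop)) from s + t) = rs N hU s + rs N hU t :=
      res_add _ _ _ _
    rcases le_total n m with hnm | hmn
    · have hb1 : IsRep h p hp I N (W := W.unop) a (show (pre N).obj (op (Umax (hi p) W.unop)) from s + t) U b' := by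
        refine ⟨hU, m, ?_, e'⟩
        rw [hsum]
        exact (hk.mono (Nat.succ_le_succ hnm)).add hk'
      refine (act'_spec h p hp I hker N hN _ _ hU hb1).trans ?_
      rw [hsum, smul_add]
      exact congrArg (· + b' • rs N hU t) (isRep_unique h p hp I hker N
        ⟨hU, m, hk.mono (Nat.succ_le_succ hnm), e'⟩ ⟨hU, n, hk, e⟩ hU)
    · have hb1 : IsRep h p hp I N (W := W.unop) a (show (pre N).obj (op (Umax (hi p) W.unop)) from s + t) U b := by
        refine ⟨hU, n, ?_, e⟩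
        rw [hsum]
        exact hk.add (hk'.mono (Nat.succ_le_succ hmn))
      refine (act'_spec h p hp I hker N hN _ _ hU hb1).trans ?_
      rw [hsum, smul_add]
      exact congrArg (b • rs N hU s + ·) (isRep_unique h p hp I hker N
        ⟨hU, n, hk'.mono (Nat.succ_le_succ hmn), e⟩ ⟨hU, m, hk', e'⟩ hU)
  add_smul a a' s := by
    change act' h p hp I hker N hN (W := W.unop) (a + a') s =
      (act' h p hp I hker N hN a s + act' h p hp I hker N hN a' s : (pre N).obj (op (Umax (hi p) W.unop)))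
    refine ext_rep h p hp I hker N hN (W := W.unop) a a' s s fun U hU b b' hb hb' => ?_
    refine Eq.trans ?_ (res_add _ _ _ _).symm
    refine Eq.trans ?_ (congrArg₂ (· + ·) (act'_spec h p hp I hker N hN a s hU hb).symm
      (act'_spec h p hp I hker N hN a' s hU hb').symm)
    refine Eq.trans ?_ (add_smul b b' _)
    refine act'_spec h p hp I hker N hN _ _ hU ?_
    obtain ⟨_, n, hk, e⟩ := hb
    obtain ⟨_, m, hk', e'⟩ := hb'
    rcases le_total n m with hnm | hmn
    · refine ⟨hU, n, hk, ?_⟩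
      have e2 := crn_eq_of_le h p hp hnm b' _ e'
      unfold crn at e e2 ⊢
      rw [map_add, map_add, map_add, map_add, e, e2]
    · refine ⟨hU, m, hk', ?_⟩
      have e2 := crn_eq_of_le h p hp hmn b _ e
      unfold crn at e' e2 ⊢
      rw [map_add, map_add, map_add, map_add, e', e2]
  mul_smul a a' s := by
    change act' h p hp I hker N hN (W := W.unop) (a * a') s = act' h p hp I hker N hN a (act' h p hp I hker N hN a' s)
    refine ext_rep h p hp I hker N hN (W := W.unop) a a' (act' h p hp I hker N hN (W := W.unop) a' s) s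
      fun U hU b b' hb hb' => ?_
    rw [act'_spec h p hp I hker N hN a _ hU hb, act'_spec h p hp I hker N hN a' s hU hb', ← mul_smul]
    obtain ⟨_, n, hk, e⟩ := hb
    obtain ⟨_, m, hk', e'⟩ := hb'
    let s₀ := rs N hU (show (pre N).obj (op (Umax (hi p) W.unop)) from s)
    -- the product is only used where it is killed
    refine ext_cover (G := N) fun y hy => ?_
    obtain ⟨V, -, hV, hyV, c, hc⟩ := exists_lift h p hp I hker (max n m)
      (FBlow13.res 𝔛 h (pre_le (hi p) hU) (show FBlow13.Sec 𝔛 h W.unop from a)) hy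
    refine ⟨V, hV, hyV, ?_⟩
    have hVW : V ≤ Umax (hi p) W.unop := hV.trans hU
    have hc' : crn h p hp (max n m) V c = FBlow13.proj 𝔛 h (p 0 ⁻¹ᵁ V) (max n m)
        (FBlow13.res 𝔛 h (pre_le (hi p) hVW) (show FBlow13.Sec 𝔛 h W.unop from a)) :=
      hc.trans (congrArg _ (rres_rres (O := 𝔛.Osh h) _ _ _))
    have hkV := hk'.res (homOfLE hV)
    rw [show FTors.res N (homOfLE hV) (rs N hU s) = rs N hVW s from rs_rs N hU hV s] at hkV
    have hrep : IsRep h p hp I N (W := W.unop) (a * a') s V (c * Y.presheaf.map (homOfLE hV).op b') := by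
      refine ⟨hVW, m, hkV, ?_⟩
      have e2 := crn_eq_of_le h p hp (le_max_right n m) c _ hc'
      have e3 := crn_rr h p hp m hV _ (pre_le (hi p) hVW) _ b' e'
      unfold crn at e2 e3 ⊢
      rw [map_mul, map_mul, map_mul, map_mul, e2, e3]
    rw [rs_rs, act'_spec h p hp I hker N hN _ _ _ hrep, rs_smul, rs_rs]
    refine (mul_smul _ _ _).trans ?_
    refine Eq.trans ?_ (congrArg (· • rs N hVW s) (map_mul (Y.presheaf.map (homOfLE hV).op).hom b b').symm)
    refine Eq.trans ?_ (mul_smul _ _ _).symm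
    -- `b` and `c` agree on the product
    have hu : IsRep h p hp I N (W := W.unop) a (act' h p hp I hker N hN a' s) V c := by
      refine ⟨hVW, n, ?_, crn_eq_of_le h p hp (le_max_left n m) c _ hc'⟩
      have := hk.res (homOfLE hV)
      rwa [show FTors.res N (homOfLE hV) (rs N hU _) = rs N hVW _ from rs_rs N hU hV _] at this
    have := isRep_unique h p hp I hker N hu
      (IsRep.res (U := U) ⟨hU, n, hk, e⟩ hV) hVW
    rwa [act'_spec h p hp I hker N hN a' s hVW (IsRep.res (U := U) ⟨hU, m, hk', e'⟩ hV)] at this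

/-- The presheaf of modules. -/
def img'Pre : PresheafOfModules.{u} (ModSite.ringSh (𝔛.Osh h)).obj :=
  letI := module' h p hp I hker N hN
  PresheafOfModules.ofPresheaf (ClosedImm.imgAb (hi p) N) fun _ _ g r m =>
    act'_res h p hp I hker N hN (leOfHom g.unop) r m

include hker hN hp h in
theorem img'_isSheaf :
    Presheaf.IsSheaf (Opens.grothendieckTopology (TopCat.of (𝔛.X 0))) (ClosedImm.imgAb (hi p) N) := by
  refine (TopCat.Presheaf.isSheaf_iff_isSheafUniqueGluing
    (ClosedImm.imgAb (hi p) N : TopCat.Presheaf AddCommGrpCat.{u} (TopCat.of (𝔛.X 0)))).2 ?_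
  intro ι W sf hsf
  let V : Option ι → Y.Opens := fun j => j.elim (U₀ (hi p)) (fun j => Umax (hi p) (W j))
  let σ : ∀ j, (pre N).obj (op (V j)) := fun j => match j with
    | none => 0
    | some j => sf j
  have hV : ∀ j, V j ≤ Umax (hi p) (iSup W) := by
    rintro (_ | j)
    · exact fun y hy => (mem_Umax (hi p)).2 fun z hz => absurd ⟨z, hz⟩ hy
    · exact Umax_mono (hi p) (le_iSup W j)
  have hcov : ∀ y ∈ Umax (hi p) (iSup W), ∃ j, y ∈ V j := by
    intro y hy
    by_cases hyr : y ∈ Set.range (pb p)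
    · obtain ⟨z, rfl⟩ := hyr
      obtain ⟨j, hj⟩ := Opens.mem_iSup.1 ((mem_Umax (hi p)).1 hy z rfl)
      exact ⟨some j, le_pre_Umax (hi p) (W j) hj⟩
    · exact ⟨none, hyr⟩
  obtain ⟨t, ht⟩ := glue N V hV hcov σ (by
    rintro (_ | j) (_ | k)
    · rfl
    · exact (eq_zero' h p hp I hker N hN inf_le_left _).trans (eq_zero' h p hp I hker N hN inf_le_left _).symm
    · exact (eq_zero' h p hp I hker N hN inf_le_right _).trans (eq_zero' h p hp I hker N hN inf_le_right _).symm
    · have hle : V (some j) ⊓ V (some k) ≤ Umax (hi p) (W j ⊓ W k) := fun y hy =>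
        (mem_Umax (hi p)).2 fun z hz => ⟨(mem_Umax (hi p)).1 hy.1 z hz, (mem_Umax (hi p)).1 hy.2 z hz⟩
      have e := congrArg (rs N hle) (hsf j k)
      exact (rs_rs N (Umax_mono (hi p) inf_le_left) hle (sf j)).symm.trans
        (e.trans (rs_rs N (Umax_mono (hi p) inf_le_right) hle (sf k))))
  refine ⟨t, fun j => ht (some j), fun t' ht' => ?_⟩
  refine ext_cover (G := N) fun y hy => ?_
  obtain ⟨j, hj⟩ := hcov y hy
  refine ⟨V j, hV j, hj, ?_⟩
  rcases j with _ | j
  · exact (eq_zero' h p hp I hker N hN le_rfl _).trans (eq_zero' h p hp I hker N hN le_rfl _).symm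
  · exact (ht' j).trans (ht (some j)).symm

/-- The module on the formal scheme. -/
def img' : FSch.ModF 𝔛 h where
  val := img'Pre h p hp I hker N hN
  isSheaf := img'_isSheaf h p hp I hker N hN

/-- Restriction from the largest open. -/
def cmpMap' (U : (Opens (TopCat.of Y))ᵒᵖ) :
    (pre ((κ h p hp).obj (img' h p hp I hker N hN))).obj U →ₗ[Y.sheaf.obj.obj U] (pre N).obj U where
  toFun t := rs N (le_Umax (hi p) le_rfl)
    (show (pre N).obj (op (Umax (hi p) ((Opens.map (pb p)).obj U.unop))) from t)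
  map_add' _ _ := res_add _ _ _ _
  map_smul' b t := act'_sg h p hp I hker N hN b
    (show (pre N).obj (op (Umax (hi p) ((Opens.map (pb p)).obj U.unop))) from t)

/-- A power-torsion module is a direct image. -/
def pushImg'Iso : (κ h p hp).obj (img' h p hp I hker N hN) ≅ N :=
  (SheafOfModules.fullyFaithfulForget _).preimageIso
    (PresheafOfModules.isoMk (fun U => (LinearEquiv.ofBijective (cmpMap' h p hp I hker N hN U)
      ⟨fun _ _ e => res_injective' h p hp I hker N hN _ (pre_Umax_le (hi p) _) e,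
        fun s => res_surjective' h p hp I hker N hN _ (pre_Umax_le (hi p) _) s⟩).toModuleIso)
      (fun U V g => ModuleCat.hom_ext (LinearMap.ext fun t => by
        exact (rs_rs N (Umax_mono (hi p) (map_le (pb p) (leOfHom g.unop))) (le_Umax (hi p) le_rfl)
            (show (pre N).obj (op (Umax (hi p) ((Opens.map (pb p)).obj U.unop))) from t)).trans
          (rs_rs N (le_Umax (hi p) le_rfl) (leOfHom g.unop)
            (show (pre N).obj (op (Umax (hi p) ((Opens.map (pb p)).obj U.unop))) from t)).symm)))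

include hker hN in
theorem isTorsF_img' : FTors.IsTorsF 𝔛 h (img' h p hp I hker N hN) := by
  intro W s
  let s' : (pre N).obj (op (Umax (hi p) W)) := s
  refine isTorsSect_of_locally _ fun z hz => ?_
  obtain ⟨U₁, hU₁, n, hz₁, hn⟩ := tz_exists I (hN _ s') (le_pre_Umax (hi p) W hz)
  refine ⟨(Opens.map (pb p)).obj U₁, pre_le (hi p) hU₁, n, hz₁, ?_⟩
  intro W' g a ha
  let hW' : W' ≤ W := (leOfHom g).trans (pre_le (hi p) hU₁)
  rw [FTors.mem_openIdealFam_iff] at ha
  show act' h p hp I hker N hN a _ = (0 : (pre N).obj (op (Umax (hi p) W')))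
  have hres : rs N (Umax_mono (hi p) (leOfHom g)) (rs N (Umax_mono (hi p) (pre_le (hi p) hU₁)) s') =
      rs N (Umax_mono (hi p) hW') s' := rs_rs N _ _ s'
  refine (congrArg (act' h p hp I hker N hN a) hres).trans ?_
  refine ext_cover (G := N) fun y hy => ?_
  by_cases hyr : y ∈ Set.range (pb p)
  · obtain ⟨z', rfl⟩ := hyr
    refine ⟨Umax (hi p) W' ⊓ U₁, inf_le_left, ⟨hy, leOfHom g (pre_Umax_le (hi p) W' hy)⟩, ?_⟩
    refine Eq.trans ?_ (map_zero _).symm
    have hk : Kz I n N (rs N (inf_le_left : Umax (hi p) W' ⊓ U₁ ≤ Umax (hi p) W')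
        (rs N (Umax_mono (hi p) hW') s')) := by
      have := hn.res (homOfLE (inf_le_right : Umax (hi p) W' ⊓ U₁ ≤ U₁))
      rwa [show FTors.res N (homOfLE (inf_le_right : Umax (hi p) W' ⊓ U₁ ≤ U₁)) (rs N hU₁ s') =
        rs N (inf_le_left : Umax (hi p) W' ⊓ U₁ ≤ Umax (hi p) W') (rs N (Umax_mono (hi p) hW') s') from
        (rs_rs N _ _ s').trans (rs_rs N _ _ s').symm] at this
    refine (act'_spec h p hp I hker N hN _ _ _ (b := 0) ⟨inf_le_left, n, hk, ?_⟩).trans (zero_smul _ _)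
    unfold crn
    rw [map_zero, map_zero]
    refine ((FBlow13.proj_res_apply _ n a).trans ?_).symm
    rw [show FBlow13.proj 𝔛 h W' n a = 0 from ha, map_zero]
  · exact ⟨Umax (hi p) W' ⊓ U₀ (hi p), inf_le_left, ⟨hy, hyr⟩,
      (eq_zero' h p hp I hker N hN inf_le_right _).trans (eq_zero' h p hp I hker N hN inf_le_right _).symm⟩

end Groth.Agent.FTors27
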