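import Mathlib.Algebra.Category.ModuleCat.Basic
import Mathlib.RingTheory.Flat.Basic
import Mathlib.RingTheory.IsTensorProduct
import Mathlib.Algebra.Exact.Basic
import Mathlib.LinearAlgebra.TensorProduct.RightExactness
import Mathlib.LinearAlgebra.TensorProduct.Prod
import Mathlib.RingTheory.TensorProduct.IsBaseChangePi

/-!
Complexes of modules, elementwise, and the acyclicity of their iterated cones of multiplications.
-/

set_option autoImplicit false
set_option backward.isDefEq.respectTransparency false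
set_option backward.isDefEq.respectTransparency.types false

noncomputable section

universe u

namespace Groth.Agent.FTors27.Kos

/-- A complex of modules, with differentials `X n → X (n + 1)`. -/
structure MC (A : Type u) [CommRing A] where
  /-- the terms -/
  X : ℤ → Type u
  [ab : ∀ n, AddCommGroup (X n)]
  [mo : ∀ n, Module A (X n)]
  /-- the differential -/
  d : ∀ n, X n →ₗ[A] X (n + 1)
  dd : ∀ n (x : X n), d (n + 1) (d n x) = 0

attribute [instance] MC.ab MC.mo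

variable {A : Type u} [CommRing A]

/-- Every cocycle is a boundary. -/
def Acy (M : MC A) : Prop :=
  ∀ n (z : M.X (n + 1)), M.d (n + 1) z = 0 → ∃ y, M.d n y = z

/-- The cone of a multiplication. -/
def cone (a : A) (M : MC A) : MC A where
  X n := M.X (n + 1) × M.X n
  d n := LinearMap.prod (-(M.d (n + 1) ∘ₗ LinearMap.fst A _ _))
    (a • LinearMap.fst A _ _ + M.d n ∘ₗ LinearMap.snd A _ _)
  dd n x := by
    refine Prod.ext ?_ ?_
    · simp [M.dd]
    · simp [M.dd]

theorem cone_d (a : A) (M : MC A) (n : ℤ) (x : M.X (n + 1) × M.X n) :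
    (cone a M).d n x = (-M.d (n + 1) x.1, a • x.1 + M.d n x.2) := rfl

theorem cone_d_eq_zero {a : A} {M : MC A} {n : ℤ} {u : M.X (n + 1 + 1)} {v : M.X (n + 1)}
    (h : (cone a M).d (n + 1) (u, v) = 0) : M.d (n + 1 + 1) u = 0 ∧ a • u + M.d (n + 1) v = 0 :=
  ⟨neg_eq_zero.1 (congrArg Prod.fst h), congrArg Prod.snd h⟩

/-- Acyclicity of the iterated cone. -/
def P : List A → MC A → Prop
  | [], M => Acy M
  | a :: l, M => P l (cone a M)

/-- A termwise short exact sequence of complexes. -/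
structure SES (M₁ M₂ M₃ : MC A) where
  /-- the injection -/
  f : ∀ n, M₁.X n →ₗ[A] M₂.X n
  /-- the surjection -/
  g : ∀ n, M₂.X n →ₗ[A] M₃.X n
  f_comm : ∀ n x, M₂.d n (f n x) = f (n + 1) (M₁.d n x)
  g_comm : ∀ n x, M₃.d n (g n x) = g (n + 1) (M₂.d n x)
  inj : ∀ n, Function.Injective (f n)
  exact : ∀ n, Function.Exact (f n) (g n)
  surj : ∀ n, Function.Surjective (g n)

namespace SES

variable {M₁ M₂ M₃ : MC A} (s : SES M₁ M₂ M₃)

theorem g_f (n : ℤ) (x : M₁.X n) : s.g n (s.f n x) = 0 := (s.exact n).apply_apply_eq_zero x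

/-- The induced sequence of cones. -/
def cone (a : A) : SES (Kos.cone a M₁) (Kos.cone a M₂) (Kos.cone a M₃) where
  f n := LinearMap.prodMap (s.f (n + 1)) (s.f n)
  g n := LinearMap.prodMap (s.g (n + 1)) (s.g n)
  f_comm n x := by
    refine Prod.ext ?_ ?_
    · exact (congrArg Neg.neg (s.f_comm (n + 1) x.1)).trans (map_neg (s.f (n + 1 + 1)) _).symm
    · refine Eq.trans ?_ (map_add (s.f (n + 1)) _ _).symm
      exact congrArg₂ (· + ·) (map_smul (s.f (n + 1)) a x.1).symm (s.f_comm n x.2)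
  g_comm n x := by
    refine Prod.ext ?_ ?_
    · exact (congrArg Neg.neg (s.g_comm (n + 1) x.1)).trans (map_neg (s.g (n + 1 + 1)) _).symm
    · refine Eq.trans ?_ (map_add (s.g (n + 1)) _ _).symm
      exact congrArg₂ (· + ·) (map_smul (s.g (n + 1)) a x.1).symm (s.g_comm n x.2)
  inj n := fun x y h => Prod.ext (s.inj _ (congrArg Prod.fst h)) (s.inj _ (congrArg Prod.snd h))
  exact n := fun y => by
    refine ⟨fun h => ?_, ?_⟩
    · obtain ⟨a₁, h₁⟩ := (s.exact (n + 1) y.1).1 (congrArg Prod.fst h)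
      obtain ⟨a₂, h₂⟩ := (s.exact n y.2).1 (congrArg Prod.snd h)
      exact ⟨(a₁, a₂), Prod.ext h₁ h₂⟩
    · rintro ⟨x, rfl⟩
      exact Prod.ext (s.g_f _ x.1) (s.g_f _ x.2)
  surj n := fun y => by
    obtain ⟨a₁, h₁⟩ := s.surj (n + 1) y.1
    obtain ⟨a₂, h₂⟩ := s.surj n y.2
    exact ⟨(a₁, a₂), Prod.ext h₁ h₂⟩

include s in
theorem acy₂ (h₁ : Acy M₁) (h₃ : Acy M₃) : Acy M₂ := by
  intro n z hz
  obtain ⟨y₃, hy₃⟩ := h₃ n (s.g (n + 1) z) (by rw [s.g_comm, hz, map_zero])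
  obtain ⟨y₂, rfl⟩ := s.surj n y₃
  rw [s.g_comm] at hy₃
  obtain ⟨w, hw⟩ := (s.exact (n + 1) (z - M₂.d n y₂)).1 (by rw [map_sub, hy₃, sub_self])
  obtain ⟨v, rfl⟩ := h₁ n w (s.inj _ (by rw [← s.f_comm, hw, map_sub, hz, M₂.dd, sub_zero, map_zero]))
  exact ⟨y₂ + s.f n v, by rw [map_add, s.f_comm, hw, add_sub_cancel]⟩

include s in
theorem acy₁ (h₂ : Acy M₂) (h₃ : Acy M₃) : Acy M₁ := by
  intro n z hz
  obtain ⟨y, hy⟩ := h₂ n (s.f (n + 1) z) (by rw [s.f_comm, hz, map_zero])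
  have hy' : M₃.d n (s.g n y) = 0 := by rw [s.g_comm, hy, s.g_f]
  obtain ⟨m, rfl⟩ : ∃ m, n = m + 1 := ⟨n - 1, (sub_add_cancel n 1).symm⟩
  obtain ⟨p₃, hp₃⟩ := h₃ m _ hy'
  obtain ⟨p, rfl⟩ := s.surj m p₃
  obtain ⟨t, ht⟩ := (s.exact (m + 1) (y - M₂.d m p)).1 (by rw [map_sub, ← s.g_comm, hp₃, sub_self])
  exact ⟨t, s.inj _ (by rw [← s.f_comm, ht, map_sub, hy, M₂.dd, sub_zero])⟩

include s in
theorem acy₃ (h₁ : Acy M₁) (h₂ : Acy M₂) : Acy M₃ := by
  intro n z hz
  obtain ⟨z₂, rfl⟩ := s.surj (n + 1) z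
  rw [s.g_comm] at hz
  obtain ⟨w, hw⟩ := (s.exact _ _).1 hz
  obtain ⟨v, rfl⟩ := h₁ (n + 1) w (s.inj _ (by rw [← s.f_comm, hw, M₂.dd, map_zero]))
  obtain ⟨y, hy⟩ := h₂ n (z₂ - s.f (n + 1) v) (by rw [map_sub, s.f_comm, hw, sub_self])
  exact ⟨s.g n y, by rw [s.g_comm, hy, map_sub, s.g_f, sub_zero]⟩

theorem P₂ : ∀ (l : List A) {M₁ M₂ M₃ : MC A}, SES M₁ M₂ M₃ → P l M₁ → P l M₃ → P l M₂
  | [], _, _, _, s, h₁, h₃ => s.acy₂ h₁ h₃
  | a :: l, _, _, _, s, h₁, h₃ => P₂ l (s.cone a) h₁ h₃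

theorem P₁ : ∀ (l : List A) {M₁ M₂ M₃ : MC A}, SES M₁ M₂ M₃ → P l M₂ → P l M₃ → P l M₁
  | [], _, _, _, s, h₁, h₃ => s.acy₁ h₁ h₃
  | a :: l, _, _, _, s, h₁, h₃ => P₁ l (s.cone a) h₁ h₃

theorem P₃ : ∀ (l : List A) {M₁ M₂ M₃ : MC A}, SES M₁ M₂ M₃ → P l M₁ → P l M₂ → P l M₃
  | [], _, _, _, s, h₁, h₃ => s.acy₃ h₁ h₃
  | a :: l, _, _, _, s, h₁, h₃ => P₃ l (s.cone a) h₁ h₃

end SES

theorem acy_cone_of_acy (a : A) (M : MC A) (h : Acy M) : Acy (cone a M) := by
  rintro n ⟨u, v⟩ hz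
  replace hz := cone_d_eq_zero hz
  obtain ⟨p, hp⟩ := h (n + 1) u hz.1
  obtain ⟨q, hq⟩ := h n (v + a • p) (by rw [map_add, map_smul, hp]; exact (add_comm _ _).trans hz.2)
  refine ⟨(-p, q), ?_⟩
  rw [cone_d]
  exact Prod.ext (by simp only [map_neg, neg_neg]; exact hp) (by simp only [smul_neg, hq]; abel)

theorem P_of_acy : ∀ (l : List A) (M : MC A), Acy M → P l M
  | [], _, h => h
  | a :: l, M, h => P_of_acy l _ (acy_cone_of_acy a M h)

theorem P_of_subsingleton (l : List A) (M : MC A) (h : ∀ n, Subsingleton (M.X n)) : P l M :=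
  P_of_acy l M fun n z _ => ⟨0, @Subsingleton.elim _ (h _) _ _⟩

theorem acy_cone_of_bijective (a : A) (M : MC A) (h : ∀ n, Function.Bijective fun x : M.X n => a • x) :
    Acy (cone a M) := by
  rintro n ⟨u, v⟩ hz
  replace hz := cone_d_eq_zero hz
  obtain ⟨p, hp⟩ := (h (n + 1)).2 v
  simp only at hp
  refine ⟨(p, 0), ?_⟩
  rw [cone_d]
  refine Prod.ext ?_ (by simp [hp])
  refine (h (n + 1 + 1)).1 ?_
  simp only [smul_neg]
  rw [← map_smul, hp]
  exact (eq_neg_of_add_eq_zero_left hz.2).symm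

theorem P_of_mem_bijective : ∀ (l : List A) (M : MC A) (b : A), b ∈ l →
    (∀ n, Function.Bijective fun x : M.X n => b • x) → P l M
  | [], _, _, hb, _ => absurd hb (List.not_mem_nil)
  | a :: l, M, b, hb, h => by
    rcases List.mem_cons.1 hb with rfl | hb
    · exact P_of_acy l _ (acy_cone_of_bijective b M h)
    · exact P_of_mem_bijective l (cone a M) b hb fun n =>
        ⟨fun x y e => Prod.ext ((h _).1 (congrArg Prod.fst e)) ((h _).1 (congrArg Prod.snd e)), fun y =>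
          ⟨((((h (n + 1)).2 y.1).choose), ((h n).2 y.2).choose),
            Prod.ext ((h (n + 1)).2 y.1).choose_spec ((h n).2 y.2).choose_spec⟩⟩

/-- Cohomology killed, elementwise, by powers of the members of `l`. -/
def HTors (l : List A) (M : MC A) : Prop :=
  ∀ a ∈ l, ∀ n (z : M.X (n + 1)), M.d (n + 1) z = 0 → ∃ (N : ℕ) (y : M.X n), M.d n y = a ^ N • z

theorem hTors_cone (a : A) (l : List A) (M : MC A) (h : HTors l M) : HTors l (cone a M) := by
  rintro b hb n ⟨u, v⟩ hz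
  replace hz := cone_d_eq_zero hz
  obtain ⟨N, p, hp⟩ := h b hb (n + 1) u hz.1
  obtain ⟨N', q, hq⟩ := h b hb n (b ^ N • v + a • p) (by
    rw [map_add, map_smul, map_smul, hp, smul_comm a (b ^ N), ← smul_add]
    exact (congrArg (b ^ N • ·) ((add_comm _ _).trans hz.2)).trans (smul_zero _))
  refine ⟨N' + N, (-(b ^ N' • p), q), ?_⟩
  rw [cone_d]
  refine Prod.ext ?_ ?_
  · simp only [map_neg, neg_neg, map_smul]
    rw [hp, ← mul_smul, ← pow_add]
    rfl
  · change a • -(b ^ N' • p) + M.d n q = b ^ (N' + N) • v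
    rw [hq, smul_add, ← mul_smul, ← pow_add, smul_neg, smul_comm a]
    abel

theorem acy_of_hTors : ∀ (l : List A) (M : MC A), HTors l M → P l M → Acy M
  | [], _, _, h => h
  | a :: l, M, ht, h => by
    have hc : Acy (cone a M) :=
      acy_of_hTors l _ (hTors_cone a l M fun b hb => ht b (List.mem_cons_of_mem _ hb)) h
    have key : ∀ (N : ℕ) n (z : M.X (n + 1)), M.d (n + 1) z = 0 → (∃ y, M.d n y = a ^ N • z) →
        ∃ y, M.d n y = z := by
      intro N
      induction N with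
      | zero => intro n z _ h; simpa using h
      | succ N ih =>
        rintro n z hz ⟨y, hy⟩
        obtain ⟨m, rfl⟩ : ∃ m, n = m + 1 := ⟨n - 1, (sub_add_cancel n 1).symm⟩
        obtain ⟨⟨p, q⟩, hpq⟩ := hc m (a ^ N • z, -y) (by
          rw [cone_d, map_neg, hy, smul_smul, ← pow_succ', map_smul, hz, smul_zero, neg_zero, add_neg_cancel]
          rfl)
        rw [cone_d] at hpq
        exact ih _ z hz ⟨-p, by rw [map_neg]; exact congrArg Prod.fst hpq⟩
    intro n z hz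
    obtain ⟨N, y, hy⟩ := ht a (List.mem_cons_self ..) n z hz
    exact key N n z hz ⟨y, hy⟩

section BaseChange

variable {S : Type u} [CommRing S] [Algebra A S]

/-- A termwise base change of complexes. -/
structure BC (M : MC A) (M' : MC S) [∀ n, Module A (M'.X n)] [∀ n, IsScalarTower A S (M'.X n)] where
  /-- the maps -/
  η : ∀ n, M.X n →ₗ[A] M'.X n
  comm : ∀ n x, M'.d n (η n x) = η (n + 1) (M.d n x)
  isBC : ∀ n, IsBaseChange S (η n)

variable {M : MC A} {M' : MC S} [∀ n, Module A (M'.X n)] [∀ n, IsScalarTower A S (M'.X n)]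

theorem acy_of_bc [Module.Flat A S] (β : BC M M') (h : Acy M) : Acy M' := by
  intro n z hz
  have hex : Function.Exact (M.d n) (M.d (n + 1)) := fun x =>
    ⟨fun hx => h n x hx, by rintro ⟨y, rfl⟩; exact M.dd n y⟩
  have hex' := Module.Flat.lTensor_exact S hex
  let e := fun k => (β.isBC k).equiv
  have hnat : ∀ k t, M'.d k (e k t) = e (k + 1) ((M.d k).lTensor S t) := fun k t => by
    induction t with
    | zero => simp
    | add p q hp hq => simp [map_add, hp, hq]
    | tmul s x => simp [e, IsBaseChange.equiv_tmul, β.comm]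
  obtain ⟨t, rfl⟩ := (e (n + 1)).surjective z
  rw [hnat] at hz
  obtain ⟨t', ht'⟩ := (hex' t).1 ((e (n + 1 + 1)).injective (hz.trans (map_zero _).symm))
  exact ⟨e n t', by rw [hnat, ht']⟩

instance instModuleCone (b : S) (n : ℤ) : Module A ((Kos.cone b M').X n) :=
  inferInstanceAs (Module A (M'.X (n + 1) × M'.X n))

instance instTowerCone (b : S) (n : ℤ) : IsScalarTower A S ((Kos.cone b M').X n) :=
  inferInstanceAs (IsScalarTower A S (M'.X (n + 1) × M'.X n))

/-- The base change of a cone. -/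
def BC.cone (β : BC M M') (a : A) : BC (Kos.cone a M) (Kos.cone (algebraMap A S a) M') where
  η n := LinearMap.prodMap (β.η (n + 1)) (β.η n)
  comm n x := by
    refine Prod.ext ?_ ?_
    · exact (congrArg Neg.neg (β.comm (n + 1) x.1)).trans (map_neg (β.η (n + 1 + 1)) _).symm
    · refine Eq.trans ?_ (map_add (β.η (n + 1)) _ _).symm
      exact congrArg₂ (· + ·) ((algebraMap_smul S a _).trans (map_smul (β.η (n + 1)) a x.1).symm) (β.comm n x.2)
  isBC n := (β.isBC (n + 1)).prodMap _ _ (β.isBC n)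

end BaseChange

section Transfer

variable {S : Type u} [CommRing S] [Algebra A S] [Module.Flat A S]

/-- Acyclicity of iterated cones is stable under flat base change. -/
theorem P_of_bc : ∀ (l : List A) {M : MC A} {M' : MC S} [∀ n, Module A (M'.X n)]
    [∀ n, IsScalarTower A S (M'.X n)], BC M M' → P l M → P (l.map (algebraMap A S)) M'
  | [], _, _, _, _, β, h => acy_of_bc β h
  | a :: l, M, M', _, _, β, h =>
    P_of_bc l (β.cone a) h

end Transfer

end Groth.Agent.FTors27.Kos
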