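import Groth.Agent.FTors27.StalkLayers
import Groth.Agent.Mod48.TensFlatOver
import Groth.Agent.SiteMod.FlatRinged
import Groth.Agent.SiteMod.PushTensor
import Mathlib.RingTheory.IsTensorProduct
import Mathlib.Topology.Sheaves.SheafOfFunctions

/-!
The stalk of the inverse image of modules on ringed spaces is the base change of the stalk.
-/

set_option autoImplicit false
set_option backward.isDefEq.respectTransparency false
set_option backward.isDefEq.respectTransparency.types false

noncomputable section

universe u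

open CategoryTheory CategoryTheory.Limits Opposite TopologicalSpace

namespace Groth.Agent.FTors27

open Mod48 Mod48.ClosedImm SiteMod

variable {X Y : TopCat.{u}} {f : X ⟶ Y} {O_X : TopCat.Sheaf CommRingCat.{u} X}
  {O_Y : TopCat.Sheaf CommRingCat.{u} Y}
  (c : O_Y ⟶ ((Opens.map f).sheafPushforwardContinuous CommRingCat.{u}
    (Opens.grothendieckTopology Y) (Opens.grothendieckTopology X)).obj O_X)

/-- The map of stalk rings. -/
abbrev βx (x : X) : Ay O_Y (f x) →+* Ay O_X x := (FlatOver.beta c x).hom

theorem βx_grR {x : X} {W : Opens Y} (h : f x ∈ W) (r : O_Y.obj.obj (op W)) :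
    βx c x (grR h r) = grR (U := (Opens.map f).obj W) h (shp (ringedMap c) W r) := by
  refine (FlatOver.beta_germ c (𝟙 ((Opens.map f).obj W)) h r).trans ?_
  exact congrArg (grR (O := O_X) (U := (Opens.map f).obj W) h) (sig_id (ringedMap c) W r)

section Flat

/-- Comparison with the stalk of the presheaf. -/
def stalkToPt {T : TopCat.{u}} (O : TopCat.Sheaf CommRingCat.{u} T) (y : T) :
    TopCat.Presheaf.stalk (C := CommRingCat.{u}) O.presheaf y ⟶ CommRingCat.of (Ay O y) :=
  colimit.desc _
    { pt := CommRingCat.of (Ay O y)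
      ι :=
        { app := fun U => (pty y).toPresheafFiber U.unop.1 (mem' U.unop.2) O.obj
          naturality := fun U V i => by
            refine ((pty y).toPresheafFiber_w (homOfLE (leOfHom i.unop)) (mem' V.unop.2) O.obj).trans ?_
            exact (Category.comp_id _).symm } }

theorem stalkToPt_germ {T : TopCat.{u}} (O : TopCat.Sheaf CommRingCat.{u} T) {y : T} {U : Opens T} (h : y ∈ U)
    (r : O.presheaf.obj (op U)) :
    (stalkToPt O y).hom (O.presheaf.germ U y h r) = grR (O := O) h r := by
  have e : O.presheaf.germ U y h ≫ stalkToPt O y = (pty y).toPresheafFiber U (mem' h) O.obj :=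
    colimit.ι_desc (F := (OpenNhds.inclusion y).op ⋙ O.presheaf) _ (op (⟨U, h⟩ : OpenNhds y))
  exact congr($(e).hom r)

theorem bijective_stalkToPt {T : TopCat.{u}} (O : TopCat.Sheaf CommRingCat.{u} T) (y : T) :
    Function.Bijective (stalkToPt O y).hom := by
  refine ⟨fun a b hab => ?_, fun σ => ?_⟩
  · obtain ⟨U, hU, r, rfl⟩ := TopCat.Presheaf.exists_germ_eq O.presheaf a
    obtain ⟨V, hV, s, rfl⟩ := TopCat.Presheaf.exists_germ_eq O.presheaf b
    let W := U ⊓ V
    have hW : y ∈ W := ⟨hU, hV⟩
    rw [← TopCat.Presheaf.germ_res_apply O.presheaf (homOfLE (inf_le_left : W ≤ U)) y hW r,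
      ← TopCat.Presheaf.germ_res_apply O.presheaf (homOfLE (inf_le_right : W ≤ V)) y hW s] at hab ⊢
    rw [stalkToPt_germ, stalkToPt_germ] at hab
    obtain ⟨Z, g, z, -, e⟩ := ((pty y).toPresheafFiber_eq_iff' (P := O.obj) W (mem' hW) _ _).1 hab
    rw [← TopCat.Presheaf.germ_res_apply O.presheaf g y z.down.down,
      ← TopCat.Presheaf.germ_res_apply O.presheaf g y z.down.down (O.presheaf.map (homOfLE inf_le_right).op s)]
    exact congrArg _ e
  · obtain ⟨U, hU, r, rfl⟩ := exists_germRing (O := O) (pty y) σ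
    exact ⟨O.presheaf.germ U y hU.down.down r, stalkToPt_germ O hU.down.down r⟩

/-- Flatness of the map of stalks of presheaves gives flatness of the map of stalk rings. -/
theorem flat_βx {x : X} (h : (stalkα c x).Flat) : (βx c x).Flat := by
  let eY := RingEquiv.ofBijective (stalkToPt O_Y (f x)).hom (bijective_stalkToPt O_Y (f x))
  let eX := RingEquiv.ofBijective (stalkToPt O_X x).hom (bijective_stalkToPt O_X x)
  have e : βx c x = (eX.toRingHom.comp (stalkα c x)).comp eY.symm.toRingHom := by
    refine RingHom.ext fun a => ?_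
    obtain ⟨b, rfl⟩ := eY.surjective a
    simp only [RingHom.comp_apply, RingEquiv.toRingHom_eq_coe, RingEquiv.coe_toRingHom, RingEquiv.symm_apply_apply]
    obtain ⟨W, hW, r, rfl⟩ := TopCat.Presheaf.exists_germ_eq O_Y.presheaf b
    change βx c x ((stalkToPt O_Y (f x)).hom (O_Y.presheaf.germ W (f x) hW r)) =
      (stalkToPt O_X x).hom (stalkα c x (O_Y.presheaf.germ W (f x) hW r))
    rw [stalkToPt_germ, βx_grR, ← germ_sig c (𝟙 ((Opens.map f).obj W)) hW r, stalkToPt_germ]
    exact congrArg (grR (O := O_X) (U := (Opens.map f).obj W) hW) (sig_id (ringedMap c) W r).symm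
  rw [e]
  exact (RingHom.Flat.of_bijective eY.symm.bijective).comp (h.comp (RingHom.Flat.of_bijective eX.bijective))

end Flat

section Sky

variable (x : X) (Q : Type u) [AddCommGroup Q] [Module (Ay O_X x) Q]

/-- Sections of the skyscraper. -/
abbrev SkyS (U : Opens X) : Type u := ∀ z : U, PLift (z.1 = x) → Q

/-- The skyscraper presheaf. -/
def skyGrp : (Opens X)ᵒᵖ ⥤ AddCommGrpCat.{u} where
  obj U := AddCommGrpCat.of (SkyS x Q U.unop)
  map {U V} i := AddCommGrpCat.ofHom
    { toFun := fun g z h => g ⟨z.1, i.unop.le z.2⟩ h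
      map_zero' := rfl
      map_add' := fun _ _ => rfl }
  map_id _ := rfl
  map_comp _ _ := rfl

/-- The germ at `x` as a ring map. -/
abbrev gxR (U : Opens X) (hx : x ∈ U) : O_X.obj.obj (op U) →+* Ay O_X x :=
  ((pty x).toPresheafFiber U (mem' hx) O_X.obj).hom

instance skyGrpModule (U : (Opens X)ᵒᵖ) : Module ((ModSite.ringSh O_X).obj.obj U) ((skyGrp x Q).obj U) where
  smul r g := fun z h => gxR (O_X := O_X) x U.unop (h.down ▸ z.2) r • g z h
  one_smul g := funext fun z => funext fun h => by
    exact (congrArg (· • g z h) (map_one (gxR (O_X := O_X) x U.unop (h.down ▸ z.2)))).trans (one_smul _ _)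
  mul_smul r s g := funext fun z => funext fun h => by
    exact (congrArg (· • g z h) (map_mul (gxR (O_X := O_X) x U.unop (h.down ▸ z.2)) r s)).trans (mul_smul _ _ _)
  smul_zero r := funext fun z => funext fun h => smul_zero _
  smul_add r g g' := funext fun z => funext fun h => smul_add _ _ _
  add_smul r s g := funext fun z => funext fun h => by
    exact (congrArg (· • g z h) (map_add (gxR (O_X := O_X) x U.unop (h.down ▸ z.2)) r s)).trans (add_smul _ _ _)
  zero_smul g := funext fun z => funext fun h => by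
    exact (congrArg (· • g z h) (map_zero (gxR (O_X := O_X) x U.unop (h.down ▸ z.2)))).trans (zero_smul _ _)

/-- The skyscraper module. -/
def sky : ModSite.Mod O_X where
  val := PresheafOfModules.ofPresheaf (R := (ModSite.ringSh O_X).obj) (skyGrp x Q) fun {U V} i r g =>
    funext fun z => funext fun h => by
      change gxR (O_X := O_X) x U.unop (h.down ▸ i.unop.le z.2) r • g ⟨z.1, i.unop.le z.2⟩ h =
        gxR (O_X := O_X) x V.unop (h.down ▸ z.2) (O_X.obj.map i r) • g ⟨z.1, i.unop.le z.2⟩ h
      exact congrArg (· • g ⟨z.1, i.unop.le z.2⟩ h)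
        (germRing_res (pty x) i.unop (mem' (h.down ▸ z.2)) r).symm
  isSheaf := by
    rw [Presheaf.isSheaf_iff_isSheaf_forget _ _ (forget AddCommGrpCat.{u})]
    exact TopCat.Presheaf.toTypes_isSheaf (X := X) fun z : X => (PLift (z = x) → Q)

/-- The value at `x`. -/
def valAt {U : Opens X} (hx : x ∈ U) : (pre (sky (O_X := O_X) x Q)).obj (op U) →+ Q where
  toFun g := (show SkyS x Q U from g) ⟨x, hx⟩ ⟨rfl⟩
  map_zero' := rfl
  map_add' _ _ := rfl

/-- The stalk of the skyscraper. -/
def skyVal : ModSite.stalkAb (pty x) (sky (O_X := O_X) x Q) ⟶ AddCommGrpCat.of Q :=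
  (pty x).presheafFiberDesc (fun _ h => AddCommGrpCat.ofHom (valAt x Q h.down.down)) fun _ _ _ _ => rfl

theorem skyVal_grS {U : Opens X} (hx : x ∈ U) (g : (pre (sky (O_X := O_X) x Q)).obj (op U)) :
    (skyVal x Q).hom (grS (sky (O_X := O_X) x Q) hx g) = valAt x Q hx g :=
  ConcreteCategory.congr_hom
    ((pty x).toPresheafFiber_presheafFiberDesc (P := (ModSite.toAb (sky (O_X := O_X) x Q)).obj) _ _ U (mem' hx)) g

/-- The stalk of the skyscraper, linearly. -/
def skyValLin : ModSite.stalkMod (pty x) (sky (O_X := O_X) x Q) →ₗ[Ay O_X x] Q where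
  toFun := (skyVal x Q).hom
  map_add' := map_add _
  map_smul' r g := by
    obtain ⟨U, hU, r, rfl⟩ := exists_germRing (O := O_X) (pty x) r
    obtain ⟨W, hW, h, s, rfl⟩ := exists_grS _ g (W₀ := U) hU.down.down
    change (skyVal x Q).hom (grR hU.down.down r • grS _ h s) = grR hU.down.down r • (skyVal x Q).hom (grS _ h s)
    rw [← grR_res hW h, ← grS_smul, skyVal_grS, skyVal_grS]
    rfl

end Sky

section Eta

/-- The map from the stalk of a direct image to the stalk. -/
def pushStalkHom (N : ModSite.Mod O_X) (x : X) :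
    ModSite.stalkAb (pty (f x)) ((ringedMap c).push.obj N) ⟶ ModSite.stalkAb (pty x) N :=
  (pty (f x)).presheafFiberDesc
    (fun W h => (pty x).toPresheafFiber ((Opens.map f).obj W) (mem' (y := x) h.down.down) (ModSite.toAb N).obj)
    (fun _ _ k h => (pty x).toPresheafFiber_w ((Opens.map f).map k) (mem' (y := x) h.down.down) (ModSite.toAb N).obj)

theorem pushStalkHom_grS (N : ModSite.Mod O_X) {x : X} {W : Opens Y} (h : f x ∈ W)
    (t : (pre ((ringedMap c).push.obj N)).obj (op W)) :
    (pushStalkHom c N x).hom (grS ((ringedMap c).push.obj N) h t) =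
      grS N (U := (Opens.map f).obj W) h (ofPush (ringedMap c) N t) :=
  ConcreteCategory.congr_hom
    ((pty (f x)).toPresheafFiber_presheafFiberDesc (P := (ModSite.toAb ((ringedMap c).push.obj N)).obj) _ _ W (mem' h)) t

variable (M : ModSite.Mod O_Y) (x : X)

/-- The unit on stalks, additively. -/
def pullEta : ModSite.stalkMod (pty (f x)) M →+ ModSite.stalkMod (pty x) ((ringedMap c).pull.obj M) :=
  (pushStalkHom c ((ringedMap c).pull.obj M) x).hom.comp (stm (f x) ((ringedMap c).adj.unit.app M)).toAddMonoidHom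

theorem pullEta_grS {W : Opens Y} (h : f x ∈ W) (m : (pre M).obj (op W)) :
    pullEta c M x (grS M h m) = grS ((ringedMap c).pull.obj M) (U := (Opens.map f).obj W) h
      (ofPush (ringedMap c) _ (ap ((ringedMap c).adj.unit.app M) m)) := by
  refine (congrArg (pushStalkHom c _ x).hom (stm_grS _ h m)).trans ?_
  exact pushStalkHom_grS c _ h _

theorem pullEta_smul (a : Ay O_Y (f x)) (σ : ModSite.stalkMod (pty (f x)) M) :
    pullEta c M x (a • σ) = βx c x a • pullEta c M x σ := by
  obtain ⟨U, hU, r, rfl⟩ := exists_germRing (O := O_Y) (pty (f x)) a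
  obtain ⟨W, hW, h, s, rfl⟩ := exists_grS _ σ (W₀ := U) hU.down.down
  change pullEta c M x (grR hU.down.down r • grS M h s) = βx c x (grR hU.down.down r) • pullEta c M x (grS M h s)
  rw [← grR_res hW h, ← grS_smul, pullEta_grS, pullEta_grS, βx_grR, ← grS_smul]
  refine congrArg (grS _ (U := (Opens.map f).obj W) h) ?_
  refine Eq.trans (congrArg (ofPush (ringedMap c) _) (map_smul ((fgt.map ((ringedMap c).adj.unit.app M)).app (op W)).hom _ s)) ?_
  exact ofPush_smul _ _ _ _

/-- The stalk of the inverse image is generated by the unit. -/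
theorem span_pullEta :
    Submodule.span (Ay O_X x) (Set.range (pullEta c M x)) = ⊤ := by
  refine eq_top_iff.2 fun σ _ => ?_
  obtain ⟨V, -, hx, z, rfl⟩ := exists_grS _ σ (W₀ := ⊤) (y := x) trivial
  obtain ⟨S, hS, hS'⟩ := locally_preimage (isLocalIso_cmpPull (ringedMap c) M) (op V) z
  obtain ⟨V', v, hv, hx'⟩ := hS x hx
  obtain ⟨q, hq⟩ := hS' v hv
  obtain ⟨ξ, rfl⟩ := cls_surjective (ringedMap c) (pre M) q
  rw [← grS_res (leOfHom v) hx' z]
  rw [show rs ((ringedMap c).pull.obj M) (leOfHom v) z = _ from hq.symm, cmpPull_cls]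
  clear hq hS' hv hS
  induction ξ using Finsupp.induction_linear with
  | zero => rw [map_zero, grS_zero]; exact zero_mem _
  | add a b ha hb =>
    rw [map_add]
    convert Submodule.add_mem _ ha hb using 1
    exact map_add ((pty x).toPresheafFiber V' (mem' hx') (ModSite.toAb ((ringedMap c).pull.obj M)).obj).hom _ _
  | single t b =>
    rw [Finsupp.linearCombination_single, grS_smul]
    refine Submodule.smul_mem _ _ (Submodule.subset_span ⟨grS M (leOfHom t.g hx') t.m, ?_⟩)
    rw [pullEta_grS]
    exact (grS_res (leOfHom t.g) hx' _).symm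

/-- Naturality of the unit on stalks. -/
theorem pullEta_naturality {N : ModSite.Mod O_Y} (φ : M ⟶ N) (σ : ModSite.stalkMod (pty (f x)) M) :
    stm x ((ringedMap c).pull.map φ) (pullEta c M x σ) = pullEta c N x (stm (f x) φ σ) := by
  obtain ⟨W, -, h, s, rfl⟩ := exists_grS _ σ (W₀ := ⊤) (y := f x) trivial
  rw [pullEta_grS, stm_grS, stm_grS, pullEta_grS]
  refine congrArg (grS _ (U := (Opens.map f).obj W) h) ?_
  exact (congrArg (fun z : M ⟶ (ringedMap c).push.obj ((ringedMap c).pull.obj N) => ap z s)
    ((ringedMap c).adj.unit.naturality φ)).symm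

end Eta

section BaseChange

variable (M : ModSite.Mod O_Y) (x : X)

/-- A morphism into the direct image of a skyscraper from a map of stalks. -/
def toPushSky (Q : Type u) [AddCommGroup Q] [Module (Ay O_X x) Q] (g : ModSite.stalkMod (pty (f x)) M →+ Q)
    (hg : ∀ a σ, g (a • σ) = βx c x a • g σ) : M ⟶ (ringedMap c).push.obj (sky (O_X := O_X) x Q) :=
  ⟨PresheafOfModules.homMk
    { app := fun W => AddCommGrpCat.ofHom (AddMonoidHom.mk'
        (fun m => toPush (ringedMap c) (sky (O_X := O_X) x Q) (W := W.unop)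
          (show SkyS x Q ((Opens.map f).obj W.unop) from fun z h =>
            g (grS M (show f x ∈ W.unop from h.down ▸ z.2) m)))
        (fun a b => funext fun z => funext fun h => by
          refine Eq.trans (congrArg g ?_) (map_add g _ _)
          exact map_add ((pty (f x)).toPresheafFiber W.unop (mem' (show f x ∈ W.unop from h.down ▸ z.2))
            (ModSite.toAb M).obj).hom a b))
      naturality := fun W W' k => by
        refine AddCommGrpCat.hom_ext (AddMonoidHom.ext fun m => funext fun z => funext fun h => ?_)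
        exact congrArg g (grS_res (leOfHom k.unop) (show f x ∈ W'.unop from h.down ▸ z.2) m) }
    (fun W r m => funext fun z => funext fun h => by
      have hx : f x ∈ W.unop := h.down ▸ z.2
      refine (congrArg g (grS_smul hx r m)).trans ((hg _ _).trans ?_)
      rw [βx_grR]
      rfl)⟩

theorem valAt_toPushSky (Q : Type u) [AddCommGroup Q] [Module (Ay O_X x) Q]
    (g : ModSite.stalkMod (pty (f x)) M →+ Q)
    (hg : ∀ a σ, g (a • σ) = βx c x a • g σ) {W : Opens Y} (h : f x ∈ W) (m : (pre M).obj (op W)) :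
    valAt x Q (U := (Opens.map f).obj W) h (ofPush (ringedMap c) _ (ap (toPushSky c M x Q g hg) m)) =
      g (grS M h m) := rfl

/-- Maps of stalks factor through the stalk of the inverse image. -/
theorem exists_lift_pullEta (Q : Type u) [AddCommGroup Q] [Module (Ay O_X x) Q]
    (g : ModSite.stalkMod (pty (f x)) M →+ Q) (hg : ∀ a σ, g (a • σ) = βx c x a • g σ) :
    ∃ l : ModSite.stalkMod (pty x) ((ringedMap c).pull.obj M) →ₗ[Ay O_X x] Q,
      ∀ σ, l (pullEta c M x σ) = g σ := by
  let gh := toPushSky c M x Q g hg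
  let G := ((ringedMap c).adj.homEquiv _ _).symm gh
  refine ⟨skyValLin x Q ∘ₗ stm x G, fun σ => ?_⟩
  obtain ⟨W, -, h, s, rfl⟩ := exists_grS _ σ (W₀ := ⊤) (y := f x) trivial
  rw [LinearMap.comp_apply, pullEta_grS, stm_grS]
  refine (skyVal_grS x Q _ _).trans (Eq.trans ?_ (valAt_toPushSky c M x Q g hg h s))
  refine congrArg (valAt x Q (U := (Opens.map f).obj W) h) ?_
  have e : (ringedMap c).adj.unit.app M ≫ (ringedMap c).push.map G = gh :=
    ((ringedMap c).adj.homEquiv_unit _ _ G).symm.trans (Equiv.apply_symm_apply _ _)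
  exact congrArg (fun z : M ⟶ (ringedMap c).push.obj (sky (O_X := O_X) x Q) =>
    ofPush (ringedMap c) _ (ap z s)) e

/-- The stalk ring map as an algebra. -/
abbrev βAlg : Algebra (Ay O_Y (f x)) (Ay O_X x) := (βx c x).toAlgebra

/-- The restricted module structure on a stalk. -/
abbrev restrMod (N : ModSite.Mod O_X) : Module (Ay O_Y (f x)) (ModSite.stalkMod (pty x) N) :=
  Module.compHom _ (βx c x)

/-- The unit on stalks, linearly. -/
def pullEtaLin :
    letI := restrMod c x ((ringedMap c).pull.obj M)
    ModSite.stalkMod (pty (f x)) M →ₗ[Ay O_Y (f x)] ModSite.stalkMod (pty x) ((ringedMap c).pull.obj M) :=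
  letI := restrMod c x ((ringedMap c).pull.obj M)
  { toFun := pullEta c M x
    map_add' := map_add _
    map_smul' := pullEta_smul c M x }

theorem isBaseChange_pullEta :
    letI := βAlg c x
    letI := restrMod c x ((ringedMap c).pull.obj M)
    haveI : IsScalarTower (Ay O_Y (f x)) (Ay O_X x) (ModSite.stalkMod (pty x) ((ringedMap c).pull.obj M)) :=
      IsScalarTower.of_algebraMap_smul fun _ _ => rfl
    IsBaseChange (Ay O_X x) (pullEtaLin c M x) := by
  letI := βAlg c x
  letI := restrMod c x ((ringedMap c).pull.obj M)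
  haveI : IsScalarTower (Ay O_Y (f x)) (Ay O_X x) (ModSite.stalkMod (pty x) ((ringedMap c).pull.obj M)) :=
    IsScalarTower.of_algebraMap_smul fun _ _ => rfl
  refine IsBaseChange.of_lift_unique.{u, u, u} _ fun Q _ _ _ _ g => ?_
  letI : AddCommGroup Q := Module.addCommMonoidToAddCommGroup (Ay O_X x)
  obtain ⟨l, hl⟩ := exists_lift_pullEta c M x Q g.toAddMonoidHom fun a σ =>
    (g.map_smul a σ).trans (algebraMap_smul (Ay O_X x) a (g σ)).symm
  refine ⟨l, LinearMap.ext fun σ => hl σ, fun l' hl' => ?_⟩
  refine LinearMap.ext_on (span_pullEta c M x) ?_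
  rintro _ ⟨σ, rfl⟩
  exact (LinearMap.congr_fun hl' σ).trans (hl σ).symm

end BaseChange

end Groth.Agent.FTors27
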