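import Groth.Agent.FTors27.Basic

/-!
The direct image from a formal scheme over `Y`: exact, and fully faithful out of torsion modules.
-/

set_option autoImplicit false
set_option backward.isDefEq.respectTransparency.types false
set_option backward.isDefEq.respectTransparency false
set_option linter.unusedSectionVars false

noncomputable section

universe u

open CategoryTheory CategoryTheory.Limits AlgebraicGeometry TopologicalSpace Opposite

namespace Groth.Agent.FTors27

open Mod48 Mod48.ClosedImm SiteMod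

variable {𝔛 : FSch.Sys.{u}} (h : 𝔛.IsFormal) {Y : Scheme.{u}} (p : ∀ n, 𝔛.X n ⟶ Y)
  (hp : ∀ n, 𝔛.ι n ≫ p (n + 1) = p n) [∀ n, IsClosedImmersion (p n)]
  (I : Y.IdealSheafData) (hker : ∀ n, (p n).ker = I ^ (n + 1))

theorem hi : Topology.IsClosedEmbedding (pb p) := (p 0).isClosedEmbedding

/-- The direct image functor. -/
abbrev κ : FSch.ModF 𝔛 h ⥤ ModSite.Mod Y.sheaf := (FSch.toSchemeMor 𝔛 h p hp).push

theorem preservesFiniteColimits_κ : PreservesFiniteColimits (κ h p hp) :=
  ClosedImm.preservesFiniteColimits_push (i := pb p) (FSch.schSharp 𝔛 h p hp) (hi p)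

theorem faithful_κ : (κ h p hp).Faithful :=
  ClosedImm.faithful_push (i := pb p) (FSch.schSharp 𝔛 h p hp) (hi p)

include hker in
/-- Direct images of torsion modules are power torsion. -/
theorem isTorsZp_push {M : FSch.ModF 𝔛 h} (hM : FTors.IsTorsF 𝔛 h M) :
    FTors.IsTorsZp Y I ((κ h p hp).obj M) := by
  intro U s
  let N := (κ h p hp).obj M
  refine isTorsSect_of_locally _ fun y hy => ?_
  by_cases hyr : y ∈ Set.range (pb p)
  · obtain ⟨z, rfl⟩ := hyr
    obtain ⟨W, hW, n, hzW, hn⟩ := tors_exists _ (hM ((Opens.map (pb p)).obj U) s) (y := z) hy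
    obtain ⟨V, hV, rfl⟩ := exists_pre_eq (hi p) hW
    refine ⟨V, hV, n + 1, hzW, ?_⟩
    intro V' g a ha
    rw [FTors.mem_powIdealFam_iff] at ha
    refine ext_cover (G := N) fun x hx => ?_
    obtain ⟨A, hA, hxA, hsub⟩ := exists_isAffineOpen_mem_and_subset (x := x) (U := V') hx
    have hAV : A ≤ V' := hsub
    refine ⟨A, hAV, hxA, ?_⟩
    rw [rs_smul]
    refine Eq.trans ?_ (map_zero _).symm
    have h0 : crn h p hp n A (Y.presheaf.map (homOfLE hAV).op a) = 0 :=
      (crn_eq_zero_iff h p hp I hker n hA _).2 (ha ⟨A, hA⟩ hAV)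
    exact smul_eq_zero_of_kt (M := M) ((hn.res (homOfLE (map_le (pb p) (leOfHom g)))).res
      (homOfLE (map_le (pb p) hAV))) h0
  · refine ⟨U ⊓ U₀ (hi p), inf_le_left, 0, ⟨hy, hyr⟩, ?_⟩
    intro V g a _
    exact @Subsingleton.elim _ (ClosedImm.empty_subsingleton M
      (W := (Opens.map (pb p)).obj V) fun z hz => (leOfHom g hz).2 ⟨z, rfl⟩) _ _

section Full

variable {F G : FSch.ModF 𝔛 h} (ψ : (κ h p hp).obj F ⟶ (κ h p hp).obj G)

include hker in
theorem phi_smul' [IsLocallyNoetherian Y] (hF : FTors.IsTorsF 𝔛 h F) (W : Opens (TopCat.of (𝔛.X 0)))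
    (a : FBlow13.Sec 𝔛 h W) (s : (pre F).obj (op W)) :
    phi (FSch.schSharp 𝔛 h p hp) (hi p) ψ W (a • s) = a • phi (FSch.schSharp 𝔛 h p hp) (hi p) ψ W s := by
  let c := FSch.schSharp 𝔛 h p hp
  let φ := phi c (hi p) ψ
  obtain ⟨U, rfl⟩ := exists_pre (hi p) W
  -- multiplication by functions on `Y`
  have hlin : ∀ (V : Y.Opens) (b : Γ(Y, V)) (t : (pre F).obj (op ((Opens.map (pb p)).obj V))),
      φ _ (FCompl13.sg h p hp V b • t) = FCompl13.sg h p hp V b • φ _ t := by
    intro V b t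
    show phi c (hi p) ψ _ _ = _ • phi c (hi p) ψ _ _
    rw [phi_pre, phi_pre]
    exact map_smul ((fgt.map ψ).app (op V)).hom b
      (toPush (ModSite.RMor.ofFlat (Opens.map (pb p)) (FSch.schSharp 𝔛 h p hp)) F (W := V) t)
  refine ext_cover (G := G) fun z hz => ?_
  obtain ⟨W', hW', n, hzW', hn⟩ := tors_exists _ (hF ((Opens.map (pb p)).obj U) s) hz
  obtain ⟨U', hU', rfl⟩ := exists_pre_eq (hi p) hW'
  obtain ⟨V, hVa, hV, hyV, b, hb⟩ := exists_lift h p hp I hker n
    (FBlow13.res 𝔛 h hW' a) (y := pb p z) hzW'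
  let W₁ := (Opens.map (pb p)).obj V
  have hW₁ : W₁ ≤ (Opens.map (pb p)).obj U := (map_le (pb p) hV).trans hW'
  refine ⟨W₁, hW₁, hyV, ?_⟩
  rw [← phi_res, rs_smul, rs_smul, ← phi_res]
  let a₁ : FBlow13.Sec 𝔛 h W₁ := FBlow13.res 𝔛 h hW₁ a
  let s₁ : (pre F).obj (op W₁) := rs F hW₁ s
  show φ W₁ (a₁ • s₁) = a₁ • φ W₁ s₁
  have hs₁ : Kt h n F s₁ := by
    have := hn.res (homOfLE (map_le (pb p) hV))
    rwa [show FTors.res F (homOfLE (map_le (pb p) hV)) (rs F hW' s) = s₁ from rs_rs F hW' (map_le (pb p) hV) s] at this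
  let d := a₁ - FCompl13.sg h p hp V b
  have hd : FBlow13.proj 𝔛 h W₁ n d = 0 := by
    rw [map_sub, sub_eq_zero]
    refine Eq.trans (congrArg _ ?_) hb.symm
    exact (rres_rres (O := 𝔛.Osh h) _ _ a).symm
  have hds : d • s₁ = 0 := smul_eq_zero_of_kt hs₁ hd
  have hdt : d • φ W₁ s₁ = 0 := by
    have hmem := mem_map_of_proj_eq_zero h p hp I hker n hVa hd
    refine Submodule.span_induction ?_ (zero_smul _ _) (fun x y _ _ hx hy => by rw [add_smul, hx, hy, add_zero])
      (fun r x _ hx => by rw [smul_eq_mul, mul_smul, hx, smul_zero]) hmem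
    rintro _ ⟨i, hii, rfl⟩
    rw [← hlin, smul_eq_zero_of_kt hs₁ ((crn_eq_zero_iff h p hp I hker n hVa i).2 hii)]
    exact (AddMonoidHom.mk' (φ W₁) (phi_add c (hi p) ψ W₁)).map_zero
  have e : a₁ = d + FCompl13.sg h p hp V b := (sub_add_cancel _ _).symm
  rw [e, add_smul, add_smul, hds, hdt, zero_add, zero_add]
  exact hlin V b s₁

include hker in
/-- The preimage of a morphism of direct images, out of a torsion module. -/
def phiHom' [IsLocallyNoetherian Y] (hF : FTors.IsTorsF 𝔛 h F) : F ⟶ G :=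
  ⟨PresheafOfModules.homMk
    { app := fun W => AddCommGrpCat.ofHom (AddMonoidHom.mk' (phi (FSch.schSharp 𝔛 h p hp) (hi p) ψ W.unop)
        (phi_add _ (hi p) ψ W.unop))
      naturality := fun W W' g => by
        refine AddCommGrpCat.hom_ext (AddMonoidHom.ext fun s => ?_)
        exact phi_res _ (hi p) ψ (leOfHom g.unop) s }
    (fun W r m => phi_smul' h p hp I hker ψ hF W.unop r m)⟩

end Full

include hker in
theorem map_bijective_of_isTorsF [IsLocallyNoetherian Y] {F : FSch.ModF 𝔛 h} (hF : FTors.IsTorsF 𝔛 h F)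
    (G : FSch.ModF 𝔛 h) : Function.Bijective (fun φ : F ⟶ G => (κ h p hp).map φ) :=
  ⟨fun _ _ e => (faithful_κ h p hp).map_injective e, fun ψ => ⟨phiHom' h p hp I hker ψ hF,
    SheafOfModules.hom_ext (PresheafOfModules.hom_ext fun U =>
      ModuleCat.hom_ext (LinearMap.ext fun s => phi_pre (FSch.schSharp 𝔛 h p hp) (hi p) ψ U.unop s))⟩⟩

include hker in
theorem isIso_counit [IsLocallyNoetherian Y] {M : FSch.ModF 𝔛 h} (hM : FTors.IsTorsF 𝔛 h M) :
    IsIso ((FSch.toSchemeMor 𝔛 h p hp).adj.counit.app M) := by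
  let a := (FSch.toSchemeMor 𝔛 h p hp).adj
  obtain ⟨r, hr⟩ := (map_bijective_of_isTorsF h p hp I hker hM ((FSch.toSchemeMor 𝔛 h p hp).pull.obj ((κ h p hp).obj M))).2
    (a.unit.app ((κ h p hp).obj M))
  have hr' : (κ h p hp).map r = a.unit.app ((κ h p hp).obj M) := hr
  refine ⟨r, ?_, (faithful_κ h p hp).map_injective ?_⟩
  · refine (a.homEquiv _ _).injective ?_
    rw [Adjunction.homEquiv_unit, Adjunction.homEquiv_unit, Functor.map_comp, hr']
    refine (Category.assoc _ _ _).symm.trans ?_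
    refine ((congrArg (· ≫ _) (a.right_triangle_components M)).trans (Category.id_comp _)).trans ?_
    refine Eq.trans ?_ (congrArg (_ ≫ ·) ((κ h p hp).map_id _)).symm
    exact (Category.comp_id _).symm
  · refine (((κ h p hp).map_comp _ _).trans (congrArg (· ≫ _) hr')).trans ?_
    exact (a.right_triangle_components M).trans ((κ h p hp).map_id M).symm

end Groth.Agent.FTors27
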