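import Groth.Agent.FTors27.Core
import Groth.Agent.FTors27.TorsCat
import Groth.Agent.FTors27.Kos
import Groth.Agent.Mod48.StalkFun
import Mathlib.Topology.Sheaves.Points

/-!
Stalks of complexes of injective modules modulo their torsion are killed by iterated cones of
multiplications by the generators of a chart.
-/

set_option autoImplicit false
set_option backward.isDefEq.respectTransparency false
set_option backward.isDefEq.respectTransparency.types false

noncomputable section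

universe u

open CategoryTheory CategoryTheory.Limits Opposite TopologicalSpace

namespace Groth.Agent.FTors27

open Mod48 Mod48.ClosedImm SiteMod

section Alg

open Kos

variable {A : Type u} [CommRing A] (M : MC A) (L : ∀ n, Submodule A (M.X n))
  (hd : ∀ n x, x ∈ L n → M.d n x ∈ L (n + 1))

/-- A subcomplex. -/
def subMC : MC A where
  X n := L n
  d n := (M.d n).restrict (hd n)
  dd n x := Subtype.ext (M.dd n x.1)

/-- A quotient complex. -/
def quotMC : MC A where
  X n := M.X n ⧸ L n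
  d n := (L n).mapQ (L (n + 1)) (M.d n) (hd n)
  dd n x := by
    obtain ⟨x, rfl⟩ := Submodule.Quotient.mk_surjective _ x
    exact (congrArg (Submodule.Quotient.mk (p := L (n + 1 + 1))) (M.dd n x))

/-- The quotient sequence. -/
def sesQuot : SES (subMC M L hd) M (quotMC M L hd) where
  f n := (L n).subtype
  g n := (L n).mkQ
  f_comm _ _ := rfl
  g_comm _ _ := rfl
  inj n := Subtype.val_injective
  exact n := LinearMap.exact_subtype_mkQ _
  surj n := Submodule.mkQ_surjective _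

variable (L' : ∀ n, Submodule A (M.X n)) (hd' : ∀ n x, x ∈ L' n → M.d n x ∈ L' (n + 1))

/-- The layer between two subcomplexes. -/
def layerMC : MC A :=
  subMC (quotMC M L' hd') (fun n => ((L n).map (L' n).mkQ : Submodule A (M.X n ⧸ L' n))) fun n x hx => by
    obtain ⟨x, hx', rfl⟩ := hx
    exact ⟨M.d n x, hd n x hx', rfl⟩

/-- The sequence of a layer. -/
def sesLayer (hle : ∀ n, L' n ≤ L n) : SES (layerMC M L hd L' hd') (quotMC M L' hd') (quotMC M L hd) where
  f n := ((L n).map (L' n).mkQ).subtype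
  g n := Submodule.factor (hle n)
  f_comm _ _ := rfl
  g_comm n x := by
    obtain ⟨x, rfl⟩ := Submodule.Quotient.mk_surjective _ x
    rfl
  inj n := Subtype.val_injective
  exact n := fun x => by
    obtain ⟨x, rfl⟩ := Submodule.Quotient.mk_surjective _ x
    refine ⟨fun hx => ⟨⟨Submodule.Quotient.mk x, x, (Submodule.Quotient.mk_eq_zero _).1 hx, rfl⟩, rfl⟩, ?_⟩
    rintro ⟨⟨_, w, hw, rfl⟩, h⟩
    rw [← h]
    exact (Submodule.Quotient.mk_eq_zero _).2 hw
  surj n := Submodule.factor_surjective (hle n)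

/-- Sections killed by powers of the members of `l`, as a subcomplex. -/
def torSub {A : Type u} [CommRing A] (l : Set A) (X : Type u) [AddCommGroup X] [Module A X] : Submodule A X where
  carrier := {s | ∀ a ∈ l, ∃ N : ℕ, a ^ N • s = 0}
  add_mem' := fun {s t} hs ht a ha => by
    obtain ⟨N, hN⟩ := hs a ha
    obtain ⟨N', hN'⟩ := ht a ha
    exact ⟨N + N', by rw [smul_add, pow_add, mul_smul, mul_smul, hN', smul_zero, add_zero, smul_comm, hN, smul_zero]⟩
  zero_mem' := fun a _ => ⟨0, smul_zero _⟩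
  smul_mem' := fun b s hs a ha => by
    obtain ⟨N, hN⟩ := hs a ha
    exact ⟨N, by rw [smul_comm, hN, smul_zero]⟩

theorem torSub_map {A : Type u} [CommRing A] (l : Set A) {X X' : Type u} [AddCommGroup X] [Module A X]
    [AddCommGroup X'] [Module A X'] (f : X →ₗ[A] X') {x : X} (hx : x ∈ torSub l X) : f x ∈ torSub l X' :=
  fun a ha => by
    obtain ⟨N, hN⟩ := hx a ha
    exact ⟨N, by rw [← map_smul, hN, map_zero]⟩

end Alg

variable {T : TopCat.{u}} {O : Sheaf (Opens.grothendieckTopology T) CommRingCat.{u}}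
  {fam : FTors.IdealFam O} (c : Chart fam) {y : T} (hy : y ∈ c.U)

/-- The point. -/
abbrev pty (y : T) : GrothendieckTopology.Point.{u} (Opens.grothendieckTopology T) :=
  Opens.pointGrothendieckTopology y

/-- Membership in the fibre. -/
def mem' {y : T} {U : Opens T} (h : y ∈ U) : (pty y).fiber.obj U := ⟨⟨h⟩⟩

/-- The stalk ring. -/
abbrev Ay (O : Sheaf (Opens.grothendieckTopology T) CommRingCat.{u}) (y : T) : Type u :=
  ModSite.stalkRing (pty y) O

/-- A germ of a function. -/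
abbrev grR {U : Opens T} (h : y ∈ U) (r : O.obj.obj (op U)) : Ay O y := ModSite.germRing (pty y) U (mem' h) r

/-- A germ of a section. -/
abbrev grS (M : ModSite.Mod O) {U : Opens T} (h : y ∈ U) (s : (pre M).obj (op U)) : ModSite.stalkMod (pty y) M :=
  grm (pty y) M U (mem' h) s

theorem grR_res {U V : Opens T} (hV : V ≤ U) (h : y ∈ V) (r : O.obj.obj (op U)) :
    grR h (rr O hV r) = grR (hV h) r :=
  germRing_res (pty y) (homOfLE hV) (mem' h) r

theorem grS_res {M : ModSite.Mod O} {U V : Opens T} (hV : V ≤ U) (h : y ∈ V) (s : (pre M).obj (op U)) :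
    grS M h (rs M hV s) = grS M (hV h) s :=
  germ_res (pty y) M (homOfLE hV) (mem' h) s

theorem grR_map_pow {U : Opens T} (h : y ∈ U) (r : O.obj.obj (op U)) (N : ℕ) : grR h (r ^ N) = grR h r ^ N :=
  map_pow (((pty y).toPresheafFiber U (mem' h) O.obj).hom) r N

theorem grS_smul {M : ModSite.Mod O} {U : Opens T} (h : y ∈ U) (r : O.obj.obj (op U)) (s : (pre M).obj (op U)) :
    grS M h (r • s) = grR h r • grS M h s :=
  grm_smul (pty y) M U (mem' h) r s

theorem grS_zero {M : ModSite.Mod O} {U : Opens T} (h : y ∈ U) : grS M h (0 : (pre M).obj (op U)) = 0 :=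
  grm_zero (pty y) M U (mem' h)

theorem grS_sub {M : ModSite.Mod O} {U : Opens T} (h : y ∈ U) (s t : (pre M).obj (op U)) :
    grS M h (s - t) = grS M h s - grS M h t :=
  map_sub ((pty y).toPresheafFiber U (mem' h) (ModSite.toAb M).obj).hom s t

theorem exists_grS (M : ModSite.Mod O) (σ : ModSite.stalkMod (pty y) M) {W₀ : Opens T} (h₀ : y ∈ W₀) :
    ∃ (W : Opens T) (_ : W ≤ W₀) (h : y ∈ W) (s : (pre M).obj (op W)), grS M h s = σ := by
  obtain ⟨U, hU, s, rfl⟩ := exists_germ (pty y) M σ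
  refine ⟨U ⊓ W₀, inf_le_right, ⟨hU.down.down, h₀⟩, rs M inf_le_left s, ?_⟩
  exact grS_res inf_le_left ⟨hU.down.down, h₀⟩ s

theorem exists_nbhd_zero {M : ModSite.Mod O} {U : Opens T} (h : y ∈ U) (s : (pre M).obj (op U))
    (hs : grS M h s = 0) : ∃ (V : Opens T) (hV : V ≤ U), y ∈ V ∧ rs M hV s = 0 := by
  obtain ⟨V, g, v, -, e⟩ := exists_res_eq_of_germ_eq (pty y) M (mem' h) (hs.trans (grS_zero h).symm)
  exact ⟨V, leOfHom g, v.down.down, e.trans (SiteMod.res_zero _ _)⟩

/-- The stalk map. -/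
abbrev stm (y : T) {M N : ModSite.Mod O} (φ : M ⟶ N) :
    ModSite.stalkMod (pty y) M →ₗ[Ay O y] ModSite.stalkMod (pty y) N :=
  ((Mod48.stalkFun (pty y) O).map φ).hom

theorem stm_grS {M N : ModSite.Mod O} (φ : M ⟶ N) {U : Opens T} (h : y ∈ U) (s : (pre M).obj (op U)) :
    stm y φ (grS M h s) = grS N h (ap φ s) :=
  Mod48.stalkFun_map_grm (pty y) O φ U (mem' h) s

theorem stm_injective {M N : ModSite.Mod O} (φ : M ⟶ N) [Mono φ] : Function.Injective (stm y φ) := by
  refine (injective_iff_map_eq_zero _).2 fun σ hσ => ?_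
  obtain ⟨W, -, h, s, rfl⟩ := exists_grS M σ (W₀ := ⊤) (y := y) trivial
  rw [stm_grS] at hσ
  obtain ⟨V, hV, hyV, e⟩ := exists_nbhd_zero h _ hσ
  have h0 : rs M hV s = 0 := ap_injective_of_mono φ <| by
    refine (res_ap φ (homOfLE hV) s).symm.trans ?_
    exact e.trans (map_zero _).symm
  rw [← grS_res hV hyV, h0, grS_zero]

/-- The stalk of a complex. -/
def stalkMC (y : T) (K : CochainComplex (ModSite.Mod O) ℤ) : Kos.MC (Ay O y) where
  X n := ModSite.stalkMod (pty y) (K.X n)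
  d n := stm y (K.d n (n + 1))
  dd n x := by
    have h := ((Mod48.stalkFun (pty y) O).map_comp (K.d n (n + 1)) (K.d (n + 1) (n + 1 + 1))).symm
    rw [K.d_comp_d] at h
    refine (congrArg (fun φ : (Mod48.stalkFun (pty y) O).obj (K.X n) ⟶ (Mod48.stalkFun (pty y) O).obj (K.X (n + 1 + 1)) =>
      φ.hom x) h).trans ?_
    obtain ⟨W, -, h, s, rfl⟩ := exists_grS (K.X n) x (W₀ := ⊤) (y := y) trivial
    exact (stm_grS (0 : K.X n ⟶ K.X (n + 1 + 1)) h s).trans (grS_zero h)

/-- The germs of the first `k` generators. -/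
def genSet (k : ℕ) : Set (Ay O y) := {a | ∃ i : Fin c.r, (i : ℕ) < k ∧ grR hy (c.g i) = a}

/-- The germs of the generators. -/
def gens : List (Ay O y) := List.ofFn fun i => grR hy (c.g i)

theorem tk_of_mem {k : ℕ} {M : ModSite.Mod O} {W : Opens T} (hW : W ≤ c.U) (h : y ∈ W)
    {s : (pre M).obj (op W)} (hs : grS M h s ∈ torSub (genSet c hy k) (ModSite.stalkMod (pty y) M)) :
    ∃ (V : Opens T) (hV : V ≤ W), y ∈ V ∧ c.Tk k (hV.trans hW) (rs M hV s) := by
  classical
  have hi : ∀ i : {i : Fin c.r // (i : ℕ) < k}, ∃ (V : Opens T) (hV : V ≤ W), y ∈ V ∧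
      ∃ N : ℕ, rr O (hV.trans hW) (c.g i.1) ^ N • rs M hV s = 0 := by
    intro i
    obtain ⟨N, hN⟩ := hs _ ⟨i.1, i.2, rfl⟩
    have h0 : grS M h (rr O hW (c.g i.1) ^ N • s) = 0 := by
      rw [grS_smul, grR_map_pow, grR_res hW h]
      exact hN
    obtain ⟨V, hV, hyV, e⟩ := exists_nbhd_zero h _ h0
    refine ⟨V, hV, hyV, N, ?_⟩
    rw [rs_smul, map_pow, c.rr_rr] at e
    exact e
  choose V hV hyV N hN using hi
  obtain ⟨W', hyW', hW', hle⟩ := exists_common_nbhd h V hyV
  refine ⟨W', hW', hyW', c.tk_of_kl (N := Finset.univ.sup N) fun i hik => ?_⟩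
  have e := congrArg (rs M (hle ⟨i, hik⟩)) (hN ⟨i, hik⟩)
  rw [rs_smul, rs_rs, map_pow, c.rr_rr] at e
  have e' := e.trans (map_zero _)
  rw [← Nat.sub_add_cancel (Finset.le_sup (f := N) (Finset.mem_univ ⟨i, hik⟩)), pow_add, mul_smul, e', smul_zero]

theorem mem_of_tk {k : ℕ} {M : ModSite.Mod O} {W : Opens T} (hW : W ≤ c.U) (h : y ∈ W)
    {s : (pre M).obj (op W)} (hs : c.Tk k hW s) :
    grS M h s ∈ torSub (genSet c hy k) (ModSite.stalkMod (pty y) M) := by
  rintro _ ⟨i, hik, rfl⟩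
  obtain ⟨V, hV, hyV, N, hN⟩ := hs y h
  refine ⟨N, ?_⟩
  have e := congrArg (grS M hyV) (hN i hik)
  rw [grS_smul, grS_zero, grR_map_pow, grR_res (hV.trans hW) hyV, grS_res hV hyV] at e
  exact e

/-- The layers of an injective module are divisible. -/
theorem exists_layer_divide {k : ℕ} (hk : k < c.r) (I : ModSite.Mod O) [Injective I]
    {σ : ModSite.stalkMod (pty y) I} (hσ : σ ∈ torSub (genSet c hy k) (ModSite.stalkMod (pty y) I)) :
    ∃ τ ∈ torSub (genSet c hy k) (ModSite.stalkMod (pty y) I),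
      grR hy (c.g ⟨k, hk⟩) • τ - σ ∈ torSub (genSet c hy (k + 1)) (ModSite.stalkMod (pty y) I) := by
  obtain ⟨W, hW, h, s, rfl⟩ := exists_grS I σ hy
  obtain ⟨V, hV, hyV, hs⟩ := tk_of_mem c hy hW h hσ
  obtain ⟨V', hV', hyV', z, hz, e, he⟩ := c.exists_divide k hk I 1 (hV.trans hW) hs hyV
  refine ⟨grS I hyV' z, mem_of_tk c hy _ hyV' hz, ?_⟩
  have e1 := congrArg (grS I hyV') he
  rw [grS_zero, grS_smul, grR_map_pow, grR_res _ hyV', pow_one, grS_sub, grS_smul, grR_res _ hyV',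
    grS_res hV' hyV', grS_res hV hyV] at e1
  rintro _ ⟨i, hik, rfl⟩
  rcases Nat.lt_succ_iff_lt_or_eq.1 hik with hlt | heq
  · refine (sub_mem (Submodule.smul_mem _ _ (mem_of_tk c hy _ hyV' hz)) ?_) _ ⟨i, hlt, rfl⟩
    exact hσ
  · obtain rfl : i = ⟨k, hk⟩ := Fin.ext heq
    exact ⟨e, e1⟩

section Complex

variable (K : CochainComplex (ModSite.Mod O) ℤ)

/-- The layer subcomplex. -/
abbrev Lk (k : ℕ) (n : ℤ) : Submodule (Ay O y) ((stalkMC y K).X n) := torSub (genSet c hy k) _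

theorem Lk_d (k : ℕ) (n : ℤ) (x : (stalkMC y K).X n) (hx : x ∈ Lk c hy K k n) :
    (stalkMC y K).d n x ∈ Lk c hy K k (n + 1) :=
  torSub_map _ _ hx

theorem P_quot [∀ i, Injective (K.X i)] : ∀ k ≤ c.r,
    Kos.P (gens c hy) (quotMC (stalkMC y K) (Lk c hy K k) (Lk_d c hy K k)) := by
  intro k
  induction k with
  | zero =>
    intro _
    refine Kos.P_of_subsingleton _ _ fun n => ?_
    refine Submodule.Quotient.subsingleton_iff.2 (eq_top_iff.2 fun x _ => ?_)
    rintro a ⟨i, hi, -⟩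
    exact absurd hi (Nat.not_lt_zero _)
  | succ k ih =>
    intro hk
    have hle : ∀ n, Lk c hy K (k + 1) n ≤ Lk c hy K k n := fun n x hx a ha => by
      obtain ⟨i, hi, rfl⟩ := ha
      exact hx _ ⟨i, hi.trans (Nat.lt_succ_self k), rfl⟩
    refine (sesLayer (stalkMC y K) (Lk c hy K k) (Lk_d c hy K k) (Lk c hy K (k + 1)) (Lk_d c hy K (k + 1))
      hle).P₂ _ ?_ (ih (Nat.le_of_succ_le hk))
    let g := grR hy (c.g ⟨k, hk⟩)
    refine Kos.P_of_mem_bijective _ _ g (List.mem_ofFn.2 ⟨⟨k, hk⟩, rfl⟩) fun n => ⟨?_, ?_⟩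
    · rintro ⟨_, a, ha, rfl⟩ ⟨_, b, hb, rfl⟩ hab
      have h1 : Submodule.Quotient.mk (p := Lk c hy K (k + 1) n) (g • a) =
          Submodule.Quotient.mk (g • b) := congrArg Subtype.val hab
      rw [Submodule.Quotient.eq, ← smul_sub] at h1
      refine Subtype.ext ((Submodule.Quotient.eq _).2 fun x hx => ?_)
      obtain ⟨i, hik, rfl⟩ := hx
      rcases Nat.lt_succ_iff_lt_or_eq.1 hik with hlt | heq
      · exact sub_mem ha hb _ ⟨i, hlt, rfl⟩
      · obtain rfl : i = ⟨k, hk⟩ := Fin.ext heq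
        obtain ⟨N, hN⟩ := h1 _ ⟨⟨k, hk⟩, hik, rfl⟩
        exact ⟨N + 1, by rw [pow_succ, mul_smul]; exact hN⟩
    · rintro ⟨_, a, ha, rfl⟩
      obtain ⟨τ, hτ, hd⟩ := exists_layer_divide c hy hk (K.X n) ha
      exact ⟨⟨_, τ, hτ, rfl⟩, Subtype.ext ((Submodule.Quotient.eq _).2 hd)⟩

theorem range_gammaι (n : ℤ) :
    LinearMap.range (stm y ((gammaCxι fam K).f n)) = Lk c hy K c.r n := by
  refine le_antisymm ?_ fun σ hσ => ?_
  · rintro _ ⟨σ, rfl⟩
    obtain ⟨W, hW, h, s, rfl⟩ := exists_grS _ σ hy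
    rw [stm_grS]
    refine mem_of_tk c hy hW h (c.tk_of_isTorsSect ?_)
    exact (s : {x // x ∈ FTors.torsSub fam (K.X n) W}).2
  · obtain ⟨W, hW, h, s, rfl⟩ := exists_grS _ σ hy
    obtain ⟨V, hV, hyV, hs⟩ := tk_of_mem c hy hW h hσ
    refine ⟨grS ((gammaCx fam K).X n) hyV
      (⟨rs (K.X n) hV s, c.isTorsSect_of_tk hs⟩ : {x // x ∈ FTors.torsSub fam (K.X n) V}), ?_⟩
    rw [stm_grS, ← grS_res hV hyV s]
    rfl

theorem stm_comm {K L : CochainComplex (ModSite.Mod O) ℤ} (φ : K ⟶ L) (n : ℤ) (x : (stalkMC y K).X n) :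
    (stalkMC y L).d n (stm y (φ.f n) x) = stm y (φ.f (n + 1)) ((stalkMC y K).d n x) := by
  obtain ⟨W, -, h, s, rfl⟩ := exists_grS (K.X n) x (W₀ := ⊤) (y := y) trivial
  change stm y (L.d n (n + 1)) (stm y (φ.f n) (grS _ h s)) = stm y (φ.f (n + 1)) (stm y (K.d n (n + 1)) (grS _ h s))
  rw [stm_grS, stm_grS, stm_grS, stm_grS, ← SiteMod.ap_comp, ← SiteMod.ap_comp, φ.comm]

include hy in
/-- The stalk of a complex of injectives modulo torsion is killed by the iterated cone. -/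
theorem exists_ses_gamma [∀ i, Injective (K.X i)] :
    ∃ (Q : Kos.MC (Ay O y)) (s : Kos.SES (stalkMC y (gammaCx fam K)) (stalkMC y K) Q),
      (∀ n x, s.f n x = stm y ((gammaCxι fam K).f n) x) ∧ Kos.P (gens c hy) Q := by
  refine ⟨quotMC (stalkMC y K) (Lk c hy K c.r) (Lk_d c hy K c.r),
    { f := fun n => stm y ((gammaCxι fam K).f n)
      g := fun n => (Lk c hy K c.r n).mkQ
      f_comm := fun n x => stm_comm (gammaCxι fam K) n x
      g_comm := fun _ _ => rfl
      inj := fun n => ?_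
      exact := fun n => ?_
      surj := fun n => Submodule.mkQ_surjective _ }, fun _ _ => rfl, P_quot c hy K c.r le_rfl⟩
  · haveI : Mono ((gammaCxι fam K).f n) := mono_of_ap_injective _ fun _ _ hz => Subtype.ext hz
    exact stm_injective _
  · refine LinearMap.exact_iff.2 ?_
    rw [Submodule.ker_mkQ, range_gammaι]

end Complex

end Groth.Agent.FTors27
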