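import Groth.Agent.FTors27.PullStalk
import Groth.Agent.FTors27.DerTors

/-!
A quasi-isomorphism criterion for torsion subcomplexes, through stalks.
-/

set_option autoImplicit false
set_option backward.isDefEq.respectTransparency false
set_option backward.isDefEq.respectTransparency.types false

noncomputable section

universe u

open CategoryTheory CategoryTheory.Limits Opposite TopologicalSpace

namespace Groth.Agent.FTors27

open Mod48 Mod48.ClosedImm SiteMod

section Alg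

open Kos

variable {A : Type u} [CommRing A] {M N : MC A} (v : ∀ n, M.X n →ₗ[A] N.X n)
  (hv : ∀ n x, N.d n (v n x) = v (n + 1) (M.d n x)) (L : ∀ n, Submodule A (M.X n))
  (hL : ∀ n x, x ∈ L n → M.d n x ∈ L (n + 1))

include hv in
theorem range_stable (n : ℤ) (x : N.X n) (hx : x ∈ LinearMap.range (v n)) :
    N.d n x ∈ LinearMap.range (v (n + 1)) := by
  obtain ⟨w, rfl⟩ := hx
  exact ⟨M.d n w, (hv n w).symm⟩

include hv hL in
theorem map_stable (n : ℤ) (x : N.X n) (hx : x ∈ (L n).map (v n)) : N.d n x ∈ (L (n + 1)).map (v (n + 1)) := by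
  obtain ⟨w, hw, rfl⟩ := hx
  exact ⟨M.d n w, hL n w hw, (hv n w).symm⟩

/-- The sequence of quotients along an injection. -/
def sesComp (hi : ∀ n, Function.Injective (v n)) :
    SES (quotMC M L hL) (quotMC N (fun n => (L n).map (v n)) (map_stable v hv L hL))
      (quotMC N (fun n => LinearMap.range (v n)) (range_stable v hv)) where
  f n := (L n).mapQ ((L n).map (v n)) (v n) (fun x hx => ⟨x, hx, rfl⟩)
  g n := Submodule.factor LinearMap.map_le_range
  f_comm n x := by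
    obtain ⟨x, rfl⟩ := Submodule.Quotient.mk_surjective _ x
    exact congrArg (Submodule.Quotient.mk (p := (L (n + 1)).map (v (n + 1)))) (hv n x)
  g_comm n x := by
    obtain ⟨x, rfl⟩ := Submodule.Quotient.mk_surjective _ x
    rfl
  inj n := by
    refine (injective_iff_map_eq_zero _).2 fun x hx => ?_
    obtain ⟨x, rfl⟩ := Submodule.Quotient.mk_surjective _ x
    obtain ⟨w, hw, e⟩ := (Submodule.Quotient.mk_eq_zero _).1 hx
    exact (Submodule.Quotient.mk_eq_zero _).2 (hi n e ▸ hw)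
  exact n := fun x => by
    obtain ⟨x, rfl⟩ := Submodule.Quotient.mk_surjective _ x
    refine ⟨fun hx => ?_, ?_⟩
    · obtain ⟨w, hw⟩ := (Submodule.Quotient.mk_eq_zero _).1 hx
      exact ⟨Submodule.Quotient.mk w, congrArg Submodule.Quotient.mk hw⟩
    · rintro ⟨y, hy⟩
      obtain ⟨y, rfl⟩ := Submodule.Quotient.mk_surjective _ y
      rw [← hy]
      exact (Submodule.Quotient.mk_eq_zero _).2 ⟨y, rfl⟩
  surj n := Submodule.factor_surjective LinearMap.map_le_range

/-- Base change passes to quotients. -/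
theorem isBaseChange_quotient {S : Type u} [CommRing S] [Algebra A S] {B M₀ Q₀ M' : Type u}
    [AddCommGroup B] [Module A B] [AddCommGroup M₀] [Module A M₀] [AddCommGroup Q₀] [Module A Q₀]
    [AddCommGroup M'] [Module A M'] [Module S M'] [IsScalarTower A S M']
    (ι : B →ₗ[A] M₀) (q : M₀ →ₗ[A] Q₀) (hq : Function.Surjective q) (hex : Function.Exact ι q)
    (η : M₀ →ₗ[A] M') (hη : IsBaseChange S η) (L' : Submodule S M')
    (hL' : L' = Submodule.span S (Set.range fun b => η (ι b)))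
    (η' : Q₀ →ₗ[A] M' ⧸ L') (hη' : ∀ m, η' (q m) = Submodule.Quotient.mk (η m)) : IsBaseChange S η' := by
  subst hL'
  refine IsBaseChange.of_lift_unique.{u, u, u} _ fun W _ _ _ _ g => ?_
  letI : AddCommGroup W := Module.addCommMonoidToAddCommGroup S
  have h0 : Submodule.span S (Set.range fun b => η (ι b)) ≤ LinearMap.ker (hη.lift (g ∘ₗ q)) := by
    refine Submodule.span_le.2 ?_
    rintro _ ⟨b, rfl⟩
    change hη.lift (g ∘ₗ q) (η (ι b)) = 0
    rw [hη.lift_eq, LinearMap.comp_apply, hex.apply_apply_eq_zero, map_zero]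
  refine ⟨Submodule.liftQ _ (hη.lift (g ∘ₗ q)) h0, LinearMap.ext fun x => ?_, fun l hl => ?_⟩
  · obtain ⟨m, rfl⟩ := hq x
    change Submodule.liftQ _ _ h0 (η' (q m)) = g (q m)
    rw [hη', Submodule.liftQ_apply]
    exact hη.lift_eq _ m
  · refine Submodule.linearMap_qext _ (hη.algHom_ext _ _ fun m => ?_)
    change l (Submodule.Quotient.mk (η m)) = hη.lift (g ∘ₗ q) (η m)
    rw [hη.lift_eq, ← hη' m]
    exact LinearMap.congr_fun hl (q m)

end Alg

section Qiso

variable {T : TopCat.{u}} {O : Sheaf (Opens.grothendieckTopology T) CommRingCat.{u}}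
  {K L : CochainComplex (ModSite.Mod O) ℤ} (v : K ⟶ L) [QuasiIso v] {y : T}

theorem exists_preimage_cocycle (j i : ℤ) (hj : j + 1 = i) {W : Opens T} (z : (pre (L.X i)).obj (op W))
    (hz : ap (L.d i (i + 1)) z = 0) (hy : y ∈ W) :
    ∃ (V : Opens T) (hV : V ≤ W), y ∈ V ∧ ∃ w m, ap (K.d i (i + 1)) w = 0 ∧
      rs (L.X i) hV z = ap (v.f i) w + ap (L.d j i) m := by
  obtain rfl : j = i - 1 := by omega
  haveI := (quasiIsoAt_iff_isIso_homologyMap v i).1 (‹QuasiIso v›.quasiIsoAt i)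
  obtain ⟨cz, rfl⟩ := exists_cycle_of_cocycle L i z hz
  let hK := ap (inv (HomologicalComplex.homologyMap v i)) (ap (L.homologyπ i) cz)
  obtain ⟨V, hV, hyV, cu, hcu⟩ := exists_cocycle K i hK hy
  have h1 : ap (L.homologyπ i) (rs (L.cycles i) hV cz - ap (HomologicalComplex.cyclesMap v i) cu) = 0 := by
    refine (map_sub _ _ _).trans ?_
    rw [sub_eq_zero]
    refine Eq.trans ?_ (ap_homologyMap K i v cu)
    rw [hcu]
    refine Eq.trans ?_ (res_ap (HomologicalComplex.homologyMap v i) (homOfLE hV) hK)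
    refine (res_ap (L.homologyπ i) (homOfLE hV) cz).symm.trans (congrArg (rs (L.homology i) hV) ?_)
    refine Eq.trans ?_ (ap_comp _ _ _)
    rw [IsIso.inv_hom_id]
    rfl
  obtain ⟨V', hV', hyV', m, hm⟩ := exists_boundary L i _ h1 hyV
  refine ⟨V', hV'.trans hV, hyV', rs (K.X i) hV' (ap (K.iCycles i) cu), m, ?_, ?_⟩
  · rw [← rs_d, ap_d_iCycles]
    exact map_zero _
  · rw [hm, ← rs_rs (L.X i) hV hV' (ap (L.iCycles i) cz)]
    rw [show ap (v.f i) (rs (K.X i) hV' (ap (K.iCycles i) cu)) = rs (L.X i) hV' (ap (v.f i) (ap (K.iCycles i) cu))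
      from (res_ap (v.f i) (homOfLE hV') _).symm, ← rs_add]
    refine congrArg (rs (L.X i) hV') ?_
    rw [← ap_cyclesMap K i v cu, show rs (L.X i) hV (ap (L.iCycles i) cz) = ap (L.iCycles i) (rs (L.cycles i) hV cz)
      from res_ap (L.iCycles i) (homOfLE hV) cz]
    rw [show ap (L.iCycles i) (rs (L.cycles i) hV cz - ap (HomologicalComplex.cyclesMap v i) cu) = _ - _ from
      map_sub _ _ _]
    exact (add_sub_cancel _ _).symm

theorem exists_boundary_preimage (j i : ℤ) (hj : j + 1 = i) {W : Opens T} (w : (pre (K.X i)).obj (op W))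
    (hw : ap (K.d i (i + 1)) w = 0) (m : (pre (L.X j)).obj (op W))
    (hm : ap (L.d j i) m = ap (v.f i) w) (hy : y ∈ W) :
    ∃ (V : Opens T) (hV : V ≤ W), y ∈ V ∧ ∃ t, ap (K.d j i) t = rs (K.X i) hV w := by
  obtain rfl : j = i - 1 := by omega
  haveI := (quasiIsoAt_iff_isIso_homologyMap v i).1 (‹QuasiIso v›.quasiIsoAt i)
  obtain ⟨cw, rfl⟩ := exists_cycle_of_cocycle K i w hw
  refine exists_boundary K i cw ?_ hy
  refine ap_injective_of_mono (HomologicalComplex.homologyMap v i) (Eq.trans ?_ (map_zero _).symm)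
  rw [ap_homologyMap]
  exact class_boundary L i _ (i - 1) m (hm.trans (ap_cyclesMap K i v cw).symm)

theorem acy_coker [∀ n, Mono (v.f n)] :
    Kos.Acy (quotMC (stalkMC y L) (fun n => LinearMap.range (stm y (v.f n)))
      (range_stable (M := stalkMC y K) (N := stalkMC y L) (fun n => stm y (v.f n)) (fun n x => stm_comm v n x))) := by
  intro n zb hzb
  obtain ⟨ζ, rfl⟩ := Submodule.Quotient.mk_surjective _ zb
  obtain ⟨ω, hω⟩ := (Submodule.Quotient.mk_eq_zero _).1 hzb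
  obtain ⟨W, -, h, z, rfl⟩ := exists_grS (L.X (n + 1)) ζ (W₀ := ⊤) (y := y) trivial
  obtain ⟨W₁, hW₁, h₁, w, rfl⟩ := exists_grS (K.X (n + 1 + 1)) ω (W₀ := W) h
  have e0 : grS (L.X (n + 1 + 1)) h₁ (ap (v.f (n + 1 + 1)) w) =
      grS (L.X (n + 1 + 1)) h₁ (ap (L.d (n + 1) (n + 1 + 1)) (rs (L.X (n + 1)) hW₁ z)) := by
    rw [← stm_grS, ← stm_grS, grS_res]
    exact hω
  rw [← sub_eq_zero, ← grS_sub] at e0
  obtain ⟨W₂, hW₂, h₂, e⟩ := exists_nbhd_zero h₁ _ e0
  rw [rs_sub, sub_eq_zero, rs_d, rs_rs,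
    show rs (L.X (n + 1 + 1)) hW₂ (ap (v.f (n + 1 + 1)) w) = ap (v.f (n + 1 + 1)) (rs _ hW₂ w) from
      res_ap (v.f (n + 1 + 1)) (homOfLE hW₂) w] at e
  let w₂ := rs (K.X (n + 1 + 1)) hW₂ w
  let z₂ := rs (L.X (n + 1)) (hW₂.trans hW₁) z
  have hdw : ap (K.d (n + 1 + 1) (n + 1 + 1 + 1)) w₂ = 0 := by
    refine ap_injective_of_mono (v.f (n + 1 + 1 + 1)) (Eq.trans ?_ (map_zero _).symm)
    rw [← ap_comp, ← v.comm, ap_comp, e]
    exact dd L _ _ _ z₂
  obtain ⟨W₃, hW₃, h₃, t, ht⟩ := exists_boundary_preimage v (n + 1) (n + 1 + 1) rfl w₂ hdw z₂ e.symm h₂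
  have hd : ap (L.d (n + 1) (n + 1 + 1)) (rs (L.X (n + 1)) hW₃ z₂ - ap (v.f (n + 1)) t) = 0 := by
    rw [ap_sub', sub_eq_zero, ← rs_d, ← e, ← ap_comp, v.comm, ap_comp, ht]
    exact res_ap (v.f (n + 1 + 1)) (homOfLE hW₃) w₂
  obtain ⟨W₄, hW₄, h₄, u, m, -, hum⟩ := exists_preimage_cocycle v n (n + 1) rfl _ hd h₃
  refine ⟨Submodule.Quotient.mk (grS (L.X n) h₄ m), (Submodule.Quotient.eq _).2 ?_⟩
  refine ⟨-(grS (K.X (n + 1)) h₄ u + grS (K.X (n + 1)) h₃ t), ?_⟩
  change stm y (v.f (n + 1)) _ = stm y (L.d n (n + 1)) (grS (L.X n) h₄ m) - grS (L.X (n + 1)) h z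
  have e4 := congrArg (grS (L.X (n + 1)) h₄) hum
  rw [grS_res, grS_sub, grS_res, grS_res,
    show grS (L.X (n + 1)) h₄ (ap (v.f (n + 1)) u + ap (L.d n (n + 1)) m) =
      grS _ h₄ (ap (v.f (n + 1)) u) + grS _ h₄ (ap (L.d n (n + 1)) m) from
      map_add ((pty y).toPresheafFiber W₄ (mem' h₄) (ModSite.toAb (L.X (n + 1))).obj).hom _ _,
    sub_eq_iff_eq_add] at e4
  rw [e4, map_neg, map_add, stm_grS, stm_grS, stm_grS]
  abel

end Qiso

end Groth.Agent.FTors27
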