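import Groth.Agent.FTors27.TorsCat
import Groth.Agent.FTors27.Charts
import Groth.Agent.FCompl13.QcSum

/-!
Basic opens of an affine open of a locally Noetherian formal scheme, and sections killed by the open
ideals.
-/

set_option autoImplicit false
set_option backward.isDefEq.respectTransparency false
set_option backward.isDefEq.respectTransparency.types false
set_option linter.style.haveILetI false

noncomputable section

universe u

open CategoryTheory CategoryTheory.Limits AlgebraicGeometry TopologicalSpace Opposite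

namespace Groth.Agent.FTors27

open FCompl13 (FS fres secIdeal downU vres)
open FBlow13 (Sec res proj lvU_zero toX_preimage_lvU isAffineOpen_lvU)

variable {𝔛 : FSch.Sys.{u}} {h : 𝔛.IsFormal}

theorem sec_res_res {U V W : (𝔛.X 0).Opens} (i : V ≤ U) (j : W ≤ V) (a : Sec 𝔛 h U) :
    res 𝔛 h j (res 𝔛 h i a) = res 𝔛 h (j.trans i) a :=
  (SiteMod.rres_rres (O := 𝔛.Osh h) (homOfLE i).op (homOfLE j).op a).trans
    (congrArg (fun z => (𝔛.Osh h).obj.map z a) (Subsingleton.elim _ _))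

theorem sec_res_self {U : (𝔛.X 0).Opens} (i : U ≤ U) (a : Sec 𝔛 h U) : res 𝔛 h i a = a :=
  (congrArg (fun z => (𝔛.Osh h).obj.map z a)
    (show (homOfLE i).op = 𝟙 (op U) from Subsingleton.elim _ _)).trans
      (congr($((𝔛.Osh h).obj.map_id (op U)) a))

/-! ### Basic opens -/

/-- The open where a section over `V` is invertible. -/
abbrev secBasic {V : (𝔛.X 0).Opens} (a : Sec 𝔛 h V) : (𝔛.X 0).Opens :=
  downU 0 ((𝔛.X 0).basicOpen (proj 𝔛 h V 0 a))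

theorem secBasic_le {V : (𝔛.X 0).Opens} (a : Sec 𝔛 h V) : secBasic a ≤ V :=
  FCompl13.downU_le h ((𝔛.X 0).basicOpen_le _)

theorem secBasic_eq {V : (𝔛.X 0).Opens} (a : Sec 𝔛 h V) :
    secBasic a = (𝔛.X 0).basicOpen (proj 𝔛 h V 0 a) := rfl

theorem toZero_proj (U : (𝔛.X 0).Opens) (n : ℕ) (a : Sec 𝔛 h U) :
    FCompl13.toZero 𝔛 h U n (proj 𝔛 h U n a) = proj 𝔛 h U 0 a := by
  induction n with
  | zero =>
    have e : FCompl13.toZero 𝔛 h U 0 = 𝟙 _ := by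
      change Scheme.Hom.appLE (𝟙 (𝔛.X 0)) _ _ _ = _
      simp [Scheme.Hom.appLE]
      exact (𝔛.X 0).presheaf.map_id _
    rw [e]
    rfl
  | succ n ih =>
    refine Eq.trans ?_ ih
    rw [← FBlow13.proj_succ_apply U n a]
    rw [← CommRingCat.comp_apply]
    refine congrArg (fun φ : Γ(𝔛.X (n + 1), 𝔛.lvU h (n + 1) U) ⟶ Γ(𝔛.X 0, 𝔛.lvU h 0 U) =>
      φ (proj 𝔛 h U (n + 1) a)) (FSch.appLE_comp_appLE_of_eq _ _ _ rfl _ _ _ _ _ _).symm

theorem lvU_secBasic {V : (𝔛.X 0).Opens} (a : Sec 𝔛 h V) (n : ℕ) :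
    𝔛.lvU h n (secBasic a) = (𝔛.X n).basicOpen (proj 𝔛 h V n a) := by
  have e : secBasic a = downU n ((𝔛.X n).basicOpen (proj 𝔛 h V n a)) := by
    change (𝔛.X 0).basicOpen (proj 𝔛 h V 0 a) = 𝔛.toX n ⁻¹ᵁ (𝔛.X n).basicOpen (proj 𝔛 h V n a)
    rw [← toZero_proj V n a]
    refine (Scheme.basicOpen_appLE (𝔛.toX n) _ _ _ _).trans (inf_eq_right.2 ?_)
    exact ((Scheme.Hom.preimage_mono _ ((𝔛.X n).basicOpen_le _)).trans
      ((toX_preimage_lvU (h := h) n V).le.trans (lvU_zero (h := h) V).ge))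
  rw [e, FCompl13.lvU_downU]

theorem isAffineOpen_secBasic {V : (𝔛.X 0).Opens} (hV : IsAffineOpen V) (a : Sec 𝔛 h V) :
    IsAffineOpen (secBasic a) :=
  FCompl13.isAffineOpen_downU h ((isAffineOpen_lvU (h := h) hV 0).basicOpen _)

theorem secBasic_mul {V : (𝔛.X 0).Opens} (a b : Sec 𝔛 h V) :
    secBasic (a * b) = secBasic a ⊓ secBasic b := by
  simp only [secBasic_eq, map_mul, Scheme.basicOpen_mul]

theorem secBasic_res {V W : (𝔛.X 0).Opens} (i : W ≤ V) (a : Sec 𝔛 h V) :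
    secBasic (res 𝔛 h i a) = W ⊓ secBasic a := by
  simp only [secBasic_eq, FBlow13.proj_res_apply]
  refine ((𝔛.X 0).basicOpen_res _ _).trans ?_
  rw [lvU_zero (h := h) W]

theorem exists_secBasic (h𝔛 : 𝔛.IsLocNoethFormal) {V W : (𝔛.X 0).Opens} (hV : IsAffineOpen V) {z : 𝔛.X 0}
    (hzV : z ∈ V) (hzW : z ∈ W) : ∃ a : Sec 𝔛 h𝔛.1 V, secBasic a ≤ W ∧ z ∈ secBasic a := by
  obtain ⟨g, hg, hzg⟩ := FCompl13.exists_basicOpen_affine (isAffineOpen_lvU (h := h𝔛.1) hV 0)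
    ((lvU_zero (h := h𝔛.1) V).ge hzV) hzW
  obtain ⟨a, rfl⟩ := ((FCompl13.secRing h𝔛 hV).2.2 0).1 g
  exact ⟨a, hg, hzg⟩

theorem isUnit_proj_res {V : (𝔛.X 0).Opens} (a : Sec 𝔛 h V) (n : ℕ) :
    IsUnit (proj 𝔛 h (secBasic a) n (res 𝔛 h (secBasic_le a) a)) := by
  rw [FBlow13.proj_res_apply]
  have h1 := ((𝔛.X n).toRingedSpace.isUnit_res_basicOpen (proj 𝔛 h V n a)).map
    ((𝔛.X n).presheaf.map (homOfLE (lvU_secBasic a n).le).op).hom
  refine Eq.subst (motive := fun x => IsUnit x) ?_ h1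
  exact QC70.resO_resO ((𝔛.X n).basicOpen_le _) (lvU_secBasic a n).le _

theorem isUnit_res (h𝔛 : 𝔛.IsLocNoethFormal) {V : (𝔛.X 0).Opens} (hV : IsAffineOpen V)
    (a : Sec 𝔛 h𝔛.1 V) : IsUnit (res 𝔛 h𝔛.1 (secBasic_le a) a) := by
  obtain ⟨-, hC, hp⟩ := FCompl13.secRing h𝔛 (isAffineOpen_secBasic hV a)
  have := hC
  obtain ⟨v, hv⟩ := isUnit_iff_exists_inv.1 (isUnit_proj_res a 0)
  obtain ⟨b, rfl⟩ := (hp 0).1 v
  have hm : res 𝔛 h𝔛.1 (secBasic_le a) a * b - 1 ∈ secIdeal 𝔛 h𝔛.1 (secBasic a) := by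
    rw [RingHom.mem_ker, map_sub, map_mul, map_one, hv, sub_self]
  have hu : IsUnit (res 𝔛 h𝔛.1 (secBasic_le a) a * b) := by
    simpa using Ideal.mem_jacobson_bot.1 (IsAdicComplete.le_jacobson_bot _ hm) 1
  exact isUnit_of_mul_isUnit_left hu

theorem span_eq_top_of_cover (h𝔛 : 𝔛.IsLocNoethFormal) {V : (𝔛.X 0).Opens} (hV : IsAffineOpen V)
    (S : Set (Sec 𝔛 h𝔛.1 V)) (hS : ∀ z ∈ V, ∃ a ∈ S, z ∈ secBasic a) : Ideal.span S = ⊤ := by
  obtain ⟨-, hC, hp⟩ := FCompl13.secRing h𝔛 hV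
  have := hC
  have h0 : Ideal.span (proj 𝔛 h𝔛.1 V 0 '' S) = ⊤ := by
    refine (isAffineOpen_lvU (h := h𝔛.1) hV 0).iSup_basicOpen_eq_self_iff.1 ?_
    refine le_antisymm (iSup_le fun r => (𝔛.X 0).basicOpen_le _) fun z hz => ?_
    obtain ⟨a, ha, hza⟩ := hS z ((lvU_zero (h := h𝔛.1) V).le hz)
    exact Opens.mem_iSup.2 ⟨⟨_, a, ha, rfl⟩, hza⟩
  have h1 : (1 : Γ(𝔛.X 0, 𝔛.lvU h𝔛.1 0 V)) ∈ (Ideal.span S).map (proj 𝔛 h𝔛.1 V 0).hom := by
    rw [Ideal.map_span]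
    exact h0.ge trivial
  obtain ⟨b, hb, hb1⟩ := (Ideal.mem_map_iff_of_surjective _ (hp 0).1).1 h1
  have hm : b - 1 ∈ secIdeal 𝔛 h𝔛.1 V := by
    rw [RingHom.mem_ker, map_sub, hb1, map_one, sub_self]
  have hu : IsUnit b := by simpa using Ideal.mem_jacobson_bot.1 (IsAdicComplete.le_jacobson_bot _ hm) 1
  exact Ideal.eq_top_of_isUnit_mem _ hb hu

/-! ### Killed sections -/

variable {F G : FSch.ModF 𝔛 h}

/-- The section is killed by the `n`-th open ideal. -/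
abbrev Killed (n : ℕ) {W : (𝔛.X 0).Opens} (x : FS F W) : Prop :=
  FTors.KilledBy (FTors.openIdealFam 𝔛 h) F n x

theorem Killed.smul_eq {n : ℕ} {W : (𝔛.X 0).Opens} {x : FS F W} (hx : Killed n x) {a : Sec 𝔛 h W}
    (ha : proj 𝔛 h W n a = 0) : a • x = 0 := by
  have h1 := hx (𝟙 W) a (RingHom.mem_ker.2 ha)
  rwa [FTors.res_id] at h1

theorem Killed.smul_congr {n : ℕ} {W : (𝔛.X 0).Opens} {x : FS F W} (hx : Killed n x) {a b : Sec 𝔛 h W}
    (hab : proj 𝔛 h W n a = proj 𝔛 h W n b) : a • x = b • x := by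
  have h1 := hx.smul_eq (a := a - b) (by rw [map_sub, hab, sub_self])
  rwa [sub_smul, sub_eq_zero] at h1

theorem Killed.fres {n : ℕ} {W W' : (𝔛.X 0).Opens} {x : FS F W} (hx : Killed n x) (i : W' ≤ W) :
    Killed n (fres F i x) :=
  hx.res (homOfLE i)

theorem Killed.ap {n : ℕ} {W : (𝔛.X 0).Opens} {x : FS F W} (hx : Killed n x) (φ : F ⟶ G) :
    Killed n (SiteMod.ap φ x) :=
  hx.hom φ

theorem Killed.sum {n : ℕ} {W : (𝔛.X 0).Opens} {ι : Type*} (S : Finset ι) {x : ι → FS F W}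
    (hx : ∀ t ∈ S, Killed n (x t)) : Killed n (∑ t ∈ S, x t) :=
  Finset.sum_induction _ (Killed n) (fun _ _ ha hb => ha.add hb) (FTors.KilledBy.zero _ _ n W) hx

theorem killed_of_locally {n : ℕ} {W : (𝔛.X 0).Opens} {x : FS F W}
    (hx : ∀ z ∈ W, ∃ (W' : (𝔛.X 0).Opens) (i : W' ≤ W), z ∈ W' ∧ Killed n (FCompl13.fres F i x)) :
    Killed n x := by
  intro W₁ g a ha
  refine FCompl13.fs_eq_zero F _ fun z hz => ?_
  obtain ⟨W', i, hzW', hk⟩ := hx z (leOfHom g hz)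
  refine ⟨W₁ ⊓ W', inf_le_left, ⟨hz, hzW'⟩, ?_⟩
  refine (FCompl13.fres_smul F _ a _).trans ?_
  have h1 := hk (homOfLE (inf_le_right : W₁ ⊓ W' ≤ W')) (res 𝔛 h (inf_le_left : W₁ ⊓ W' ≤ W₁) a) (by
    refine RingHom.mem_ker.2 ?_
    exact (FBlow13.proj_res_apply _ n a).trans ((congrArg _ (RingHom.mem_ker.1 ha)).trans (map_zero _)))
  refine Eq.trans ?_ h1
  refine congrArg (_ • ·) ?_
  exact (FCompl13.fres_fres F (leOfHom g) inf_le_left x).trans (FCompl13.fres_fres F i inf_le_right x).symm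

theorem mem_ker_proj_iff (h𝔛 : 𝔛.IsLocNoethFormal) {V : (𝔛.X 0).Opens} (hV : IsAffineOpen V) (n : ℕ)
    (a : Sec 𝔛 h𝔛.1 V) : proj 𝔛 h𝔛.1 V n a = 0 ↔ a ∈ secIdeal 𝔛 h𝔛.1 V ^ (n + 1) := by
  rw [← ((FCompl13.secRing h𝔛 hV).2.2 n).2, RingHom.mem_ker]

theorem killed_of_affine (h𝔛 : 𝔛.IsLocNoethFormal) {F : FSch.ModF 𝔛 h𝔛.1} {V : (𝔛.X 0).Opens}
    (hV : IsAffineOpen V) {n : ℕ} {x : FS F V}
    (hx : ∀ a ∈ secIdeal 𝔛 h𝔛.1 V ^ (n + 1), a • x = 0) : Killed n x := by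
  intro W g a ha
  refine FCompl13.fs_eq_zero F _ fun z hz => ?_
  obtain ⟨A, hA, hzA, hAW⟩ := exists_isAffineOpen_mem_and_subset hz
  refine ⟨A, hAW, hzA, (FCompl13.fres_smul F _ a _).trans ?_⟩
  have i : A ≤ V := le_trans hAW (leOfHom g)
  let K : Ideal (Sec 𝔛 h𝔛.1 A) :=
    LinearMap.ker (LinearMap.toSpanSingleton (Sec 𝔛 h𝔛.1 A) (FS F A) (FCompl13.fres F i x))
  have hK : (secIdeal 𝔛 h𝔛.1 V ^ (n + 1)).map (res 𝔛 h𝔛.1 i).hom ≤ K := by
    refine Ideal.map_le_iff_le_comap.2 fun b hb => ?_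
    change res 𝔛 h𝔛.1 i b • FCompl13.fres F i x = 0
    rw [← FCompl13.fres_smul, hx b hb, FCompl13.fres_zero]
  rw [FCompl13.secIdeal_pow_map_res h𝔛 hV hA i] at hK
  have h1 := hK ((mem_ker_proj_iff h𝔛 hA n (res 𝔛 h𝔛.1 hAW a)).1
    ((FBlow13.proj_res_apply _ n a).trans ((congrArg _ (RingHom.mem_ker.1 ha)).trans (map_zero _))))
  refine Eq.trans ?_ h1
  exact congrArg (res 𝔛 h𝔛.1 hAW a • ·) (FCompl13.fres_fres F (leOfHom g) hAW x)

theorem killed_fin (n : ℕ) {W : (𝔛.X 0).Opens} {ι : Type*} [Fintype ι] {x : ι → FS F W} (m : ι → ℕ)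
    (hx : ∀ t, Killed (m t) (x t)) (hn : ∀ t, m t ≤ n) : ∀ t, Killed n (x t) :=
  fun t => (hx t).mono (hn t)

/-- A torsion section over a compact open is killed by one open ideal. -/
theorem exists_killed {W : (𝔛.X 0).Opens} (hW : IsCompact (W : Set (𝔛.X 0))) {x : FS F W}
    (hx : FTors.IsTorsSect (FTors.openIdealFam 𝔛 h) F x) : ∃ n, Killed n x := by
  classical
  choose V hV n hzV hn using fun z : W => tors_exists _ hx z.2
  obtain ⟨S, hS⟩ := hW.elim_finite_subcover (fun z : W => (V z : Set (𝔛.X 0))) (fun z => (V z).isOpen)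
    (fun z hz => Set.mem_iUnion.2 ⟨⟨z, hz⟩, hzV _⟩)
  refine ⟨S.sup n, killed_of_locally fun z hz => ?_⟩
  obtain ⟨w, hw, hzw⟩ := Set.mem_iUnion₂.1 (hS hz)
  exact ⟨V w, hV w, hzw, (hn w).mono (Finset.le_sup hw)⟩

theorem exists_killed_finite {W : (𝔛.X 0).Opens} (hW : IsCompact (W : Set (𝔛.X 0))) {ι : Type*} [Finite ι]
    (x : ι → FS F W) (hx : ∀ t, FTors.IsTorsSect (FTors.openIdealFam 𝔛 h) F (x t)) :
    ∃ n, ∀ t, Killed n (x t) := by
  have := Fintype.ofFinite ι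
  choose m hm using fun t => exists_killed hW (hx t)
  exact ⟨Finset.univ.sup m, fun t => (hm t).mono (Finset.le_sup (Finset.mem_univ t))⟩

end Groth.Agent.FTors27
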