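import Groth.Agent.FTors27.TExact
import Groth.Agent.SubMod72.Extend
import Groth.Agent.SubMod72.ToModules
import Groth.Agent.FCompl13.IndCoh

/-!
Quasi-coherent torsion modules are filtered colimits of coherent modules.
-/

set_option autoImplicit false
set_option backward.isDefEq.respectTransparency false
set_option backward.isDefEq.respectTransparency.types false
set_option linter.style.haveILetI false

noncomputable section

universe u

open CategoryTheory CategoryTheory.Limits AlgebraicGeometry TopologicalSpace Opposite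

namespace Groth.Agent.FTors27

open FCompl13 (FS fres secIdeal downU)
open FBlow13 (Sec res proj isAffineOpen_lvU)
open SiteMod (ap)

variable {𝔛 : FSch.Sys.{u}} (h𝔛 : 𝔛.IsLocNoethFormal) {n : ℕ} {N : FSch.ModF 𝔛 h𝔛.1} {P : (𝔛.X n).Modules}
  (e : (FSch.levelMor 𝔛 h𝔛.1 n).push.obj P ≅ N)

/-- `ev` as an additive map. -/
def evHom (W : (𝔛.X 0).Opens) : Γ(P, 𝔛.lvU h𝔛.1 n W) →+ FS N W where
  toFun := ev e
  map_zero' := ev_zero e
  map_add' x y := (FCompl13.apLin e.hom W).map_add (SiteMod.toPush (FSch.levelMor 𝔛 h𝔛.1 n) P (W := W) x)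
    (SiteMod.toPush (FSch.levelMor 𝔛 h𝔛.1 n) P (W := W) y)

theorem mono_pushSub (Q : SubMod72.Sub P) :
    Mono ((FSch.levelMor 𝔛 h𝔛.1 n).push.map (SubMod72.toModι Q) ≫ e.hom) :=
  haveI : Mono ((FSch.levelMor 𝔛 h𝔛.1 n).push.map (SubMod72.toModι Q)) :=
    @Functor.map_mono _ _ _ _ (FSch.levelMor 𝔛 h𝔛.1 n).push
      (Functor.preservesMonomorphisms_of_adjunction (FSch.levelMor 𝔛 h𝔛.1 n).adj) _ _ _ (SubMod72.mono_toModι Q)
  mono_comp _ _

theorem ap_pushSub (Q : SubMod72.Sub P) {W : (𝔛.X 0).Opens}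
    (y : FS ((FSch.levelMor 𝔛 h𝔛.1 n).push.obj (SubMod72.toMod Q)) W) :
    ap ((FSch.levelMor 𝔛 h𝔛.1 n).push.map (SubMod72.toModι Q) ≫ e.hom) y =
      ev e ((SubMod72.toModι Q).app (𝔛.lvU h𝔛.1 n W)
        (SiteMod.ofPush (FSch.levelMor 𝔛 h𝔛.1 n) (SubMod72.toMod Q) y)) :=
  SiteMod.ap_comp _ _ _

include e in
/-- The direct image of a subsheaf locally generated by finitely many sections is locally finitely
generated. -/
theorem exists_genAt_push [P.IsQuasicoherent] (Q : SubMod72.Sub P) (hQ : SubMod72.FG ⊤ Q) (x₀ : 𝔛.X 0) :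
    ∃ A : (𝔛.X 0).Opens, x₀ ∈ A ∧ IsAffineOpen A ∧ ∃ (ι : Type u) (_ : Fintype ι)
      (a : ι → FS ((FSch.levelMor 𝔛 h𝔛.1 n).push.obj (SubMod72.toMod Q)) A),
        SiteMod.GenAt (Mod48.pre ((FSch.levelMor 𝔛 h𝔛.1 n).push.obj (SubMod72.toMod Q))) A a := by
  classical
  let L := FSch.levelMor 𝔛 h𝔛.1 n
  let G := L.push.obj (SubMod72.toMod Q)
  obtain ⟨V, S, -, hxV, hS, hQS⟩ := hQ ((𝔛.toX n).base x₀) trivial
  obtain ⟨A, hA, hxA, hAV⟩ := exists_isAffineOpen_mem_and_subset (X := 𝔛.X 0) (x := x₀) (U := downU n V) hxV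
  have hAV' : 𝔛.lvU h𝔛.1 n A ≤ V :=
    (FBlow.lvU_mono 𝔛 h𝔛.1 n hAV).trans (FCompl13.lvU_downU h𝔛.1 n V).le
  haveI : Fintype S := hS.fintype
  have hmem : ∀ s : S, QC70.res P hAV' (s : Γ(P, V)) ∈ Q.carrier (𝔛.lvU h𝔛.1 n A) := fun s => by
    rw [hQS _ hAV']
    exact SubMod72.self_mem_locSpan hAV' s.2
  let a : S → FS G A := fun s => SiteMod.toPush L (SubMod72.toMod Q) (W := A) (⟨_, hmem s⟩ : Q.carrier _)
  haveI hφ := mono_pushSub h𝔛 e Q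
  refine ⟨A, hxA, hA, S, inferInstance, a, fun W g y => ?_⟩
  let yF : Γ(P, 𝔛.lvU h𝔛.1 n W) :=
    (SubMod72.toModι Q).app _ (SiteMod.ofPush L (SubMod72.toMod Q) y)
  have hWV : 𝔛.lvU h𝔛.1 n W ≤ V := (FBlow.lvU_mono 𝔛 h𝔛.1 n (leOfHom g)).trans hAV'
  have hy : yF ∈ (SubMod72.locSpan S).carrier (𝔛.lvU h𝔛.1 n W) := by
    rw [← hQS _ hWV]
    exact (SubMod72.mem_iff_exists Q _).2 ⟨_, rfl⟩
  refine FCompl13.exists_sieve_of_near (fun U i => ∃ c : S → Sec 𝔛 h𝔛.1 U,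
      fres G i y = ∑ s, c s • fres G (i.trans (leOfHom g)) (a s))
    (fun U i U' j ⟨c, hc⟩ => ⟨fun s => res 𝔛 h𝔛.1 j (c s), ?_⟩) fun z hz => ?_
  · rw [← FCompl13.fres_fres G i j, hc, FCompl13.fres_sum]
    exact Finset.sum_congr rfl fun s _ => by rw [FCompl13.fres_smul, FCompl13.fres_fres]
  have hzW : (𝔛.toX n).base z ∈ 𝔛.lvU h𝔛.1 n W := (FBlow13.toX_preimage_lvU (h := h𝔛.1) n W).ge hz
  obtain ⟨W', hW'W, hW'V, hzW', hsp⟩ := hy _ hzW (hWV hzW)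
  obtain ⟨U, hU, hzU, hUle⟩ := exists_isAffineOpen_mem_and_subset (X := 𝔛.X 0) (x := z)
    (U := W ⊓ downU n W') ⟨hz, hzW'⟩
  have hUW : U ≤ W := fun p hp => (hUle hp).1
  have hUW' : 𝔛.lvU h𝔛.1 n U ≤ W' :=
    (FBlow.lvU_mono 𝔛 h𝔛.1 n fun p hp => (hUle hp).2).trans (FCompl13.lvU_downU h𝔛.1 n W').le
  have hsp' := SubMod72.res_mem_span hUW' hsp
  rw [QC70.res_res, SubMod72.image_res_res, Set.image_eq_range] at hsp'
  obtain ⟨c, hc⟩ := (Submodule.mem_span_range_iff_exists_fun _).1 hsp'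
  choose b hb using fun s : S => ((FCompl13.secRing h𝔛 hU).2.2 n).1 (c s)
  refine ⟨U, hUW, hzU, b, FCompl13.ap_injective (L.push.map (SubMod72.toModι Q) ≫ e.hom) ?_⟩
  refine (FCompl13.fres_ap _ hUW y).symm.trans (Eq.trans ?_ (map_sum (FCompl13.apLin _ U) _ _).symm)
  refine ((congrArg (fres N hUW) (ap_pushSub h𝔛 e Q y)).trans (fres_ev e hUW yF)).trans ?_
  refine ((congrArg (ev e) hc).symm.trans (map_sum (evHom h𝔛 e U) _ _)).trans
    (Finset.sum_congr rfl fun s _ => ?_)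
  rw [show FCompl13.apLin (L.push.map (SubMod72.toModι Q) ≫ e.hom) U (b s • fres G _ (a s)) =
    b s • ap (L.push.map (SubMod72.toModι Q) ≫ e.hom) (fres G _ (a s)) from map_smul _ _ _]
  refine Eq.trans ?_ (congrArg (b s • ·) ((congrArg (fres N _) (ap_pushSub h𝔛 e Q (a s))).trans
    (fres_ev e _ _)).symm |>.trans (congrArg (b s • ·) (FCompl13.fres_ap _ _ (a s))))
  rw [← ev_smul, hb]
  exact congrArg (fun t => ev e (c s • t)) (QC70.res_res _ _ _).symm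

omit n N P e in
/-- Quasi-coherent torsion modules are generated by coherent modules. -/
theorem cohGen_of_qct {M : FSch.ModF 𝔛 h𝔛.1} (hM : FTors.IsQCT 𝔛 h𝔛.1 M) : FCompl13.CohGen M := by
  intro W x z hz
  obtain ⟨A, hA, hzA, hAW⟩ := exists_isAffineOpen_mem_and_subset hz
  obtain ⟨n, hn⟩ := exists_killed hA.isCompact (hM.1 A (fres M hAW x))
  obtain ⟨y, hy⟩ := exists_ap_kι hn
  obtain ⟨P, ⟨e⟩⟩ := exists_level h𝔛 n (kN n M) fun _ w => killed_kN w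
  haveI : P.IsQuasicoherent := isQuasicoherent_level h𝔛 e fun p => by
    obtain ⟨U, hU, hpU, -⟩ := exists_isAffineOpen_mem_and_subset (X := 𝔛.X 0) (x := p) (U := ⊤) trivial
    exact ⟨U, hpU, hU, tLoc_of_qct h𝔛 (isQCT_kN h𝔛 hM n) hU⟩
  haveI := h𝔛.2.2 n
  obtain ⟨Q, hQ, hQS⟩ := SubMod72.exists_extension_noetherian (F := P)
    (fun p => by
      obtain ⟨U, hU, hpU, -⟩ := exists_isAffineOpen_mem_and_subset (X := 𝔛.X n) (x := p) (U := ⊤) trivial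
      haveI := IsLocallyNoetherian.component_noetherian ⟨U, hU⟩
      exact ⟨U, hpU, noetherianSpace_of_isAffineOpen U hU⟩)
    (SubMod72.fg_locSpan (F := P) (Set.finite_singleton (evInv e y)))
  let L := FSch.levelMor 𝔛 h𝔛.1 n
  let φ₀ := L.push.map (SubMod72.toModι Q) ≫ e.hom
  haveI : Mono φ₀ := mono_pushSub h𝔛 e Q
  let φ := φ₀ ≫ kι n M
  haveI : Mono φ := mono_comp _ _
  have hmem : evInv e y ∈ Q.carrier (𝔛.lvU h𝔛.1 n A) := by
    rw [hQS _ le_rfl]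
    have h0 := SubMod72.self_mem_locSpan (F := P) (W := 𝔛.lvU h𝔛.1 n A) le_rfl (Set.mem_singleton (evInv e y))
    rwa [QC70.res_self] at h0
  refine ⟨A, hAW, L.push.obj (SubMod72.toMod Q), FCompl13.isCohF_of_affine (h𝔛 := h𝔛) _ fun x₀ => ?_, φ,
    SiteMod.toPush L (SubMod72.toMod Q) (W := A) (⟨_, hmem⟩ : Q.carrier _), hzA, ?_⟩
  · obtain ⟨B, hxB, hB, ι, hι, a, ha⟩ := exists_genAt_push h𝔛 e Q hQ x₀
    exact ⟨B, hxB, FCompl13.nonempty_locPres_of_mono (h𝔛 := h𝔛) φ (qcAt_of_qct h𝔛 hM hB).relFin ha⟩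
  · refine (SiteMod.ap_comp _ _ _).trans (Eq.trans (congrArg (ap (kι n M)) ?_) hy)
    exact (ap_pushSub h𝔛 e Q _).trans (ev_evInv e y)

omit n N P e in
theorem isIndCoh_of_qct {M : FSch.ModF 𝔛 h𝔛.1} (hM : FTors.IsQCT 𝔛 h𝔛.1 M) :
    (ObjectProperty.ind.{u} fun G : FSch.ModF 𝔛 h𝔛.1 => FSch.IsCohF 𝔛 h𝔛.1 G) M := by
  haveI := hM.2
  exact FCompl13.isIndCoh_of_cohGen (h𝔛 := h𝔛) M (cohGen_of_qct h𝔛 hM)

end Groth.Agent.FTors27
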