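import Groth.Agent.FTors27.TCoh
import Groth.Agent.FCompl13.IndAdj

/-!
Colimits, five lemma and coreflection for quasi-coherent torsion modules.
-/

set_option autoImplicit false
set_option backward.isDefEq.respectTransparency false
set_option backward.isDefEq.respectTransparency.types false
set_option linter.style.haveILetI false

noncomputable section

universe u

open CategoryTheory CategoryTheory.Limits AlgebraicGeometry TopologicalSpace Opposite

namespace Groth.Agent.FTors27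

theorem isTorsF_colimit {𝔛 : FSch.Sys.{u}} {h : 𝔛.IsFormal} {J : Type u} [SmallCategory J]
    {D : J ⥤ FSch.ModF 𝔛 h} {c : Cocone D} (hc : IsColimit c) (hD : ∀ j, FTors.IsTorsF 𝔛 h (D.obj j)) :
    FTors.IsTorsF 𝔛 h c.pt := by
  let Γ' := FTors.gammaT 𝔛 h
  let η := FTors.gammaι (FTors.openIdealFam 𝔛 h)
  haveI : ∀ j, IsIso (η.app (D.obj j)) := fun j => isIso_gammaι (FTors.openIdealFam 𝔛 h) (hD j)
  haveI : Mono (η.app c.pt) := mono_gammaι' (FTors.openIdealFam 𝔛 h) c.pt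
  let t : Cocone D :=
    { pt := Γ'.obj c.pt
      ι :=
        { app := fun j => inv (η.app (D.obj j)) ≫ Γ'.map (c.ι.app j)
          naturality := fun i j f => by
            rw [← cancel_mono (η.app c.pt)]
            simp only [Category.assoc, Functor.const_obj_map, Category.comp_id, Category.id_comp]
            erw [η.naturality, η.naturality, IsIso.inv_hom_id_assoc, IsIso.inv_hom_id_assoc]
            exact c.w f } }
  have hr : hc.desc t ≫ η.app c.pt = 𝟙 _ := by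
    refine hc.hom_ext fun j => ?_
    rw [← Category.assoc, hc.fac, Category.comp_id]
    simp only [t, Category.assoc]
    erw [η.naturality, IsIso.inv_hom_id_assoc]
    rfl
  haveI : IsSplitEpi (η.app c.pt) := ⟨⟨⟨_, hr⟩⟩⟩
  haveI : IsIso (η.app c.pt) := isIso_of_mono_of_isSplitEpi _
  exact (FTors.IsTors (FTors.openIdealFam 𝔛 h)).prop_of_mono (inv (η.app c.pt)) (isTors_gamma (FTors.openIdealFam 𝔛 h) c.pt)

variable {𝔛 : FSch.Sys.{u}} (h𝔛 : 𝔛.IsLocNoethFormal)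

theorem isQCT_colimit {J : Type u} [SmallCategory J] {D : J ⥤ FSch.ModF 𝔛 h𝔛.1} {c : Cocone D}
    (hc : IsColimit c) (hD : ∀ j, FTors.IsQCT 𝔛 h𝔛.1 (D.obj j)) : FTors.IsQCT 𝔛 h𝔛.1 c.pt :=
  ⟨isTorsF_colimit hc fun j => (hD j).1,
    FCompl13.isQuasicoherent_of_ind (h𝔛 := h𝔛)
      (FCompl13.isIndCoh_colimit (h𝔛 := h𝔛) hc fun j => isIndCoh_of_qct h𝔛 (hD j))⟩

theorem isQCT_five (S : ComposableArrows (FSch.ModF 𝔛 h𝔛.1) 4) (hS : S.Exact)
    (h₀ : FTors.IsQCT 𝔛 h𝔛.1 (S.obj 0)) (h₁ : FTors.IsQCT 𝔛 h𝔛.1 (S.obj 1))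
    (h₃ : FTors.IsQCT 𝔛 h𝔛.1 (S.obj 3)) (h₄ : FTors.IsQCT 𝔛 h𝔛.1 (S.obj 4)) :
    FTors.IsQCT 𝔛 h𝔛.1 (S.obj 2) := by
  let f₀ := S.map' 0 1
  let f₁ := S.map' 1 2
  let f₂ := S.map' 2 3
  let f₃ := S.map' 3 4
  have e₀ := hS.exact 0
  have e₁ := hS.exact 1
  have e₂ := hS.exact 2
  haveI : Mono (cokernel.desc f₀ f₁ (hS.zero 0)) := e₀.mono_cokernelDesc
  haveI : Epi (kernel.lift f₃ f₂ (hS.zero 2)) := e₂.epi_kernelLift
  let T : ShortComplex (FSch.ModF 𝔛 h𝔛.1) :=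
    ShortComplex.mk (cokernel.desc f₀ f₁ (hS.zero 0)) (kernel.lift f₃ f₂ (hS.zero 2)) (by
      rw [← cancel_epi (cokernel.π f₀), ← cancel_mono (kernel.ι f₃)]
      simpa using hS.zero 1)
  let M : ShortComplex (FSch.ModF 𝔛 h𝔛.1) :=
    ShortComplex.mk (cokernel.desc f₀ f₁ (hS.zero 0)) f₂ (by
      rw [← cancel_epi (cokernel.π f₀)]
      simpa using hS.zero 1)
  let φ : T ⟶ M := { τ₁ := 𝟙 _, τ₂ := 𝟙 _, τ₃ := kernel.ι f₃, comm₁₂ := by simp [T, M], comm₂₃ := by simp [T, M] }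
  let ψ : S.sc hS.toIsComplex 1 ⟶ M :=
    { τ₁ := cokernel.π f₀, τ₂ := 𝟙 _, τ₃ := 𝟙 _
      comm₁₂ := by simp [M, f₁], comm₂₃ := by simp [M, f₂] }
  haveI : Epi φ.τ₁ := by change Epi (𝟙 _); infer_instance
  haveI : IsIso φ.τ₂ := by change IsIso (𝟙 _); infer_instance
  haveI : Mono φ.τ₃ := by change Mono (kernel.ι f₃); infer_instance
  haveI : Epi ψ.τ₁ := by change Epi (cokernel.π f₀); infer_instance
  haveI : IsIso ψ.τ₂ := by change IsIso (𝟙 _); infer_instance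
  haveI : Mono ψ.τ₃ := by change Mono (𝟙 _); infer_instance
  have hT : T.ShortExact :=
    { exact := (ShortComplex.exact_iff_of_epi_of_isIso_of_mono φ).2
        ((ShortComplex.exact_iff_of_epi_of_isIso_of_mono ψ).1 e₁)
      mono_f := inferInstanceAs (Mono (cokernel.desc f₀ f₁ (hS.zero 0)))
      epi_g := inferInstanceAs (Epi (kernel.lift f₃ f₂ (hS.zero 2))) }
  haveI : SheafOfModules.IsQuasicoherent.{u} (S.obj ⟨0, by omega⟩) := h₀.2
  haveI : SheafOfModules.IsQuasicoherent.{u} (S.obj ⟨1, by omega⟩) := h₁.2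
  haveI : SheafOfModules.IsQuasicoherent.{u} (S.obj ⟨3, by omega⟩) := h₃.2
  haveI : SheafOfModules.IsQuasicoherent.{u} (S.obj ⟨4, by omega⟩) := h₄.2
  refine isQCT_ext h𝔛 hT ⟨?_, (FCompl13.qc_ker_im_coker (h𝔛 := h𝔛) f₀).2.2⟩
    ⟨?_, (FCompl13.qc_ker_im_coker (h𝔛 := h𝔛) f₃).1⟩
  · exact (FTors.IsTors (FTors.openIdealFam 𝔛 h𝔛.1)).prop_of_epi (cokernel.π f₀) h₁.1
  · exact (FTors.IsTors (FTors.openIdealFam 𝔛 h𝔛.1)).prop_of_mono (kernel.ι f₃) h₃.1

theorem le_indCoh : FTors.IsQCT 𝔛 h𝔛.1 ≤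
    (ObjectProperty.ind.{u} fun G : FSch.ModF 𝔛 h𝔛.1 => FSch.IsCohF 𝔛 h𝔛.1 G) :=
  fun _ hM => isIndCoh_of_qct h𝔛 hM

/-- The torsion functor from filtered colimits of coherent modules to quasi-coherent torsion modules. -/
def gammaQ : (ObjectProperty.ind.{u} fun G : FSch.ModF 𝔛 h𝔛.1 => FSch.IsCohF 𝔛 h𝔛.1 G).FullSubcategory ⥤
    (FTors.IsQCT 𝔛 h𝔛.1).FullSubcategory :=
  ObjectProperty.lift _ (ObjectProperty.ι _ ⋙ FTors.gammaT 𝔛 h𝔛.1) fun M => by
    haveI : SheafOfModules.IsQuasicoherent.{u} ((ObjectProperty.ι _).obj M) :=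
      FCompl13.isQuasicoherent_of_ind (h𝔛 := h𝔛) M.property
    exact isQCT_gammaT h𝔛

/-- The inclusion of quasi-coherent torsion modules into ind-coherent modules has `gammaQ` as right adjoint. -/
def gammaQAdj : ObjectProperty.ιOfLE (le_indCoh h𝔛) ⊣ gammaQ h𝔛 :=
  let η := FTors.gammaι (FTors.openIdealFam 𝔛 h𝔛.1)
  haveI : ∀ X : (FTors.IsQCT 𝔛 h𝔛.1).FullSubcategory, IsIso (η.app X.obj) := fun X => isIso_gammaι (FTors.openIdealFam 𝔛 h𝔛.1) X.property.1
  haveI : ∀ M, Mono (η.app M) := fun M => mono_gammaι' (FTors.openIdealFam 𝔛 h𝔛.1) M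
  Adjunction.mkOfHomEquiv
    { homEquiv := fun X Y =>
        { toFun := fun f => ObjectProperty.homMk (inv (η.app X.obj) ≫ (FTors.gammaT 𝔛 h𝔛.1).map f.hom)
          invFun := fun g => ObjectProperty.homMk (g.hom ≫ η.app Y.obj)
          left_inv := fun f => by
            apply ObjectProperty.hom_ext
            change (inv (η.app X.obj) ≫ (FTors.gammaT 𝔛 h𝔛.1).map f.hom) ≫ η.app Y.obj = f.hom
            rw [Category.assoc]
            erw [η.naturality, IsIso.inv_hom_id_assoc]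
            rfl
          right_inv := fun g => by
            apply ObjectProperty.hom_ext
            rw [← cancel_mono (η.app Y.obj)]
            change (inv (η.app X.obj) ≫ (FTors.gammaT 𝔛 h𝔛.1).map (g.hom ≫ η.app Y.obj)) ≫ η.app Y.obj =
              g.hom ≫ η.app Y.obj
            rw [Category.assoc]
            erw [η.naturality, IsIso.inv_hom_id_assoc]
            rfl }
      homEquiv_naturality_left_symm := fun {X' X Y} f g => by
        apply ObjectProperty.hom_ext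
        exact Category.assoc _ _ _
      homEquiv_naturality_right := fun {X Y Y'} f g => by
        apply ObjectProperty.hom_ext
        exact (congrArg (inv (η.app X.obj) ≫ ·) ((FTors.gammaT 𝔛 h𝔛.1).map_comp f.hom g.hom)).trans
          (Category.assoc _ _ _).symm }

theorem isLeftAdjoint_qct : (FTors.IsQCT 𝔛 h𝔛.1).ι.IsLeftAdjoint := by
  haveI := FCompl13.isLeftAdjoint_indCoh h𝔛
  haveI : (ObjectProperty.ιOfLE (le_indCoh h𝔛)).IsLeftAdjoint := ⟨_, ⟨gammaQAdj h𝔛⟩⟩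
  exact Functor.isLeftAdjoint_of_iso (ObjectProperty.ιOfLECompιIso (le_indCoh h𝔛))

end Groth.Agent.FTors27
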