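import Groth.Agent.FTors27.TLevel

/-!
Exactness of sections over affine opens and extensions of quasi-coherent torsion modules.
-/

set_option autoImplicit false
set_option backward.isDefEq.respectTransparency false
set_option backward.isDefEq.respectTransparency.types false
set_option linter.style.haveILetI false

noncomputable section

universe u

open CategoryTheory CategoryTheory.Limits AlgebraicGeometry TopologicalSpace Opposite

namespace Groth.Agent.FTors27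

open FCompl13 (FS fres secIdeal)
open FBlow13 (Sec res proj)
open SiteMod (ap)

variable {𝔛 : FSch.Sys.{u}} (h𝔛 : 𝔛.IsLocNoethFormal)

theorem ap_smul' {F G : FSch.ModF 𝔛 h𝔛.1} (φ : F ⟶ G) {W : (𝔛.X 0).Opens} (a : Sec 𝔛 h𝔛.1 W) (x : FS F W) :
    ap φ (a • x) = a • ap φ x :=
  (FCompl13.apLin φ W).map_smul a x

theorem ap_sub'' {F G : FSch.ModF 𝔛 h𝔛.1} (φ : F ⟶ G) {W : (𝔛.X 0).Opens} (x y : FS F W) :
    ap φ (x - y) = ap φ x - ap φ y :=
  (FCompl13.apLin φ W).map_sub x y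

theorem ap_add'' {F G : FSch.ModF 𝔛 h𝔛.1} (φ : F ⟶ G) {W : (𝔛.X 0).Opens} (x y : FS F W) :
    ap φ (x + y) = ap φ x + ap φ y :=
  (FCompl13.apLin φ W).map_add x y

variable {S : ShortComplex (FSch.ModF 𝔛 h𝔛.1)}

/-- Sections over an affine open lift along an epimorphism with quasi-coherent torsion kernel. -/
theorem exists_lift_affine (hS : S.ShortExact) (hK : FTors.IsQCT 𝔛 h𝔛.1 S.X₁) {V : (𝔛.X 0).Opens}
    (hV : IsAffineOpen V) (q : FS S.X₃ V) : ∃ x : FS S.X₂ V, ap S.g x = q := by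
  classical
  haveI := hS.mono_f
  haveI := hS.epi_g
  let I : Ideal (Sec 𝔛 h𝔛.1 V) :=
    { carrier := {r | ∃ t : FS S.X₂ V, ap S.g t = r • q}
      add_mem' := fun {a b} ⟨x, hx⟩ ⟨y, hy⟩ => ⟨x + y, by rw [ap_add'' h𝔛, hx, hy, add_smul]⟩
      zero_mem' := ⟨0, by rw [zero_smul]; exact map_zero (FCompl13.apLin S.g V)⟩
      smul_mem' := fun c a ⟨x, hx⟩ => ⟨c • x, by rw [ap_smul' h𝔛, hx, smul_eq_mul, mul_smul]⟩ }
  have hloc : ∀ z : V, ∃ a : Sec 𝔛 h𝔛.1 V, (z : 𝔛.X 0) ∈ secBasic a ∧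
      ∃ t : FS S.X₂ (secBasic a), ap S.g t = fres S.X₃ (secBasic_le a) q := by
    intro z
    obtain ⟨W, hW, hzW, t, ht⟩ := locSurj_at S.g q z.2
    obtain ⟨a, haW, hza⟩ := exists_secBasic h𝔛 hV z.2 hzW
    refine ⟨a, hza, fres S.X₂ haW t, ?_⟩
    rw [← FCompl13.fres_ap]
    exact (congrArg (fres S.X₃ haW) ht).trans (FCompl13.fres_fres S.X₃ hW haW q)
  choose a hza t ht using hloc
  obtain ⟨J, hJ⟩ := hV.isCompact.elim_finite_subcover (fun z : V => (secBasic (a z) : Set (𝔛.X 0)))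
    (fun z => (secBasic (a z)).isOpen) (fun z hz => Set.mem_iUnion.2 ⟨⟨z, hz⟩, hza _⟩)
  let D : ULift.{u} J → (𝔛.X 0).Opens := fun j => secBasic (a j.down.1)
  have hDle : ∀ j, D j ≤ V := fun j => secBasic_le _
  have hDaff : ∀ j, IsAffineOpen (D j) := fun j => isAffineOpen_secBasic hV _
  have hcov : ∀ x ∈ V, ∃ j, x ∈ D j := fun x hx => by
    obtain ⟨z, hz, hxz⟩ := Set.mem_iUnion₂.1 (hJ hx)
    exact ⟨⟨⟨z, hz⟩⟩, hxz⟩
  have key : ∀ p : V, ∃ k : ℕ, a p ^ k ∈ I := by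
    intro p
    let fj : ∀ j, Sec 𝔛 h𝔛.1 (D j) := fun j => res 𝔛 h𝔛.1 (hDle j) (a p)
    have hB : ∀ j, secBasic (fj j) ≤ secBasic (a p) := fun j => (secBasic_res _ _).trans_le inf_le_right
    have hex : ∀ j, ∃ (n : ℕ) (y : FS S.X₂ (D j)),
        fres S.X₂ (secBasic_le (fj j)) y =
          res 𝔛 h𝔛.1 (secBasic_le (fj j)) (fj j) ^ n • fres S.X₂ (hB j) (t p) ∧
        ap S.g y = fj j ^ n • fres S.X₃ (hDle j) q := by
      intro j
      have h0 : ap S.g (fres S.X₂ (hB j) (t p) - fres S.X₂ (secBasic_le (fj j)) (t j.down.1)) = 0 := by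
        rw [ap_sub'' h𝔛, ← FCompl13.fres_ap, ← FCompl13.fres_ap, ht p, ht j.down.1, FCompl13.fres_fres,
          FCompl13.fres_fres, sub_self]
      obtain ⟨c, hc⟩ := SiteMod.exists_preimage_of_ap_eq_zero hS.exact h0
      obtain ⟨n, x, hx⟩ := (tLoc_of_qct h𝔛 hK (hDaff j)).exists_of (fj j) c
      refine ⟨n, fj j ^ n • t j.down.1 + ap S.f x, ?_, ?_⟩
      · rw [show fres S.X₂ (secBasic_le (fj j)) (fj j ^ n • t j.down.1 + ap S.f x) =
          fres S.X₂ (secBasic_le (fj j)) (fj j ^ n • t j.down.1) + fres S.X₂ (secBasic_le (fj j)) (ap S.f x) from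
            Mod48.res_add _ _ _ _, fres_pow_smul, FCompl13.fres_ap, hx, ap_smul' h𝔛, hc, ← smul_add,
          add_sub_cancel]
      · rw [ap_add'' h𝔛, ap_smul' h𝔛, ht j.down.1, show ap S.g (ap S.f x) = 0 from
          (SiteMod.ap_comp _ _ _).symm.trans ((congrArg (fun φ => ap φ x) S.zero).trans rfl), add_zero]
    choose n y hy hgy using hex
    let N := Finset.univ.sup n
    let z : ∀ j, FS S.X₂ (D j) := fun j => fj j ^ (N - n j) • y j
    have hnN : ∀ j, N - n j + n j = N := fun j =>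
      Nat.sub_add_cancel (Finset.le_sup (f := n) (Finset.mem_univ j))
    have hz : ∀ j, fres S.X₂ (secBasic_le (fj j)) (z j) =
        res 𝔛 h𝔛.1 (secBasic_le (fj j)) (fj j) ^ N • fres S.X₂ (hB j) (t p) := fun j => by
      simp only [z]
      rw [fres_pow_smul, hy, smul_smul, ← pow_add, hnN]
    have hgz : ∀ j, ap S.g (z j) = fj j ^ N • fres S.X₃ (hDle j) q := fun j => by
      simp only [z]
      rw [ap_smul' h𝔛, hgy, smul_smul, ← pow_add, hnN]
    have hov : ∀ j k, ∃ m : ℕ,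
        res 𝔛 h𝔛.1 ((inf_le_left : D j ⊓ D k ≤ D j).trans (hDle j)) (a p) ^ m •
          (fres S.X₂ (inf_le_left : D j ⊓ D k ≤ D j) (z j) -
            fres S.X₂ (inf_le_right : D j ⊓ D k ≤ D k) (z k)) = 0 := by
      intro j k
      let O := D j ⊓ D k
      let fO := res 𝔛 h𝔛.1 ((inf_le_left : O ≤ D j).trans (hDle j)) (a p)
      have hO : IsAffineOpen O := by
        have := isAffineOpen_secBasic hV (a j.down.1 * a k.down.1)
        rwa [secBasic_mul] at this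
      have h0 : ap S.g (fres S.X₂ (inf_le_left : O ≤ D j) (z j) - fres S.X₂ (inf_le_right : O ≤ D k) (z k)) = 0 := by
        rw [ap_sub'' h𝔛, ← FCompl13.fres_ap, ← FCompl13.fres_ap, hgz, hgz, fres_pow_smul, fres_pow_smul,
          FCompl13.fres_fres, FCompl13.fres_fres]
        simp only [fj, sec_res_res, sub_self]
      obtain ⟨c, hc⟩ := SiteMod.exists_preimage_of_ap_eq_zero hS.exact h0
      have hres : fres S.X₁ (secBasic_le fO) c = 0 := by
        refine FCompl13.ap_injective S.f ((FCompl13.fres_ap S.f (secBasic_le fO) c).symm.trans ?_)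
        rw [hc]
        have hj : secBasic fO ≤ secBasic (fj j) := by
          simp only [fO, fj, secBasic_res]; exact inf_le_inf_right _ inf_le_left
        have hk : secBasic fO ≤ secBasic (fj k) := by
          simp only [fO, fj, secBasic_res]; exact inf_le_inf_right _ inf_le_right
        refine Eq.trans ?_ (map_zero (FCompl13.apLin S.f _)).symm
        rw [show fres S.X₂ (secBasic_le fO) (fres S.X₂ (inf_le_left : O ≤ D j) (z j) -
            fres S.X₂ (inf_le_right : O ≤ D k) (z k)) =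
          fres S.X₂ (secBasic_le fO) (fres S.X₂ (inf_le_left : O ≤ D j) (z j)) -
            fres S.X₂ (secBasic_le fO) (fres S.X₂ (inf_le_right : O ≤ D k) (z k)) from
              map_sub ((Mod48.pre S.X₂).map _).hom _ _, sub_eq_zero, FCompl13.fres_fres, FCompl13.fres_fres,
          ← FCompl13.fres_fres S.X₂ (secBasic_le (fj j)) hj,
          ← FCompl13.fres_fres S.X₂ (secBasic_le (fj k)) hk, hz, hz]
        simp only [FCompl13.fres_smul, map_pow, FCompl13.fres_fres, fj, sec_res_res]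
      obtain ⟨m, hm⟩ := (tLoc_of_qct h𝔛 hK hO).eq_zero_of fO c hres
      refine ⟨m, ?_⟩
      rw [← hc, ← ap_smul' h𝔛, hm]
      exact map_zero (FCompl13.apLin S.f _)
    choose m hm using hov
    let K := Finset.univ.sup fun q : ULift.{u} J × ULift.{u} J => m q.1 q.2
    obtain ⟨T, hT⟩ := Mod48.ClosedImm.glue S.X₂ D hDle hcov (fun j => fj j ^ K • z j) (fun j k => by
      have hle : m j k ≤ K := Finset.le_sup (f := fun q : ULift.{u} J × ULift.{u} J => m q.1 q.2)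
        (Finset.mem_univ (j, k))
      have h1 := congrArg
        (res 𝔛 h𝔛.1 ((inf_le_left : D j ⊓ D k ≤ D j).trans (hDle j)) (a p) ^ (K - m j k) • ·) (hm j k)
      simp only [smul_zero, smul_smul, ← pow_add, Nat.sub_add_cancel hle, smul_sub, sub_eq_zero] at h1
      change fres S.X₂ inf_le_left (fj j ^ K • z j) = fres S.X₂ inf_le_right (fj k ^ K • z k)
      simp only [fres_pow_smul, fj, sec_res_res]
      exact h1)
    refine ⟨K + N, T, FCompl13.fs_ext S.X₃ _ _ fun x hx => ?_⟩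
    obtain ⟨j, hj⟩ := hcov x hx
    refine ⟨D j, hDle j, hj, ?_⟩
    rw [FCompl13.fres_ap, show fres S.X₂ (hDle j) T = fj j ^ K • z j from hT j, ap_smul' h𝔛, hgz, smul_smul,
      ← pow_add, fres_pow_smul]
  have hI : I = ⊤ := by
    rw [← Ideal.radical_eq_top]
    refine top_le_iff.1 ((span_eq_top_of_cover h𝔛 hV (Set.range a) fun z hz =>
      ⟨a ⟨z, hz⟩, ⟨_, rfl⟩, hza _⟩).symm.le.trans (Ideal.span_le.2 ?_))
    rintro _ ⟨p, rfl⟩
    exact key p
  obtain ⟨T, hT⟩ := (hI ▸ Submodule.mem_top : (1 : Sec 𝔛 h𝔛.1 V) ∈ I)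
  exact ⟨T, by rw [hT, one_smul]⟩

theorem isTorsF_ext (hS : S.ShortExact) (h₁ : FTors.IsTorsF 𝔛 h𝔛.1 S.X₁) (h₃ : FTors.IsTorsF 𝔛 h𝔛.1 S.X₃) :
    FTors.IsTorsF 𝔛 h𝔛.1 S.X₂ := by
  classical
  haveI := hS.mono_f
  intro W s
  refine isTorsSect_of_locally _ fun y hy => ?_
  obtain ⟨A, hA, hyA, hAW⟩ := exists_isAffineOpen_mem_and_subset hy
  obtain ⟨n, hn⟩ := exists_killed hA.isCompact (h₃ A (ap S.g (fres S.X₂ hAW s)))
  obtain ⟨hN, -, -⟩ := FCompl13.secRing h𝔛 hA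
  haveI := hN
  obtain ⟨p, g, hg⟩ := FCompl13.exists_fin_generators (secIdeal 𝔛 h𝔛.1 A ^ (n + 1))
  have hc : ∀ l, ∃ c : FS S.X₁ A, ap S.f c = g l • fres S.X₂ hAW s := fun l =>
    SiteMod.exists_preimage_of_ap_eq_zero hS.exact (by
      rw [ap_smul' h𝔛]
      exact hn.smul_eq ((mem_ker_proj_iff h𝔛 hA n (g l)).2 (hg.le (Submodule.subset_span ⟨l, rfl⟩))))
  choose c hc using hc
  obtain ⟨m, hm⟩ := exists_killed_finite hA.isCompact c fun l => h₁ A _
  refine ⟨A, hAW, n + m + 1, hyA, killed_of_affine h𝔛 hA fun b hb => ?_⟩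
  rw [show n + m + 1 + 1 = (m + 1) + (n + 1) by omega, pow_add, ← smul_eq_mul] at hb
  refine Submodule.smul_induction_on (p := fun b => b • fres S.X₂ hAW s = 0) hb
    (fun r hr u hu => ?_) fun x y hx hy => by rw [add_smul, hx, hy, add_zero]
  rw [smul_eq_mul, mul_smul]
  refine Submodule.span_induction (p := fun u _ => r • u • fres S.X₂ hAW s = 0) ?_
    (by rw [zero_smul, smul_zero]) (fun u u' _ _ h₁ h₂ => by rw [add_smul, smul_add, h₁, h₂, add_zero])
    (fun d u _ h₁ => by rw [smul_eq_mul, mul_smul, smul_comm, h₁, smul_zero]) (hg.ge hu)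
  rintro _ ⟨l, rfl⟩
  rw [← hc l, ← ap_smul' h𝔛, (hm l).smul_eq ((mem_ker_proj_iff h𝔛 hA m r).2 hr)]
  exact map_zero (FCompl13.apLin S.f _)

/-- Extensions of quasi-coherent torsion modules are quasi-coherent torsion. -/
theorem isQCT_ext (hS : S.ShortExact) (h₁ : FTors.IsQCT 𝔛 h𝔛.1 S.X₁) (h₃ : FTors.IsQCT 𝔛 h𝔛.1 S.X₃) :
    FTors.IsQCT 𝔛 h𝔛.1 S.X₂ := by
  haveI := hS.mono_f
  refine isQCT_of_tLoc h𝔛 (isTorsF_ext h𝔛 hS h₁.1 h₃.1) fun V hV => ⟨fun a s => ?_, fun a t h0 => ?_⟩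
  · obtain ⟨n, t₃, ht₃⟩ := (tLoc_of_qct h𝔛 h₃ hV).exists_of a (ap S.g s)
    obtain ⟨t, rfl⟩ := exists_lift_affine h𝔛 hS h₁ hV t₃
    obtain ⟨c, hc⟩ := SiteMod.exists_preimage_of_ap_eq_zero hS.exact
      (x := res 𝔛 h𝔛.1 (secBasic_le a) a ^ n • s - fres S.X₂ (secBasic_le a) t) (by
        rw [ap_sub'' h𝔛, ap_smul' h𝔛, ← FCompl13.fres_ap, ht₃, sub_self])
    obtain ⟨m, x, hx⟩ := (tLoc_of_qct h𝔛 h₁ hV).exists_of a c
    refine ⟨m + n, a ^ m • t + ap S.f x, ?_⟩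
    rw [show fres S.X₂ (secBasic_le a) (a ^ m • t + ap S.f x) =
      fres S.X₂ (secBasic_le a) (a ^ m • t) + fres S.X₂ (secBasic_le a) (ap S.f x) from Mod48.res_add _ _ _ _,
      fres_pow_smul, FCompl13.fres_ap, hx, ap_smul' h𝔛, hc, ← smul_add, add_sub_cancel, smul_smul, ← pow_add]
  · obtain ⟨n, hn⟩ := (tLoc_of_qct h𝔛 h₃ hV).eq_zero_of a (ap S.g t) (by
      rw [FCompl13.fres_ap, h0]; exact map_zero (FCompl13.apLin S.g _))
    obtain ⟨c, hc⟩ := SiteMod.exists_preimage_of_ap_eq_zero hS.exact (x := a ^ n • t) (by rw [ap_smul' h𝔛, hn])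
    obtain ⟨m, hm⟩ := (tLoc_of_qct h𝔛 h₁ hV).eq_zero_of a c (FCompl13.ap_injective S.f
      ((FCompl13.fres_ap S.f (secBasic_le a) c).symm.trans (by
        rw [hc, fres_pow_smul, h0, smul_zero]
        exact (map_zero (FCompl13.apLin S.f _)).symm)))
    refine ⟨m + n, ?_⟩
    rw [pow_add, mul_smul, ← hc, ← ap_smul' h𝔛, hm]
    exact map_zero (FCompl13.apLin S.f _)

end Groth.Agent.FTors27
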