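import Groth.Agent.FTors27.TColim
import Groth.Agent.FTors27.FinPres

/-!
The quasi-coherent torsion coreflection commutes with filtered colimits.
-/

set_option autoImplicit false
set_option backward.isDefEq.respectTransparency false
set_option backward.isDefEq.respectTransparency.types false
set_option linter.style.haveILetI false

noncomputable section

universe u

open CategoryTheory CategoryTheory.Limits AlgebraicGeometry TopologicalSpace Opposite

namespace Groth.Agent.FTors27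

variable {𝔛 : FSch.Sys.{u}} (h𝔛 : 𝔛.IsLocNoethFormal)

theorem exists_qct_presentation {M : FSch.ModF 𝔛 h𝔛.1} (hM : FTors.IsQCT 𝔛 h𝔛.1 M) :
    ∃ (J : Type u) (_ : SmallCategory J) (_ : IsFiltered J) (pres : ColimitPresentation J M),
      ∀ j, FSch.IsCohF 𝔛 h𝔛.1 (pres.diag.obj j) ∧ FTors.IsQCT 𝔛 h𝔛.1 (pres.diag.obj j) := by
  haveI := hM.2
  obtain ⟨J, i₁, i₂, pres, hc, hm⟩ :=
    FCompl13.exists_presentation_mono (h𝔛 := h𝔛) M (cohGen_of_qct h𝔛 hM)
  exact ⟨J, i₁, i₂, pres, fun j => ⟨hc j, @ObjectProperty.prop_of_mono _ _ (FTors.IsTors (FTors.openIdealFam 𝔛 h𝔛.1)) _ _ _ (pres.ι.app j) (hm j) hM.1,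
    FCompl13.isQuasicoherent_of_coh (h𝔛 := h𝔛) (hc j)⟩⟩

/-- A map of quasi-coherent torsion modules seen bijectively by coherent ones is invertible. -/
theorem isIso_of_bijective_coh {A B : (FTors.IsQCT 𝔛 h𝔛.1).FullSubcategory} (φ : A ⟶ B)
    (H : ∀ G : (FTors.IsQCT 𝔛 h𝔛.1).FullSubcategory, FSch.IsCohF 𝔛 h𝔛.1 G.obj →
      Function.Bijective (fun a : G ⟶ A => a ≫ φ)) : IsIso φ := by
  obtain ⟨I, _, _, p, hp⟩ := exists_qct_presentation h𝔛 B.property
  obtain ⟨I', _, _, q, hq⟩ := exists_qct_presentation h𝔛 A.property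
  let G : I → (FTors.IsQCT 𝔛 h𝔛.1).FullSubcategory := fun i => ⟨p.diag.obj i, (hp i).2⟩
  choose a ha using fun i => (H (G i) (hp i).1).2 (ObjectProperty.homMk (p.ι.app i) : G i ⟶ B)
  let t : Cocone p.diag :=
    { pt := A.obj
      ι :=
        { app := fun i => (a i).hom
          naturality := fun i k u => by
            have h1 : (ObjectProperty.homMk (p.diag.map u) : G i ⟶ G k) ≫ a k = a i := by
              refine (H (G i) (hp i).1).1 ?_
              change ((ObjectProperty.homMk (p.diag.map u) : G i ⟶ G k) ≫ a k) ≫ φ = a i ≫ φ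
              rw [Category.assoc, show a k ≫ φ = _ from ha k, show a i ≫ φ = _ from ha i]
              apply ObjectProperty.hom_ext
              exact p.cocone.w u
            exact (congrArg (fun z => z.hom) h1).trans (Category.comp_id _).symm } }
  let ψ : B ⟶ A := ObjectProperty.homMk (p.isColimit.desc t)
  have hψφ : ψ ≫ φ = 𝟙 B := by
    apply ObjectProperty.hom_ext
    refine p.isColimit.hom_ext fun i => ?_
    change p.cocone.ι.app i ≫ p.isColimit.desc t ≫ φ.hom = p.cocone.ι.app i ≫ 𝟙 _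
    rw [p.isColimit.fac_assoc, Category.comp_id]
    exact congrArg (fun z => z.hom) (ha i)
  refine ⟨⟨ψ, ?_, hψφ⟩⟩
  apply ObjectProperty.hom_ext
  refine q.isColimit.hom_ext fun i => ?_
  let Gi : (FTors.IsQCT 𝔛 h𝔛.1).FullSubcategory := ⟨q.diag.obj i, (hq i).2⟩
  let l : Gi ⟶ A := ObjectProperty.homMk (q.ι.app i)
  have h1 : l ≫ φ ≫ ψ = l := (H Gi (hq i).1).1 (by
    change (l ≫ φ ≫ ψ) ≫ φ = l ≫ φ
    rw [Category.assoc, Category.assoc, hψφ, Category.comp_id])
  exact (congrArg (fun z => z.hom) h1).trans (Category.comp_id _).symm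

theorem preservesColimit_coreflector [CompactSpace (𝔛.X 0)]
    (Q : FSch.ModF 𝔛 h𝔛.1 ⥤ (FTors.IsQCT 𝔛 h𝔛.1).FullSubcategory) (adj : (FTors.IsQCT 𝔛 h𝔛.1).ι ⊣ Q)
    {J : Type u} [SmallCategory J] [IsFiltered J] (K : J ⥤ FSch.ModF 𝔛 h𝔛.1) : PreservesColimit K Q := by
  refine ⟨fun {c} hc => ?_⟩
  let T := FTors.IsQCT 𝔛 h𝔛.1
  let D := (K ⋙ Q) ⋙ T.ι
  let A : T.FullSubcategory :=
    ⟨colimit D, isQCT_colimit h𝔛 (colimit.isColimit D) fun j => (Q.obj (K.obj j)).property⟩
  let s : Cocone (K ⋙ Q) :=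
    { pt := A
      ι :=
        { app := fun j => ObjectProperty.homMk (colimit.ι D j)
          naturality := fun i j u => by
            apply ObjectProperty.hom_ext
            exact (colimit.w D u).trans (Category.comp_id _).symm } }
  let hs : IsColimit s := isColimitOfReflects T.ι (IsColimit.ofIsoColimit (colimit.isColimit D)
    (Cocone.ext (Iso.refl _) fun j => Category.comp_id _))
  haveI : IsIso (hs.desc (Q.mapCocone c)) := by
    refine isIso_of_bijective_coh h𝔛 _ fun G hG => ?_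
    haveI := isFinitelyPresentable_coh h𝔛 hG
    constructor
    · intro a b hab
      obtain ⟨i₁, a₁, ha⟩ := IsFinitelyPresentable.exists_hom_of_isColimit (colimit.isColimit D) a.hom
      obtain ⟨i₂, b₁, hb⟩ := IsFinitelyPresentable.exists_hom_of_isColimit (colimit.isColimit D) b.hom
      let i := IsFiltered.max i₁ i₂
      let a₂ : G ⟶ Q.obj (K.obj i) :=
        (ObjectProperty.homMk a₁ : G ⟶ Q.obj (K.obj i₁)) ≫ Q.map (K.map (IsFiltered.leftToMax i₁ i₂))
      let b₂ : G ⟶ Q.obj (K.obj i) :=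
        (ObjectProperty.homMk b₁ : G ⟶ Q.obj (K.obj i₂)) ≫ Q.map (K.map (IsFiltered.rightToMax i₁ i₂))
      have ha₂ : a₂ ≫ s.ι.app i = a := by
        refine (Category.assoc _ _ _).trans ((congrArg (_ ≫ ·) (s.w _)).trans ?_)
        exact ObjectProperty.hom_ext _ ha
      have hb₂ : b₂ ≫ s.ι.app i = b := by
        refine (Category.assoc _ _ _).trans ((congrArg (_ ≫ ·) (s.w _)).trans ?_)
        exact ObjectProperty.hom_ext _ hb
      have h2 : a₂ ≫ Q.map (c.ι.app i) = b₂ ≫ Q.map (c.ι.app i) := by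
        have h3 : (a₂ ≫ s.ι.app i) ≫ hs.desc (Q.mapCocone c) = (b₂ ≫ s.ι.app i) ≫ hs.desc (Q.mapCocone c) := by
          rw [ha₂, hb₂]; exact hab
        exact (congrArg (a₂ ≫ ·) (hs.fac (Q.mapCocone c) i)).symm.trans ((Category.assoc _ _ _).symm.trans
          (h3.trans ((Category.assoc _ _ _).trans (congrArg (b₂ ≫ ·) (hs.fac (Q.mapCocone c) i)))))
      have h4 : (adj.homEquiv G (K.obj i)).symm a₂ ≫ c.ι.app i = (adj.homEquiv G (K.obj i)).symm b₂ ≫ c.ι.app i :=
        (adj.homEquiv_naturality_right_symm a₂ (c.ι.app i)).symm.trans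
          ((congrArg (adj.homEquiv G c.pt).symm h2).trans (adj.homEquiv_naturality_right_symm b₂ (c.ι.app i)))
      haveI : IsFinitelyPresentable.{u} (T.ι.obj G) := isFinitelyPresentable_coh h𝔛 hG
      obtain ⟨k, u, v, he⟩ := IsFinitelyPresentable.exists_eq_of_isColimit hc _ _ h4
      obtain ⟨l, w, hw⟩ : ∃ (l : J) (w : i ⟶ l), (adj.homEquiv G (K.obj i)).symm a₂ ≫ K.map w =
          (adj.homEquiv G (K.obj i)).symm b₂ ≫ K.map w := by
        refine ⟨IsFiltered.coeq u v, u ≫ IsFiltered.coeqHom u v, ?_⟩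
        conv_rhs => rw [IsFiltered.coeq_condition u v]
        rw [K.map_comp, K.map_comp, ← Category.assoc, ← Category.assoc, he]
      have h5 : a₂ ≫ Q.map (K.map w) = b₂ ≫ Q.map (K.map w) := (adj.homEquiv G (K.obj l)).symm.injective
        ((adj.homEquiv_naturality_right_symm a₂ (K.map w)).trans
          (hw.trans (adj.homEquiv_naturality_right_symm b₂ (K.map w)).symm))
      rw [← ha₂, ← hb₂, ← s.w w]
      exact (Category.assoc _ _ _).symm.trans ((congrArg (· ≫ s.ι.app l) h5).trans (Category.assoc _ _ _))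
    · intro g
      haveI : IsFinitelyPresentable.{u} (T.ι.obj G) := isFinitelyPresentable_coh h𝔛 hG
      obtain ⟨j, h, hh⟩ := IsFinitelyPresentable.exists_hom_of_isColimit hc ((adj.homEquiv G c.pt).symm g)
      refine ⟨adj.homEquiv G (K.obj j) h ≫ s.ι.app j, ?_⟩
      refine (Category.assoc _ _ _).trans ((congrArg (_ ≫ ·) (hs.fac _ j)).trans ?_)
      change adj.homEquiv G (K.obj j) h ≫ Q.map (c.ι.app j) = g
      exact (adj.homEquiv_naturality_right h (c.ι.app j)).symm.trans
        ((congrArg (adj.homEquiv G c.pt) hh).trans (Equiv.apply_symm_apply _ _))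
  exact ⟨IsColimit.ofPointIso hs⟩

end Groth.Agent.FTors27
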