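import Groth.Agent.FTors27.TLoc

/-!
The torsion submodule of a quasi-coherent module is generated by its sections over affine opens, and
the submodule of sections killed by a given open ideal.
-/

set_option autoImplicit false
set_option backward.isDefEq.respectTransparency false
set_option backward.isDefEq.respectTransparency.types false
set_option linter.style.haveILetI false

noncomputable section

universe u

open CategoryTheory CategoryTheory.Limits AlgebraicGeometry TopologicalSpace Opposite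

namespace Groth.Agent.FTors27

open FCompl13 (FS fres secIdeal vres GenBy QcAt)
open FBlow13 (Sec res proj)
open SiteMod (ap)

/-- Solutions over a flat algebra of a linear system are combinations of solutions. -/
theorem flat_solutions {A B : Type u} [CommRing A] [CommRing B] (φ : A →+* B) (hφ : φ.Flat) {ι ρ : Type*}
    [Fintype ι] [Fintype ρ] (L : ρ → ι → A) (v : ι → B) (hv : ∀ l, ∑ i, φ (L l i) * v i = 0) :
    v ∈ Submodule.span B ((fun w i => φ (w i)) '' {w : ι → A | ∀ l, ∑ i, L l i * w i = 0}) := by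
  classical
  suffices H : ∀ S : Finset ρ,
      v ∈ Submodule.span B ((fun w i => φ (w i)) '' {w : ι → A | ∀ l ∈ S, ∑ i, L l i * w i = 0}) by
    simpa using H Finset.univ
  intro S
  induction S using Finset.induction_on with
  | empty =>
    rw [← Finset.univ_sum_single v]
    refine Submodule.sum_mem _ fun i _ => ?_
    rw [show Pi.single i (v i) = v i • (fun l => φ (Pi.single (M := fun _ : ι => A) i 1 l)) from funext fun l => by
      by_cases hl : l = i
      · subst hl; simp
      · simp [hl]]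
    exact Submodule.smul_mem _ _ (Submodule.subset_span ⟨_, fun l hl => absurd hl (Finset.notMem_empty l), rfl⟩)
  | insert l S _ ih =>
    rw [Submodule.mem_span_set'] at ih
    obtain ⟨p, y, w, hw⟩ := ih
    choose w' hw' e using fun k : Fin p => (w k).2
    letI : Algebra A B := φ.toAlgebra
    haveI : Module.Flat A B := hφ
    have h1 : ∑ k, (∑ i, L l i * w' k i) • y k = 0 := by
      simp only [Algebra.smul_def]
      change ∑ k, φ (∑ i, L l i * w' k i) * y k = 0
      simp only [map_sum, map_mul, Finset.sum_mul]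
      rw [Finset.sum_comm]
      refine Eq.trans (Finset.sum_congr rfl fun i _ => ?_) (hv l)
      rw [← hw, Finset.sum_apply, Finset.mul_sum]
      refine Finset.sum_congr rfl fun k _ => ?_
      rw [Pi.smul_apply, smul_eq_mul, ← e k]
      ring
    obtain ⟨κ, a, z, hy, ha⟩ := Module.Flat.isTrivialRelation_of_sum_smul_eq_zero (R := A) (M := B) h1
    rw [show v = ∑ j, z j • (fun i => φ (∑ k, a k j * w' k i)) from funext fun i => by
      rw [← hw]
      simp only [Finset.sum_apply, Pi.smul_apply, smul_eq_mul, map_sum, map_mul, Finset.mul_sum]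
      rw [Finset.sum_comm]
      refine Finset.sum_congr rfl fun k _ => ?_
      rw [← e k, hy k, Finset.sum_mul]
      refine Finset.sum_congr rfl fun j _ => ?_
      rw [Algebra.smul_def]
      change φ (a k j) * z j * φ (w' k i) = _
      ring]
    refine Submodule.sum_mem _ fun j _ => Submodule.smul_mem _ _ (Submodule.subset_span ⟨_, fun l' hl' => ?_, rfl⟩)
    simp only [Finset.mul_sum, mul_left_comm (L l' _)]
    rw [Finset.sum_comm]
    simp only [← Finset.mul_sum]
    rcases Finset.mem_insert.1 hl' with rfl | hl'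
    · refine Eq.trans (Finset.sum_congr rfl fun k _ => ?_) (ha j)
      exact mul_comm _ _
    · exact Finset.sum_eq_zero fun k _ => by rw [hw' k l' hl', mul_zero]

variable {𝔛 : FSch.Sys.{u}} {h𝔛 : 𝔛.IsLocNoethFormal}

/-- Torsion sections of a module generated over `V` are generated over `V`. -/
theorem genBy_gammaT {M : FSch.ModF 𝔛 h𝔛.1} {V : (𝔛.X 0).Opens} (hM : QcAt h𝔛 M V) :
    GenBy ((FTors.gammaT 𝔛 h𝔛.1).obj M) V := by
  classical
  intro W i x z hz
  let ι : (FTors.gammaT 𝔛 h𝔛.1).obj M ⟶ M := (FTors.gammaι (FTors.openIdealFam 𝔛 h𝔛.1)).app M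
  haveI : Mono ι := mono_gammaι' _ M
  obtain ⟨W₁, hW₁, n, hzW₁, hn⟩ := tors_exists (FTors.openIdealFam 𝔛 h𝔛.1) (M := M) (s := ap ι x)
    (show FTors.IsTorsSect _ M (ap ι x) from (x : {s // s ∈ FTors.torsSub (FTors.openIdealFam 𝔛 h𝔛.1) M W}).2) hz
  obtain ⟨W₂, hW₂, hzW₂, hm⟩ := hM.2.1 W₁ (hW₁.trans i) (fres M hW₁ (ap ι x)) z hzW₁
  obtain ⟨D, hD, hzD, hD₂⟩ := exists_isAffineOpen_mem_and_subset hzW₂
  have hDW₁ : D ≤ W₁ := le_trans hD₂ hW₂
  have hDV : D ≤ V := hDW₁.trans (hW₁.trans i)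
  have hm' := FCompl13.fres_mem_span_range M hD₂ hm
  simp only [FCompl13.fres_fres] at hm'
  obtain ⟨S, c, hc⟩ := FCompl13.fres_mem_span_finset _ hm'
  obtain ⟨κ, _, r, hr, hgen⟩ := hM.rel fun a : S => a.1
  have hxD : Killed n (fres M (hDW₁.trans hW₁) (ap ι x)) := by
    rw [← FCompl13.fres_fres M hW₁ hDW₁]
    exact (show Killed n (fres M hW₁ (ap ι x)) from hn).fres _
  obtain ⟨hN, -, -⟩ := FCompl13.secRing h𝔛 hM.1
  haveI := hN
  obtain ⟨p, g, hg⟩ := FCompl13.exists_fin_generators (secIdeal 𝔛 h𝔛.1 V ^ (n + 1))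
  let φ := (res 𝔛 h𝔛.1 hDV).hom
  have hμ : ∀ l, ∃ μ : κ → Sec 𝔛 h𝔛.1 D, ∀ a : S, φ (g l) * c a = ∑ s, μ s * φ (r s a) := fun l => by
    have h0 : ∑ a : S, (φ (g l) * c a) • fres M hDV a.1 = 0 := by
      simp only [mul_smul, ← Finset.smul_sum]
      rw [← hc]
      refine hxD.smul_eq ((FBlow13.proj_res_apply hDV n (g l)).trans ?_)
      rw [(mem_ker_proj_iff h𝔛 hM.1 n (g l)).2 (hg.le (Submodule.subset_span ⟨l, rfl⟩)), map_zero]
    obtain ⟨μ, hμ⟩ := (Submodule.mem_span_range_iff_exists_fun _).1 (hgen D hDV hD _ h0)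
    refine ⟨μ, fun a => ?_⟩
    have h1 := congrFun hμ a
    simp only [Finset.sum_apply, Pi.smul_apply, smul_eq_mul, vres] at h1
    exact h1.symm
  choose μ hμ using hμ
  let L : Fin p × S → S ⊕ (Fin p × κ) → Sec 𝔛 h𝔛.1 V := fun q => Sum.elim
    (fun a => if q.2 = a then g q.1 else 0) fun w => if q.1 = w.1 then -r w.2 q.2 else 0
  have hflat : φ.Flat := flat_sec_res h𝔛 hM.1 hD hDV
  have hsol := flat_solutions φ hflat L (Sum.elim c fun w => μ w.1 w.2) fun q => by
    simp only [L, Fintype.sum_sum_type, Fintype.sum_prod_type, Sum.elim_inl, Sum.elim_inr, apply_ite φ, map_zero,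
      ite_mul, zero_mul, Finset.sum_ite_eq, Finset.mem_univ, if_true, map_neg, neg_mul,
      Finset.sum_ite_irrel, Finset.sum_const_zero, Finset.sum_neg_distrib]
    rw [hμ q.1 q.2, ← sub_eq_add_neg, sub_eq_zero]
    exact Finset.sum_congr rfl fun s _ => mul_comm _ _
  refine ⟨D, hDW₁.trans hW₁, hzD, ?_⟩
  have key : fres M (hDW₁.trans hW₁) (ap ι x) ∈ Submodule.span (Sec 𝔛 h𝔛.1 D)
      (ap ι '' Set.range fun a : FS ((FTors.gammaT 𝔛 h𝔛.1).obj M) V => fres _ hDV a) := by
    rw [hc]
    have hlin : ∀ v ∈ Submodule.span (Sec 𝔛 h𝔛.1 D)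
        ((fun (w : S ⊕ (Fin p × κ) → Sec 𝔛 h𝔛.1 V) i => φ (w i)) '' {w | ∀ q, ∑ i, L q i * w i = 0}),
        ∑ a : S, v (Sum.inl a) • fres M hDV a.1 ∈ Submodule.span (Sec 𝔛 h𝔛.1 D)
          (ap ι '' Set.range fun a : FS ((FTors.gammaT 𝔛 h𝔛.1).obj M) V => fres _ hDV a) := by
      intro v hv
      induction hv using Submodule.span_induction with
      | mem v hv =>
        obtain ⟨w, hw, rfl⟩ := hv
        have hk : Killed n (∑ a : S, w (Sum.inl a) • a.1) := by
          refine killed_of_affine h𝔛 hM.1 fun b hb => ?_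
          refine Submodule.span_induction (p := fun b _ => b • (∑ a : S, w (Sum.inl a) • a.1) = 0)
            ?_ (zero_smul _ _) (fun b b' _ _ h₁ h₂ => by rw [add_smul, h₁, h₂, add_zero])
            (fun d b _ h₁ => by rw [smul_eq_mul, mul_smul, h₁, smul_zero]) (hg.ge hb)
          rintro _ ⟨l, rfl⟩
          simp only [Finset.smul_sum, smul_smul]
          have e : ∀ a : S, g l * w (Sum.inl a) = ∑ s, w (Sum.inr (l, s)) * r s a := fun a => by
            have h1 := hw (l, a)
            simp only [L, Fintype.sum_sum_type, Fintype.sum_prod_type, Sum.elim_inl, Sum.elim_inr,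
              ite_mul, zero_mul, Finset.sum_ite_eq, Finset.mem_univ, if_true, neg_mul,
              Finset.sum_ite_irrel, Finset.sum_const_zero, Finset.sum_neg_distrib] at h1
            rw [← sub_eq_add_neg, sub_eq_zero] at h1
            rw [h1]
            exact Finset.sum_congr rfl fun s _ => mul_comm _ _
          simp only [e, Finset.sum_smul, mul_smul]
          rw [Finset.sum_comm]
          refine Finset.sum_eq_zero fun s _ => ?_
          rw [← Finset.smul_sum, hr s, smul_zero]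
        refine Submodule.subset_span ⟨_, ⟨(⟨_, FTors.IsTorsSect.of_killedBy hk⟩ :
          {s // s ∈ FTors.torsSub (FTors.openIdealFam 𝔛 h𝔛.1) M V}), rfl⟩, ?_⟩
        refine (FCompl13.fres_ap ι hDV _).symm.trans ?_
        exact fres_lincomb M hDV _ _ _
      | zero => simp
      | add v v' _ _ h₁ h₂ =>
        simp only [Pi.add_apply, add_smul, Finset.sum_add_distrib]
        exact Submodule.add_mem _ h₁ h₂
      | smul b v _ h₁ =>
        simp only [Pi.smul_apply, smul_eq_mul, mul_smul, ← Finset.smul_sum]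
        exact Submodule.smul_mem _ _ h₁
    exact hlin _ hsol
  rw [FCompl13.fres_ap ι] at key
  rw [show (ap ι : FS _ D → FS M D) = ⇑(FCompl13.apLin ι D) from rfl, Submodule.span_image] at key
  obtain ⟨y, hy, hy'⟩ := key
  rwa [FCompl13.ap_injective ι hy'] at hy

/-- The torsion submodule of a module generated over `V` with finite relations is again one. -/
theorem qcAt_gammaT {M : FSch.ModF 𝔛 h𝔛.1} {V : (𝔛.X 0).Opens} (hM : QcAt h𝔛 M V) :
    QcAt h𝔛 ((FTors.gammaT 𝔛 h𝔛.1).obj M) V := by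
  haveI := mono_gammaι' (FTors.openIdealFam 𝔛 h𝔛.1) M
  exact FCompl13.QcAt.of_mono ((FTors.gammaι (FTors.openIdealFam 𝔛 h𝔛.1)).app M) hM (genBy_gammaT hM)

/-! ### Sections killed by a given open ideal -/

/-- The constant family. -/
def constFam (h : 𝔛.IsFormal) (n : ℕ) : FTors.IdealFam (𝔛.Osh h) where
  ideal _ U := (FTors.openIdealFam 𝔛 h).ideal n U
  antitone' _ _ := le_rfl
  map_mem' _ _ _ g a ha := (FTors.openIdealFam 𝔛 h).map_mem' n g a ha

/-- The submodule of sections killed by the `n`-th open ideal. -/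
abbrev kN {h : 𝔛.IsFormal} (n : ℕ) (F : FSch.ModF 𝔛 h) : FSch.ModF 𝔛 h :=
  (FTors.gamma (𝔛.Osh h) (constFam h n)).obj F

/-- Its inclusion. -/
abbrev kι {h : 𝔛.IsFormal} (n : ℕ) (F : FSch.ModF 𝔛 h) : kN n F ⟶ F :=
  (FTors.gammaι (constFam h n)).app F

instance mono_kι {h : 𝔛.IsFormal} (n : ℕ) (F : FSch.ModF 𝔛 h) : Mono (kι n F) :=
  mono_gammaι' (constFam h n) F

theorem killed_ap_kι {h : 𝔛.IsFormal} {n : ℕ} {F : FSch.ModF 𝔛 h} {W : (𝔛.X 0).Opens} (x : FS (kN n F) W) :
    Killed n (ap (kι n F) x) := by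
  refine killed_of_locally fun z hz => ?_
  obtain ⟨V, hV, m, hzV, hm⟩ := tors_exists (constFam h n) (M := F) (s := ap (kι n F) x)
    (show FTors.IsTorsSect _ F (ap (kι n F) x) from (x : {s // s ∈ FTors.torsSub (constFam h n) F W}).2) hz
  exact ⟨V, hV, hzV, fun W' g a ha => hm g a ha⟩

theorem killed_kN {h : 𝔛.IsFormal} {n : ℕ} {F : FSch.ModF 𝔛 h} {W : (𝔛.X 0).Opens} (x : FS (kN n F) W) :
    Killed n x :=
  killedBy_of_mono _ (kι n F) (killed_ap_kι x)

theorem exists_ap_kι {h : 𝔛.IsFormal} {n : ℕ} {F : FSch.ModF 𝔛 h} {W : (𝔛.X 0).Opens} {x : FS F W}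
    (hx : Killed n x) : ∃ y : FS (kN n F) W, ap (kι n F) y = x :=
  ⟨(⟨x, FTors.IsTorsSect.of_killedBy (I := constFam h n) (n := 0) fun _ g a ha => hx g a ha⟩ :
    {s // s ∈ FTors.torsSub (constFam h n) F W}), rfl⟩

theorem isTorsF_of_killed {h : 𝔛.IsFormal} {n : ℕ} {F : FSch.ModF 𝔛 h}
    (hF : ∀ (W : (𝔛.X 0).Opens) (x : FS F W), Killed n x) : FTors.IsTorsF 𝔛 h F :=
  fun W x => FTors.IsTorsSect.of_killedBy (hF W x)

theorem isTorsF_kN {h : 𝔛.IsFormal} (n : ℕ) (F : FSch.ModF 𝔛 h) : FTors.IsTorsF 𝔛 h (kN n F) :=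
  isTorsF_of_killed fun _ x => killed_kN x

theorem tLoc_kN {F : FSch.ModF 𝔛 h𝔛.1} {V : (𝔛.X 0).Opens} (hV : IsAffineOpen V) (hF : TLoc F V) (n : ℕ) :
    TLoc (kN n F) V where
  exists_of a s := by
    classical
    obtain ⟨m, t, ht⟩ := hF.exists_of a (ap (kι n F) s)
    obtain ⟨hN, -, -⟩ := FCompl13.secRing h𝔛 hV
    haveI := hN
    obtain ⟨p, g, hg⟩ := FCompl13.exists_fin_generators (secIdeal 𝔛 h𝔛.1 V ^ (n + 1))
    have h0 : ∀ l, fres F (secBasic_le a) (g l • t) = 0 := fun l => by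
      rw [FCompl13.fres_smul, ht, smul_comm]
      refine (congrArg (_ • ·) ((killed_ap_kι s).smul_eq ((FBlow13.proj_res_apply _ n (g l)).trans ?_))).trans
        (smul_zero _)
      rw [(mem_ker_proj_iff h𝔛 hV n (g l)).2 (hg.le (Submodule.subset_span ⟨l, rfl⟩)), map_zero]
    choose k hk using fun l => hF.eq_zero_of a _ (h0 l)
    let N := Finset.univ.sup k
    have hkill : Killed n (a ^ N • t) := by
      refine killed_of_affine h𝔛 hV fun b hb => ?_
      refine Submodule.span_induction (p := fun b _ => b • (a ^ N • t) = 0)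
        ?_ (zero_smul _ _) (fun b b' _ _ h₁ h₂ => by rw [add_smul, h₁, h₂, add_zero])
        (fun d b _ h₁ => by rw [smul_eq_mul, mul_smul, h₁, smul_zero]) (hg.ge hb)
      rintro _ ⟨l, rfl⟩
      have e : N = (N - k l) + k l := (Nat.sub_add_cancel (Finset.le_sup (f := k) (Finset.mem_univ l))).symm
      rw [smul_comm, e, pow_add, mul_smul, hk l, smul_zero]
    obtain ⟨y, hy⟩ := exists_ap_kι hkill
    refine ⟨N + m, y, FCompl13.ap_injective (kι n F) ?_⟩
    refine (FCompl13.fres_ap (kι n F) _ y).symm.trans ?_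
    rw [hy, fres_pow_smul, ht, smul_smul, ← pow_add]
    exact ((FCompl13.apLin (kι n F) _).map_smul _ s).symm
  eq_zero_of a t h0 := by
    obtain ⟨m, hm⟩ := hF.eq_zero_of a (ap (kι n F) t) (by
      rw [FCompl13.fres_ap, h0]; exact map_zero _)
    refine ⟨m, FCompl13.ap_injective (kι n F) ?_⟩
    exact ((FCompl13.apLin (kι n F) _).map_smul _ t).trans (hm.trans (map_zero (FCompl13.apLin (kι n F) V)).symm)

end Groth.Agent.FTors27
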