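import Groth.Agent.FTors27.FinPres
import Groth.Agent.FCompl13.IndExt
import Groth.Agent.QCCohInd72.Basic
import Mathlib.CategoryTheory.Limits.FullSubcategory
import Mathlib.CategoryTheory.Abelian.GrothendieckAxioms.Basic
import Mathlib.CategoryTheory.Preadditive.AdditiveFunctor

/-!
Exact functors on coherent modules extend exactly to filtered colimits of coherent modules.
-/

set_option autoImplicit false
set_option backward.isDefEq.respectTransparency false
set_option backward.isDefEq.respectTransparency.types false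
set_option linter.style.haveILetI false

noncomputable section

universe u u' v'

open CategoryTheory CategoryTheory.Limits AlgebraicGeometry TopologicalSpace Opposite

namespace Groth.Agent.FTors27

variable {𝔛 : FSch.Sys.{u}} (h𝔛 : 𝔛.IsLocNoethFormal)

/-- Coherence. -/
abbrev cohF : ObjectProperty (FSch.ModF 𝔛 h𝔛.1) := fun G => FSch.IsCohF 𝔛 h𝔛.1 G

/-- Filtered colimits of coherent modules. -/
abbrev indF : ObjectProperty (FSch.ModF 𝔛 h𝔛.1) := ObjectProperty.ind.{u} (cohF h𝔛)

/-- The coherent objects of the category of filtered colimits of coherent modules. -/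
abbrev cohI : ObjectProperty (indF h𝔛).FullSubcategory := fun X => FSch.IsCohF 𝔛 h𝔛.1 X.obj

theorem isGrothendieckAbelian_modF : IsGrothendieckAbelian.{u} (FSch.ModF 𝔛 h𝔛.1) :=
  Coh69.sheafOfModules_isGrothendieckAbelian (ModSite.ringSh (𝔛.Osh h𝔛.1))

instance indF_colimits (J : Type u) [SmallCategory J] : (indF h𝔛).IsClosedUnderColimitsOfShape J :=
  ⟨fun _ ⟨⟨pres, h⟩⟩ => FCompl13.isIndCoh_colimit (h𝔛 := h𝔛) pres.isColimit h⟩

instance indF_iso : (indF h𝔛).IsClosedUnderIsomorphisms := inferInstance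

instance indF_kernels : (indF h𝔛).IsClosedUnderKernels where
  kernels_le := by
    intro _ ⟨f, k, hk, hf⟩
    exact (indF h𝔛).prop_of_iso ((limit.isLimit _).conePointUniqueUpToIso hk)
      (FCompl13.isIndCoh_kernel (h𝔛 := h𝔛) f hf.1 hf.2)

instance indF_cokernels : (indF h𝔛).IsClosedUnderCokernels where
  cokernels_le := by
    intro _ ⟨f, k, hk, hf⟩
    exact (indF h𝔛).prop_of_iso ((colimit.isColimit _).coconePointUniqueUpToIso hk)
      (FCompl13.isIndCoh_cokernel (h𝔛 := h𝔛) f hf.1 hf.2)

instance indF_containsZero : (indF h𝔛).ContainsZero where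
  exists_zero := ⟨kernel (𝟙 (FSch.unitF 𝔛 h𝔛.1)), isZero_kernel_of_mono _,
    ObjectProperty.le_ind _ _ (FCompl13.isCohF_of_isZero (h𝔛 := h𝔛) (isZero_kernel_of_mono _))⟩

instance indF_pairs : (indF h𝔛).IsClosedUnderLimitsOfShape (Discrete WalkingPair) where
  limitsOfShape_le := by
    rintro Z ⟨p⟩
    let A := p.diag.obj ⟨.left⟩
    let B := p.diag.obj ⟨.right⟩
    have hb : indF h𝔛 (A ⊞ B) := by
      refine FCompl13.isIndCoh_colimit (h𝔛 := h𝔛)
        (IsColimit.whiskerEquivalence (BinaryBiproduct.isColimit A B)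
          (Discrete.equivalence (Equiv.ulift.{u} (α := WalkingPair)))) ?_
      rintro ⟨⟨_ | _⟩⟩
      · exact p.prop_diag_obj ⟨.left⟩
      · exact p.prop_diag_obj ⟨.right⟩
    exact (indF h𝔛).prop_of_iso (IsLimit.conePointsIsoOfNatIso (BinaryBiproduct.isLimit A B) p.isLimit
      (diagramIsoPair p.diag).symm) hb

instance indF_finiteProducts : (indF h𝔛).IsClosedUnderFiniteProducts :=
  ObjectProperty.IsClosedUnderFiniteProducts.mk'

instance indF_equalizers : (indF h𝔛).IsClosedUnderLimitsOfShape WalkingParallelPair where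
  limitsOfShape_le := by
    rintro Z ⟨p⟩
    let f := p.diag.map WalkingParallelPairHom.left
    let g := p.diag.map WalkingParallelPairHom.right
    exact (indF h𝔛).prop_of_iso (IsLimit.conePointsIsoOfNatIso
      (Preadditive.isLimitForkOfKernelFork (kernelIsKernel (f - g))) p.isLimit (diagramIsoParallelPair p.diag).symm)
      (FCompl13.isIndCoh_kernel (h𝔛 := h𝔛) (f - g) (p.prop_diag_obj _) (p.prop_diag_obj _))

theorem hasColimits_ind (J : Type u) [SmallCategory J] : HasColimitsOfShape J (indF h𝔛).FullSubcategory :=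
  hasColimitsOfShape_of_closedUnderColimits J (indF h𝔛)

theorem preservesColimits_ι (J : Type u) [SmallCategory J] : PreservesColimitsOfShape J (indF h𝔛).ι :=
  preservesColimitOfShape_of_createsColimitsOfShape_and_hasColimitsOfShape _

theorem exact_colim_ind (J : Type u) [SmallCategory J] [IsFiltered J] :
    haveI := hasColimits_ind h𝔛 J
    PreservesLimitsOfShape WalkingParallelPair
      (colim : (J ⥤ (indF h𝔛).FullSubcategory) ⥤ (indF h𝔛).FullSubcategory) := by
  haveI := isGrothendieckAbelian_modF h𝔛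
  haveI := hasColimits_ind h𝔛 J
  haveI : PreservesFiniteLimits (colim : (J ⥤ FSch.ModF 𝔛 h𝔛.1) ⥤ FSch.ModF 𝔛 h𝔛.1) :=
    HasExactColimitsOfShape.preservesFiniteLimits
  haveI : PreservesLimitsOfShape WalkingParallelPair (indF h𝔛).ι :=
    preservesLimitOfShape_of_createsLimitsOfShape_and_hasLimitsOfShape _
  haveI := preservesColimits_ι h𝔛 J
  let e : (colim : (J ⥤ (indF h𝔛).FullSubcategory) ⥤ _) ⋙ (indF h𝔛).ι ≅
      (Functor.whiskeringRight J _ _).obj (indF h𝔛).ι ⋙ colim :=
    preservesColimitNatIso (indF h𝔛).ι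
  haveI : PreservesLimitsOfShape WalkingParallelPair
      ((colim : (J ⥤ (indF h𝔛).FullSubcategory) ⥤ _) ⋙ (indF h𝔛).ι) :=
    preservesLimitsOfShape_of_natIso e.symm
  exact preservesLimitsOfShape_of_reflects_of_preserves _ (indF h𝔛).ι

variable [CompactSpace (𝔛.X 0)]

theorem gen_cohI : IndExt72.Gen (cohI h𝔛) := by
  refine ⟨fun X hX => ?_, fun X => ?_⟩
  · haveI := isFinitelyPresentable_coh h𝔛 hX
    rw [isFinitelyPresentable_iff_preservesFilteredColimitsOfSize]
    refine ⟨fun J _ _ => ?_⟩
    haveI : PreservesFilteredColimitsOfSize.{u, u} (coyoneda.obj (op X.obj)) :=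
      (isFinitelyPresentable_iff_preservesFilteredColimitsOfSize).1 inferInstance
    haveI := preservesColimits_ι h𝔛 J
    haveI : PreservesColimitsOfShape J ((indF h𝔛).ι ⋙ coyoneda.obj (op X.obj)) := inferInstance
    exact preservesColimitsOfShape_of_natIso
      (NatIso.ofComponents (F := (indF h𝔛).ι ⋙ coyoneda.obj (op X.obj)) (G := coyoneda.obj (op X))
        (fun Y => ((indF h𝔛).fullyFaithfulι.homEquiv (X := X) (Y := Y)).symm.toIso)
        (fun f => by ext g; rfl))
  · obtain ⟨J, _, _, pres, hc⟩ := X.property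
    let D : J ⥤ (indF h𝔛).FullSubcategory :=
      ObjectProperty.lift _ pres.diag fun j => ObjectProperty.le_ind _ _ (hc j)
    let ι : D ⟶ (Functor.const J).obj X :=
      { app := fun j => ObjectProperty.homMk (pres.ι.app j)
        naturality := fun i j f => ObjectProperty.hom_ext _ (pres.ι.naturality f) }
    exact ⟨J, inferInstance, inferInstance, ⟨{
      diag := D
      ι := ι
      isColimit := isColimitOfReflects (indF h𝔛).ι (IsColimit.ofIsoColimit pres.isColimit
        (Cocone.ext (Iso.refl _) fun j => Category.comp_id _))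
      prop_diag_obj := hc }⟩⟩

variable {B : Type u'} [Category.{v'} B]

/-- The inclusion of coherent modules into their filtered colimits. -/
abbrev cohL : (cohF h𝔛).FullSubcategory ⥤ (indF h𝔛).FullSubcategory :=
  ObjectProperty.ιOfLE (ObjectProperty.le_ind (cohF h𝔛))

/-- The identification of the two categories of coherent modules. -/
def cohE : (cohI h𝔛).FullSubcategory ⥤ (cohF h𝔛).FullSubcategory where
  obj X := ⟨X.obj.obj, X.property⟩
  map f := ObjectProperty.homMk f.hom.hom

/-- Indices of the two canonical diagrams. -/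
def cohFc (X : (indF h𝔛).FullSubcategory) :
    CostructuredArrow (cohI h𝔛).ι X ⥤ CostructuredArrow (cohL h𝔛) X where
  obj g := CostructuredArrow.mk (S := cohL h𝔛) (Y := (cohE h𝔛).obj g.left) g.hom
  map {g g'} φ := CostructuredArrow.homMk ((cohE h𝔛).map φ.left) (CostructuredArrow.w φ)

instance cohFc_equiv (X : (indF h𝔛).FullSubcategory) : (cohFc h𝔛 X).IsEquivalence where
  faithful := ⟨fun {g g'} {φ ψ} e => CostructuredArrow.hom_ext _ _ (ObjectProperty.hom_ext _
    (ObjectProperty.hom_ext _ (congrArg (fun z => z.left.hom) e)))⟩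
  full := ⟨fun {g g'} φ => ⟨CostructuredArrow.homMk (ObjectProperty.homMk (ObjectProperty.homMk φ.left.hom))
    (CostructuredArrow.w φ), rfl⟩⟩
  essSurj := ⟨fun g => ⟨CostructuredArrow.mk (S := (cohI h𝔛).ι)
    (Y := ⟨⟨g.left.obj, ObjectProperty.le_ind _ _ g.left.property⟩, g.left.property⟩)
    (show (cohI h𝔛).ι.obj ⟨⟨g.left.obj, ObjectProperty.le_ind _ _ g.left.property⟩, g.left.property⟩ ⟶ X from g.hom),
    ⟨Iso.refl _⟩⟩⟩

variable (G : (cohF h𝔛).FullSubcategory ⥤ B) [(cohL h𝔛).HasPointwiseLeftKanExtension G]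

theorem isExtension_kan :
    IndExt72.IsExtension (cohI h𝔛) ((cohL h𝔛).pointwiseLeftKanExtension G) := by
  intro X
  let η := (cohL h𝔛).pointwiseLeftKanExtensionUnit G
  let hE := (cohL h𝔛).pointwiseLeftKanExtensionIsPointwiseLeftKanExtension G
  haveI : IsIso η := hE.isIso_hom
  let e : CostructuredArrow.proj (cohI h𝔛).ι X ⋙ (cohI h𝔛).ι ⋙ (cohL h𝔛).pointwiseLeftKanExtension G ≅
      cohFc h𝔛 X ⋙ CostructuredArrow.proj (cohL h𝔛) X ⋙ G :=
    Functor.isoWhiskerLeft (cohFc h𝔛 X) (Functor.isoWhiskerLeft (CostructuredArrow.proj (cohL h𝔛) X) (asIso η).symm)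
  refine ⟨IsColimit.ofIsoColimit
    ((IsColimit.precomposeHomEquiv e _).symm ((hE X).whiskerEquivalence (cohFc h𝔛 X).asEquivalence))
    (Cocone.ext (Iso.refl _) fun g => ?_)⟩
  refine (Category.comp_id _).trans ?_
  change (inv η).app ((cohE h𝔛).obj g.left) ≫ η.app ((cohE h𝔛).obj g.left) ≫ _ = 𝟙 _ ≫ _
  rw [NatIso.isIso_inv_app]
  exact (IsIso.inv_hom_id_assoc (η.app ((cohE h𝔛).obj g.left)) _).trans (Category.id_comp _).symm

variable [Abelian B] [HasFilteredColimitsOfSize.{u, u} B] [AB5OfSize.{u, u} B]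
  [(cohF h𝔛).ContainsZero] [(cohF h𝔛).IsClosedUnderKernels] [(cohF h𝔛).IsClosedUnderCokernels]
  [(cohF h𝔛).IsClosedUnderFiniteProducts] [PreservesFiniteLimits G] [PreservesFiniteColimits G]

theorem preservesFinite_kan :
    PreservesFiniteLimits ((cohL h𝔛).pointwiseLeftKanExtension G) ∧
      PreservesFiniteColimits ((cohL h𝔛).pointwiseLeftKanExtension G) := by
  haveI := isGrothendieckAbelian_modF h𝔛
  let G' := (cohL h𝔛).pointwiseLeftKanExtension G
  have hP := gen_cohI h𝔛
  have hG := isExtension_kan h𝔛 G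
  haveI : PreservesFilteredColimitsOfSize.{u, u} G' := hG.preservesFilteredColimits hP
  haveI : IsIso ((cohL h𝔛).pointwiseLeftKanExtensionUnit G) :=
    ((cohL h𝔛).pointwiseLeftKanExtensionIsPointwiseLeftKanExtension G).isIso_hom
  let u : G ≅ cohL h𝔛 ⋙ G' := asIso ((cohL h𝔛).pointwiseLeftKanExtensionUnit G)
  haveI : G.Additive := Functor.additive_of_preserves_binary_products G
  haveI : (cohL h𝔛).Additive := { map_add := rfl }
  haveI : (cohE h𝔛).Additive := { map_add := rfl }
  haveI : ((cohI h𝔛).ι ⋙ G').Additive :=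
    Functor.additive_of_iso (Functor.isoWhiskerLeft (cohE h𝔛) u : cohE h𝔛 ⋙ G ≅ (cohI h𝔛).ι ⋙ G')
  haveI : G'.Additive := hG.additive hP
  haveI := fun (J : Type u) (_ : SmallCategory J) => hasColimits_ind h𝔛 J
  haveI : HasFilteredColimitsOfSize.{u, u} (indF h𝔛).FullSubcategory := ⟨fun J _ _ => hasColimits_ind h𝔛 J⟩
  haveI : HasFiniteProducts (indF h𝔛).FullSubcategory := inferInstance
  haveI : HasFiniteBiproducts (indF h𝔛).FullSubcategory := HasFiniteBiproducts.of_hasFiniteProducts
  haveI : HasFiniteCoproducts (indF h𝔛).FullSubcategory := inferInstance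
  haveI : HasZeroObject (indF h𝔛).FullSubcategory := inferInstance
  haveI : HasEqualizers (indF h𝔛).FullSubcategory := Preadditive.hasEqualizers_of_hasKernels
  haveI : HasCoequalizers (indF h𝔛).FullSubcategory := Preadditive.hasCoequalizers_of_hasCokernels
  have hK : ∀ ⦃M N : (indF h𝔛).FullSubcategory⦄ (h : M ⟶ N), cohI h𝔛 M → cohI h𝔛 N →
      PreservesLimit (parallelPair h 0) G' := by
    intro M N h hM hN
    let h' : (⟨M.obj, hM⟩ : (cohF h𝔛).FullSubcategory) ⟶ ⟨N.obj, hN⟩ := ObjectProperty.homMk h.hom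
    let c := limit.cone (parallelPair h' 0)
    haveI := (cohF h𝔛).preservesKernels_ι h'
    have hc' : IsLimit ((cohL h𝔛).mapCone c) := isLimitOfReflects (indF h𝔛).ι
      (isLimitOfPreserves (cohF h𝔛).ι (limit.isLimit (parallelPair h' 0)))
    haveI : PreservesLimit (parallelPair h' 0) (cohL h𝔛 ⋙ G') :=
      preservesLimit_of_natIso _ u
    haveI : PreservesLimit (parallelPair h' 0 ⋙ cohL h𝔛) G' :=
      preservesLimit_of_preserves_limit_cone hc'
        (isLimitOfPreserves (cohL h𝔛 ⋙ G') (limit.isLimit (parallelPair h' 0)))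
    exact preservesLimit_of_iso_diagram G' (parallelPair.ext (Iso.refl _) (Iso.refl _)
      ((Category.comp_id _).trans (Category.id_comp h).symm)
      ((Category.comp_id _).trans (Category.id_comp (0 : M ⟶ N)).symm) :
        parallelPair h' 0 ⋙ cohL h𝔛 ≅ parallelPair h 0)
  have hC : ∀ ⦃M N : (indF h𝔛).FullSubcategory⦄ (h : M ⟶ N), cohI h𝔛 M → cohI h𝔛 N →
      PreservesColimit (parallelPair h 0) G' := by
    intro M N h hM hN
    let h' : (⟨M.obj, hM⟩ : (cohF h𝔛).FullSubcategory) ⟶ ⟨N.obj, hN⟩ := ObjectProperty.homMk h.hom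
    haveI := (cohF h𝔛).preservesCokernels_ι h'
    have hc' : IsColimit ((cohL h𝔛).mapCocone (colimit.cocone (parallelPair h' 0))) :=
      isColimitOfReflects (indF h𝔛).ι
        (isColimitOfPreserves (cohF h𝔛).ι (colimit.isColimit (parallelPair h' 0)))
    haveI : PreservesColimit (parallelPair h' 0) (cohL h𝔛 ⋙ G') :=
      preservesColimit_of_natIso _ u
    haveI : PreservesColimit (parallelPair h' 0 ⋙ cohL h𝔛) G' :=
      preservesColimit_of_preserves_colimit_cocone hc'
        (isColimitOfPreserves (cohL h𝔛 ⋙ G') (colimit.isColimit (parallelPair h' 0)))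
    exact preservesColimit_of_iso_diagram G' (parallelPair.ext (Iso.refl _) (Iso.refl _)
      ((Category.comp_id _).trans (Category.id_comp h).symm)
      ((Category.comp_id _).trans (Category.id_comp (0 : M ⟶ N)).symm) :
        parallelPair h' 0 ⋙ cohL h𝔛 ≅ parallelPair h 0)
  haveI : ∀ {X Y : (indF h𝔛).FullSubcategory} (f : X ⟶ Y), PreservesLimit (parallelPair f 0) G' := fun {X Y} f => by
    refine IndExt72.preservesKernel G' hP (fun J _ _ => exact_colim_ind h𝔛 J) (fun J _ _ => ?_) hK f
    haveI : PreservesFiniteLimits (colim : (J ⥤ B) ⥤ B) := HasExactColimitsOfShape.preservesFiniteLimits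
    infer_instance
  haveI : ∀ {X Y : (indF h𝔛).FullSubcategory} (f : X ⟶ Y), PreservesColimit (parallelPair f 0) G' :=
    fun {X Y} f => IndExt72.preservesCokernel G' hP hC f
  exact ⟨Functor.preservesFiniteLimits_of_preservesKernels G',
    Functor.preservesFiniteColimits_of_preservesCokernels G'⟩

end Groth.Agent.FTors27
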