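import Groth.Agent.FTors27.TCoh
import Groth.Agent.FTors27.Equiv
import Groth.Agent.QC70.FiniteType

/-!
Quasi-coherence and coherence of torsion modules along a completion morphism.
-/

set_option autoImplicit false
set_option backward.isDefEq.respectTransparency false
set_option backward.isDefEq.respectTransparency.types false
set_option linter.style.haveILetI false

noncomputable section

universe u

open CategoryTheory CategoryTheory.Limits AlgebraicGeometry TopologicalSpace Opposite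

namespace Groth.Agent.FTors27

open FCompl13 (FS fres sg)
open FBlow13 (Sec res proj isAffineOpen_lvU)

variable {𝔛 : FSch.Sys.{u}} (h𝔛 : 𝔛.IsLocNoethFormal) {Y : Scheme.{u}} (p : ∀ n, 𝔛.X n ⟶ Y)
  (hp : ∀ n, 𝔛.ι n ≫ p (n + 1) = p n) [∀ n, IsClosedImmersion (p n)]
  (I : Y.IdealSheafData) (hker : ∀ n, (p n).ker = I ^ (n + 1))

/-- The direct image as a module on the scheme. -/
abbrev kY (M : FSch.ModF 𝔛 h𝔛.1) : Y.Modules := (κ h𝔛.1 p hp).obj M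

/-- Sections of the direct image as sections on the formal scheme. -/
def toX {M : FSch.ModF 𝔛 h𝔛.1} {V : Y.Opens} (x : Γ(kY h𝔛 p hp M, V)) : FS M (p 0 ⁻¹ᵁ V) := x

/-- Sections on the formal scheme as sections of the direct image. -/
def ofX {M : FSch.ModF 𝔛 h𝔛.1} {V : Y.Opens} (x : FS M (p 0 ⁻¹ᵁ V)) : Γ(kY h𝔛 p hp M, V) := x

variable {M : FSch.ModF 𝔛 h𝔛.1}

theorem toX_res {U V : Y.Opens} (i : V ≤ U) (x : Γ(kY h𝔛 p hp M, U)) :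
    toX h𝔛 p hp (QC70.res (kY h𝔛 p hp M) i x) = fres M (Scheme.Hom.preimage_mono _ i) (toX h𝔛 p hp x) := rfl

theorem toX_smul {V : Y.Opens} (b : Γ(Y, V)) (x : Γ(kY h𝔛 p hp M, V)) :
    toX h𝔛 p hp (b • x) = sg h𝔛.1 p hp V b • toX h𝔛 p hp x := rfl

theorem toX_injective {V : Y.Opens} : Function.Injective (toX h𝔛 p hp (M := M) (V := V)) := fun _ _ e => e

theorem toX_ofX {V : Y.Opens} (x : FS M (p 0 ⁻¹ᵁ V)) : toX h𝔛 p hp (ofX h𝔛 p hp x) = x := rfl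

omit [∀ n, IsClosedImmersion (p n)] in
theorem sg_resO {U V : Y.Opens} (i : V ≤ U) (b : Γ(Y, U)) :
    sg h𝔛.1 p hp V (QC70.resO Y i b) = res 𝔛 h𝔛.1 (Scheme.Hom.preimage_mono _ i) (sg h𝔛.1 p hp U b) :=
  congr($((FSch.schSharp 𝔛 h𝔛.1 p hp).hom.naturality (homOfLE i).op) b)

omit [∀ n, IsClosedImmersion (p n)] in
theorem secBasic_sg {V : Y.Opens} (b : Γ(Y, V)) :
    secBasic (sg h𝔛.1 p hp V b) = p 0 ⁻¹ᵁ Y.basicOpen b := by
  rw [secBasic_eq, FCompl13.proj_sg, Scheme.basicOpen_appLE, inf_eq_right]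
  exact (Scheme.Hom.preimage_mono _ (Y.basicOpen_le b)).trans (FBlow13.lvU_zero (h := h𝔛.1) _).ge

include hker in
theorem exists_rep (n : ℕ) {V : Y.Opens} (hV : IsAffineOpen V) (a : Sec 𝔛 h𝔛.1 (p 0 ⁻¹ᵁ V)) :
    ∃ b : Γ(Y, V), proj 𝔛 h𝔛.1 (p 0 ⁻¹ᵁ V) n (sg h𝔛.1 p hp V b) = proj 𝔛 h𝔛.1 (p 0 ⁻¹ᵁ V) n a := by
  obtain ⟨q, hq⟩ := (FCompl13.truncSec_bijective h𝔛.1 p hp hV I hker n).2 (proj 𝔛 h𝔛.1 (p 0 ⁻¹ᵁ V) n a)
  obtain ⟨b, rfl⟩ := Ideal.Quotient.mk_surjective q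
  exact ⟨b, (FCompl13.proj_sg h𝔛.1 p hp n b).trans hq⟩

theorem isLocAt_push {V : Y.Opens} (hM : TLoc M (p 0 ⁻¹ᵁ V)) : QC70.IsLocAt (kY h𝔛 p hp M) V where
  exists_of f s := by
    have e := secBasic_sg h𝔛 p hp f
    obtain ⟨m, t, ht⟩ := hM.exists_of (sg h𝔛.1 p hp V f) (fres M e.le (toX h𝔛 p hp s))
    refine ⟨m, ofX h𝔛 p hp t, toX_injective h𝔛 p hp ?_⟩
    have h1 := congrArg (fres M e.ge) ht
    rw [FCompl13.fres_fres, FCompl13.fres_smul, map_pow, sec_res_res, FCompl13.fres_fres,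
      FCompl13.fres_self] at h1
    rw [toX_res, toX_smul, toX_ofX, map_pow, sg_resO h𝔛 p hp]
    exact h1
  eq_zero_of f t ht := by
    have e := secBasic_sg h𝔛 p hp f
    obtain ⟨m, hm⟩ := hM.eq_zero_of (sg h𝔛.1 p hp V f) (toX h𝔛 p hp t) (by
      have h1 : toX h𝔛 p hp (QC70.res (kY h𝔛 p hp M) (Y.basicOpen_le f) t) = 0 :=
        congrArg (toX h𝔛 p hp) ht
      have h2 := congrArg (fres M e.le) h1
      rw [toX_res, FCompl13.fres_fres, FCompl13.fres_zero] at h2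
      exact h2)
    exact ⟨m, toX_injective h𝔛 p hp ((toX_smul h𝔛 p hp _ t).trans ((map_pow (sg h𝔛.1 p hp V) f m).symm ▸ hm))⟩

include hker in
theorem tLoc_of_isLocAt_push (ht : FTors.IsTorsF 𝔛 h𝔛.1 M) {V : Y.Opens} (hV : IsAffineOpen V)
    (hM : QC70.IsLocAt (kY h𝔛 p hp M) V) : TLoc M (p 0 ⁻¹ᵁ V) where
  exists_of a s := by
    have hW : IsAffineOpen (p 0 ⁻¹ᵁ V) := hV.preimage (p 0)
    obtain ⟨n, hn⟩ := exists_killed (isAffineOpen_secBasic hW a).isCompact (ht _ s)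
    obtain ⟨b, hb⟩ := exists_rep h𝔛 p hp I hker n hV a
    have h0 : proj 𝔛 h𝔛.1 (p 0 ⁻¹ᵁ V) 0 (sg h𝔛.1 p hp V b) = proj 𝔛 h𝔛.1 (p 0 ⁻¹ᵁ V) 0 a :=
      crn_eq_of_le h𝔛.1 p hp (Nat.zero_le n) b a hb
    have e : secBasic a = p 0 ⁻¹ᵁ Y.basicOpen b := by
      rw [← secBasic_sg h𝔛 p hp b, secBasic_eq, secBasic_eq, h0]
    obtain ⟨m, t, ht'⟩ := hM.exists_of b (ofX h𝔛 p hp (fres M e.ge s))
    refine ⟨m, toX h𝔛 p hp t, ?_⟩
    have h1 := congrArg (toX h𝔛 p hp) ht'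
    rw [toX_res, toX_smul, toX_ofX, map_pow, sg_resO h𝔛 p hp] at h1
    have h2 := congrArg (fres M e.le) h1
    rw [FCompl13.fres_fres, FCompl13.fres_smul, map_pow, sec_res_res, FCompl13.fres_fres,
      FCompl13.fres_self] at h2
    refine h2.trans (hn.smul_congr ?_)
    rw [map_pow, map_pow, FBlow13.proj_res_apply, FBlow13.proj_res_apply, hb]
  eq_zero_of a t h0' := by
    have hW : IsAffineOpen (p 0 ⁻¹ᵁ V) := hV.preimage (p 0)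
    obtain ⟨n, hn⟩ := exists_killed hW.isCompact (ht _ t)
    obtain ⟨b, hb⟩ := exists_rep h𝔛 p hp I hker n hV a
    have h0 : proj 𝔛 h𝔛.1 (p 0 ⁻¹ᵁ V) 0 (sg h𝔛.1 p hp V b) = proj 𝔛 h𝔛.1 (p 0 ⁻¹ᵁ V) 0 a :=
      crn_eq_of_le h𝔛.1 p hp (Nat.zero_le n) b a hb
    have e : secBasic a = p 0 ⁻¹ᵁ Y.basicOpen b := by
      rw [← secBasic_sg h𝔛 p hp b, secBasic_eq, secBasic_eq, h0]
    obtain ⟨m, hm⟩ := hM.eq_zero_of b (ofX h𝔛 p hp t) (toX_injective h𝔛 p hp (by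
      rw [toX_res, toX_ofX, ← FCompl13.fres_fres M (secBasic_le a) e.ge, h0']
      exact FCompl13.fres_zero M _))
    refine ⟨m, ?_⟩
    have h1 := congrArg (toX h𝔛 p hp) hm
    rw [toX_smul, toX_ofX, map_pow] at h1
    refine (hn.smul_congr ?_).trans h1
    rw [map_pow, map_pow, hb]

theorem isQuasicoherent_push (hM : FTors.IsQCT 𝔛 h𝔛.1 M) :
    SheafOfModules.IsQuasicoherent.{u} ((κ h𝔛.1 p hp).obj M) :=
  QC70.isQuasicoherent_of_isLocAt (kY h𝔛 p hp M) (fun V : Y.affineOpens => V.1)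
    (iSup_affineOpens_eq_top Y) (fun V => V.2)
    fun V => isLocAt_push h𝔛 p hp (tLoc_of_qct h𝔛 hM (V.2.preimage (p 0)))

variable [IsLocallyNoetherian Y]

include hker in
theorem isQCT_pull {N : ModSite.Mod Y.sheaf} (hN : FTors.IsTorsZp Y I N)
    (hq : SheafOfModules.IsQuasicoherent.{u} N) :
    FTors.IsQCT 𝔛 h𝔛.1 ((FSch.toSchemeMor 𝔛 h𝔛.1 p hp).pull.obj N) := by
  obtain ⟨ht, hu⟩ := isTorsF_pull h𝔛.1 p hp I hker N hN
  let M := (FSch.toSchemeMor 𝔛 h𝔛.1 p hp).pull.obj N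
  haveI hq' : (kY h𝔛 p hp M).IsQuasicoherent :=
    (SheafOfModules.isQuasicoherent (R := ModSite.ringSh Y.sheaf)).prop_of_iso
      (asIso ((FSch.toSchemeMor 𝔛 h𝔛.1 p hp).adj.unit.app N)) hq
  refine isQCT_of_local h𝔛 ht fun x => ?_
  obtain ⟨V, hV, hxV, -⟩ := exists_isAffineOpen_mem_and_subset (X := Y) (x := (p 0).base x) (U := ⊤) trivial
  exact ⟨p 0 ⁻¹ᵁ V, hxV, hV.preimage (p 0), tLoc_of_isLocAt_push h𝔛 p hp I hker ht hV
    (QC70.isLocAt_of_isQuasicoherent _ hV)⟩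

include hker in
theorem isCoh_push (hM : FTors.IsQCT 𝔛 h𝔛.1 M) (hc : FSch.IsCohF 𝔛 h𝔛.1 M) :
    Coh.IsCoh ((κ h𝔛.1 p hp).obj M) := by
  classical
  haveI hq : (kY h𝔛 p hp M).IsQuasicoherent := isQuasicoherent_push h𝔛 p hp hM
  refine ⟨hq, QC70.isFiniteType_of_finite_sections (kY h𝔛 p hp M) (fun V : Y.affineOpens => V.1)
    (iSup_affineOpens_eq_top Y) (fun V => V.2) fun V => ?_⟩
  have hW : IsAffineOpen (p 0 ⁻¹ᵁ V.1) := V.2.preimage (p 0)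
  obtain ⟨⟨S, hS⟩⟩ := FCompl13.module_finite_coh (h𝔛 := h𝔛) hc hW
  obtain ⟨n, hn⟩ := exists_killed_finite hW.isCompact (fun s : S => (s : FS M (p 0 ⁻¹ᵁ V.1)))
    fun s => hM.1 _ _
  refine ⟨⟨S.image (ofX h𝔛 p hp), eq_top_iff.2 fun x _ => ?_⟩⟩
  suffices h : ∀ y ∈ Submodule.span (Sec 𝔛 h𝔛.1 (p 0 ⁻¹ᵁ V.1)) (S : Set (FS M (p 0 ⁻¹ᵁ V.1))),
      ofX h𝔛 p hp y ∈ Submodule.span Γ(Y, V.1) (S.image (ofX h𝔛 p hp) : Set Γ(kY h𝔛 p hp M, V.1)) from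
    h (toX h𝔛 p hp x) (hS.ge Submodule.mem_top)
  intro y hy
  obtain ⟨c, -, rfl⟩ := Submodule.mem_span_finset.1 hy
  choose b hb using fun s => exists_rep h𝔛 p hp I hker n V.2 (c s)
  have h1 : ofX h𝔛 p hp (∑ s ∈ S, c s • s) = ∑ s ∈ S, b s • ofX h𝔛 p hp s := by
    apply toX_injective h𝔛 p hp
    refine (Finset.sum_congr rfl fun s hs => ?_).trans
      (map_sum (AddMonoidHom.id (FS M (p 0 ⁻¹ᵁ V.1))) (fun s => sg h𝔛.1 p hp V.1 (b s) • s) S).symm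
    exact (hn ⟨s, hs⟩).smul_congr (hb s).symm
  rw [h1]
  exact Submodule.sum_mem _ fun s hs => Submodule.smul_mem _ _
    (Submodule.subset_span (Finset.mem_coe.2 (Finset.mem_image_of_mem _ hs)))

end Groth.Agent.FTors27
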