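import Groth.Agent.FTors27.TGamma
import Groth.Agent.Mod48.ClosedImmImage
import Groth.Agent.QC70.Loc
import Groth.Agent.SiteMod.PushTensor

/-!
Modules killed by an open ideal come from a level, and the localisation property is the one of
quasi-coherent modules there.
-/

set_option autoImplicit false
set_option backward.isDefEq.respectTransparency false
set_option backward.isDefEq.respectTransparency.types false
set_option linter.style.haveILetI false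

noncomputable section

universe u

open CategoryTheory CategoryTheory.Limits AlgebraicGeometry TopologicalSpace Opposite

namespace Groth.Agent.FTors27

open FCompl13 (FS fres secIdeal GenBy QcAt downU)
open FBlow13 (Sec res proj isAffineOpen_lvU)
open SiteMod (ap)

variable {𝔛 : FSch.Sys.{u}} {h : 𝔛.IsFormal}

theorem isClosedEmbedding_gInv (h : 𝔛.IsFormal) (n : ℕ) : Topology.IsClosedEmbedding (𝔛.gInv h n) :=
  (TopCat.homeoOfIso (TopCat.isoOfHomeo (𝔛.levelHomeo h n)).symm).isClosedEmbedding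

theorem isLocallySurjective_oshProj (h𝔛 : 𝔛.IsLocNoethFormal) (n : ℕ) :
    Sheaf.IsLocallySurjective (𝔛.OshProj h𝔛.1 n) := by
  constructor
  intro U s z hz
  obtain ⟨V, hV, hzV, b, hb⟩ := FCompl13.exists_local_lift h𝔛 n U s z hz
  exact ⟨V, homOfLE hV, ⟨b, hb⟩, hzV⟩

/-- A killed module is the direct image of a module on the level. -/
theorem exists_level (h𝔛 : 𝔛.IsLocNoethFormal) (n : ℕ) (N : FSch.ModF 𝔛 h𝔛.1)
    (hN : ∀ (W : (𝔛.X 0).Opens) (x : FS N W), Killed n x) :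
    ∃ P : (𝔛.X n).Modules, Nonempty ((FSch.levelMor 𝔛 h𝔛.1 n).push.obj P ≅ N) :=
  ⟨Mod48.ClosedImm.img (isClosedEmbedding_gInv h𝔛.1 n) (isLocallySurjective_oshProj h𝔛 n) N
      (fun U b hb s => (hN U s).smul_eq hb),
    ⟨Mod48.ClosedImm.pushImgIso (isClosedEmbedding_gInv h𝔛.1 n) (isLocallySurjective_oshProj h𝔛 n) N
      (fun U b hb s => (hN U s).smul_eq hb)⟩⟩

section Ev

variable {n : ℕ} {N : FSch.ModF 𝔛 h} {P : (𝔛.X n).Modules} (e : (FSch.levelMor 𝔛 h n).push.obj P ≅ N)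

/-- Sections on the level as sections of the killed module. -/
def ev {W : (𝔛.X 0).Opens} (x : Γ(P, 𝔛.lvU h n W)) : FS N W :=
  ap e.hom (SiteMod.toPush (FSch.levelMor 𝔛 h n) P (W := W) x)

/-- Sections of the killed module as sections on the level. -/
def evInv {W : (𝔛.X 0).Opens} (y : FS N W) : Γ(P, 𝔛.lvU h n W) :=
  SiteMod.ofPush (FSch.levelMor 𝔛 h n) P (ap e.inv y)

theorem ev_evInv {W : (𝔛.X 0).Opens} (y : FS N W) : ev e (evInv e y) = y :=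
  (SiteMod.ap_comp e.inv e.hom y).symm.trans (congrArg (fun φ => ap φ y) e.inv_hom_id)

theorem evInv_ev {W : (𝔛.X 0).Opens} (x : Γ(P, 𝔛.lvU h n W)) : evInv e (ev e x) = x :=
  congrArg (SiteMod.ofPush (FSch.levelMor 𝔛 h n) P)
    ((SiteMod.ap_comp e.hom e.inv _).symm.trans (congrArg (fun φ => ap φ _) e.hom_inv_id))

theorem ev_injective {W : (𝔛.X 0).Opens} : Function.Injective (ev e (W := W)) :=
  Function.LeftInverse.injective (evInv_ev e)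

theorem ev_zero {W : (𝔛.X 0).Opens} : ev e (0 : Γ(P, 𝔛.lvU h n W)) = 0 := map_zero _

theorem ev_smul {W : (𝔛.X 0).Opens} (a : Sec 𝔛 h W) (x : Γ(P, 𝔛.lvU h n W)) :
    ev e (proj 𝔛 h W n a • x) = a • ev e x :=
  (FCompl13.apLin e.hom W).map_smul a (SiteMod.toPush (FSch.levelMor 𝔛 h n) P (W := W) x)

theorem fres_ev {U W : (𝔛.X 0).Opens} (i : W ≤ U) (x : Γ(P, 𝔛.lvU h n U)) :
    fres N i (ev e x) = ev e (QC70.res P (FBlow.lvU_mono 𝔛 h n i) x) :=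
  FCompl13.fres_ap e.hom i _

end Ev

variable (h𝔛 : 𝔛.IsLocNoethFormal) {n : ℕ} {N : FSch.ModF 𝔛 h𝔛.1} {P : (𝔛.X n).Modules}
  (e : (FSch.levelMor 𝔛 h𝔛.1 n).push.obj P ≅ N)

include e in
theorem tLoc_of_isLocAt {V : (𝔛.X 0).Opens} (hP : QC70.IsLocAt P (𝔛.lvU h𝔛.1 n V)) : TLoc N V where
  exists_of a s := by
    let f := proj 𝔛 h𝔛.1 V n a
    obtain ⟨m, t, ht⟩ := hP.exists_of f (QC70.res P (lvU_secBasic a n).ge (evInv e s))
    refine ⟨m, ev e t, ?_⟩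
    conv_rhs => rw [← ev_evInv e s]
    rw [fres_ev, ← map_pow, ← ev_smul, FBlow13.proj_res_apply, map_pow, map_pow]
    refine congrArg (ev e) ?_
    have h1 := congrArg (QC70.res P (lvU_secBasic a n).le) ht
    rw [QC70.res_res, QC70.res_smul, QC70.resO_pow, QC70.resO_resO, QC70.res_res, QC70.res_self] at h1
    exact h1
  eq_zero_of a t ht := by
    rw [← ev_evInv e t, fres_ev] at ht
    have h1 : QC70.res P (FBlow.lvU_mono 𝔛 h𝔛.1 n (secBasic_le a)) (evInv e t) = 0 :=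
      ev_injective e (ht.trans (ev_zero e).symm)
    have h2 := congrArg (QC70.res P (lvU_secBasic a n).ge) h1
    rw [QC70.res_res, QC70.res_zero] at h2
    obtain ⟨m, hm⟩ := hP.eq_zero_of (proj 𝔛 h𝔛.1 V n a) (evInv e t) h2
    refine ⟨m, ?_⟩
    rw [← ev_evInv e t, ← ev_smul, map_pow, hm, ev_zero]

include e in
theorem isLocAt_of_tLoc {V : (𝔛.X 0).Opens} (hV : IsAffineOpen V) (hN : TLoc N V) :
    QC70.IsLocAt P (𝔛.lvU h𝔛.1 n V) where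
  exists_of f s := by
    obtain ⟨a, rfl⟩ := ((FCompl13.secRing h𝔛 hV).2.2 n).1 f
    obtain ⟨m, t, ht⟩ := hN.exists_of a (ev e (QC70.res P (lvU_secBasic a n).le s))
    refine ⟨m, evInv e t, ?_⟩
    rw [← ev_evInv e t, fres_ev, ← map_pow, ← ev_smul, FBlow13.proj_res_apply, map_pow, map_pow] at ht
    have h1 := congrArg (QC70.res P (lvU_secBasic a n).ge) (ev_injective e ht)
    rw [QC70.res_res, QC70.res_smul, QC70.resO_pow, QC70.resO_resO, QC70.res_res, QC70.res_self] at h1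
    exact h1
  eq_zero_of f t ht := by
    obtain ⟨a, rfl⟩ := ((FCompl13.secRing h𝔛 hV).2.2 n).1 f
    have h1 := congrArg (QC70.res P (lvU_secBasic a n).le) ht
    rw [QC70.res_res, QC70.res_zero] at h1
    obtain ⟨m, hm⟩ := hN.eq_zero_of a (ev e t) (by rw [fres_ev, h1, ev_zero])
    refine ⟨m, ev_injective e ?_⟩
    rw [← map_pow, ev_smul, hm, ev_zero]

include e in
theorem isQuasicoherent_level (hN : ∀ x : 𝔛.X 0, ∃ V : (𝔛.X 0).Opens, x ∈ V ∧ IsAffineOpen V ∧ TLoc N V) :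
    P.IsQuasicoherent := by
  choose V hxV hV hT using hN
  refine QC70.isQuasicoherent_of_isLocAt P (fun x : 𝔛.X 0 => 𝔛.lvU h𝔛.1 n (V x)) ?_
    (fun x => isAffineOpen_lvU (h := h𝔛.1) (hV x) n) fun x => isLocAt_of_tLoc h𝔛 e (hV x) (hT x)
  refine IsOpenCover.mk (top_le_iff.1 fun z _ => Opens.mem_iSup.2 ?_)
  obtain ⟨x, rfl⟩ := 𝔛.toX_surjective h𝔛.1 n z
  exact ⟨x, (FBlow13.toX_preimage_lvU (h := h𝔛.1) n (V x)).ge (hxV x)⟩

include e in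
theorem tLoc_level (hN : ∀ x : 𝔛.X 0, ∃ V : (𝔛.X 0).Opens, x ∈ V ∧ IsAffineOpen V ∧ TLoc N V)
    {V : (𝔛.X 0).Opens} (hV : IsAffineOpen V) : TLoc N V := by
  haveI := isQuasicoherent_level h𝔛 e hN
  exact tLoc_of_isLocAt h𝔛 e (QC70.isLocAt_of_isQuasicoherent P (isAffineOpen_lvU (h := h𝔛.1) hV n))

/-- The localisation property of a torsion module passes from a cover to all affine opens. -/
theorem tLoc_of_local {F : FSch.ModF 𝔛 h𝔛.1} (ht : FTors.IsTorsF 𝔛 h𝔛.1 F)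
    (hF : ∀ x : 𝔛.X 0, ∃ V : (𝔛.X 0).Opens, x ∈ V ∧ IsAffineOpen V ∧ TLoc F V)
    {V : (𝔛.X 0).Opens} (hV : IsAffineOpen V) : TLoc F V := by
  have key : ∀ n, TLoc (kN n F) V := fun n => by
    obtain ⟨P, ⟨e⟩⟩ := exists_level h𝔛 n (kN n F) fun _ x => killed_kN x
    refine tLoc_level h𝔛 e (fun x => ?_) hV
    obtain ⟨W, hxW, hW, hT⟩ := hF x
    exact ⟨W, hxW, hW, tLoc_kN (h𝔛 := h𝔛) hW hT n⟩
  refine ⟨fun a s => ?_, fun a t h0 => ?_⟩
  · obtain ⟨n, hn⟩ := exists_killed (isAffineOpen_secBasic hV a).isCompact (ht _ s)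
    obtain ⟨y, rfl⟩ := exists_ap_kι hn
    obtain ⟨m, t, h1⟩ := (key n).exists_of a y
    refine ⟨m, ap (kι n F) t, ?_⟩
    exact (FCompl13.fres_ap (kι n F) _ t).trans ((congrArg (ap (kι n F)) h1).trans
      ((FCompl13.apLin (kι n F) _).map_smul _ y))
  · obtain ⟨n, hn⟩ := exists_killed hV.isCompact (ht _ t)
    obtain ⟨y, rfl⟩ := exists_ap_kι hn
    obtain ⟨m, hm⟩ := (key n).eq_zero_of a y (FCompl13.ap_injective (kι n F)
      (((FCompl13.fres_ap (kι n F) _ y).symm.trans h0).trans (map_zero (FCompl13.apLin (kι n F) _)).symm))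
    exact ⟨m, ((FCompl13.apLin (kι n F) V).map_smul _ y).symm.trans ((congrArg (ap (kι n F)) hm).trans
      (map_zero (FCompl13.apLin (kι n F) V)))⟩

theorem tLoc_of_qct {F : FSch.ModF 𝔛 h𝔛.1} (hF : FTors.IsQCT 𝔛 h𝔛.1 F) {V : (𝔛.X 0).Opens}
    (hV : IsAffineOpen V) : TLoc F V := by
  haveI := hF.2
  refine tLoc_of_local h𝔛 hF.1 (fun x => ?_) hV
  obtain ⟨W, hxW, -, hW⟩ := FCompl13.exists_qcAt (h𝔛 := h𝔛) (F := F) (W := ⊤) (x := x) trivial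
  exact ⟨W, hxW, hW.1, tLoc_of_qcAt hW hF.1⟩

theorem isQCT_of_local {F : FSch.ModF 𝔛 h𝔛.1} (ht : FTors.IsTorsF 𝔛 h𝔛.1 F)
    (hF : ∀ x : 𝔛.X 0, ∃ V : (𝔛.X 0).Opens, x ∈ V ∧ IsAffineOpen V ∧ TLoc F V) :
    FTors.IsQCT 𝔛 h𝔛.1 F :=
  ⟨ht, FCompl13.isQuasicoherent_of_qcAt (h𝔛 := h𝔛) fun x => by
    obtain ⟨V, hxV, hV, hT⟩ := hF x
    exact ⟨V, hxV, qcAt_of_tLoc hV hT ht⟩⟩

theorem isQCT_of_tLoc {F : FSch.ModF 𝔛 h𝔛.1} (ht : FTors.IsTorsF 𝔛 h𝔛.1 F)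
    (hF : ∀ V : (𝔛.X 0).Opens, IsAffineOpen V → TLoc F V) : FTors.IsQCT 𝔛 h𝔛.1 F :=
  isQCT_of_local h𝔛 ht fun x => by
    obtain ⟨V, hV, hxV, -⟩ := exists_isAffineOpen_mem_and_subset (X := 𝔛.X 0) (x := x) (U := ⊤) trivial
    exact ⟨V, hxV, hV, hF V hV⟩

theorem qcAt_of_qct {F : FSch.ModF 𝔛 h𝔛.1} (hF : FTors.IsQCT 𝔛 h𝔛.1 F) {V : (𝔛.X 0).Opens}
    (hV : IsAffineOpen V) : QcAt h𝔛 F V :=
  qcAt_of_tLoc hV (tLoc_of_qct h𝔛 hF hV) hF.1

theorem isQCT_gammaT {M : FSch.ModF 𝔛 h𝔛.1} [SheafOfModules.IsQuasicoherent.{u} M] :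
    FTors.IsQCT 𝔛 h𝔛.1 ((FTors.gammaT 𝔛 h𝔛.1).obj M) :=
  ⟨isTors_gamma _ M, FCompl13.isQuasicoherent_of_qcAt (h𝔛 := h𝔛) fun x => by
    obtain ⟨V, hxV, -, hV⟩ := FCompl13.exists_qcAt (h𝔛 := h𝔛) (F := M) (W := ⊤) (x := x) trivial
    exact ⟨V, hxV, qcAt_gammaT hV⟩⟩

theorem isQCT_kN {F : FSch.ModF 𝔛 h𝔛.1} (hF : FTors.IsQCT 𝔛 h𝔛.1 F) (n : ℕ) :
    FTors.IsQCT 𝔛 h𝔛.1 (kN n F) :=
  isQCT_of_tLoc h𝔛 (isTorsF_kN n F) fun _ hV => tLoc_kN (h𝔛 := h𝔛) hV (tLoc_of_qct h𝔛 hF hV) n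

end Groth.Agent.FTors27
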