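import Groth.Agent.FTors27.TBase

/-!
Torsion modules on a locally Noetherian formal scheme: the localisation property on basic opens and
its equivalence with generation and finite relations.
-/

set_option autoImplicit false
set_option backward.isDefEq.respectTransparency false
set_option backward.isDefEq.respectTransparency.types false
set_option linter.style.haveILetI false

noncomputable section

universe u

open CategoryTheory CategoryTheory.Limits AlgebraicGeometry TopologicalSpace Opposite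

namespace Groth.Agent.FTors27

open FCompl13 (FS fres secIdeal vres vproj GenBy QcAt relSub mem_relSub)
open FBlow13 (Sec res proj isAffineOpen_lvU)

variable {𝔛 : FSch.Sys.{u}} {h : 𝔛.IsFormal}

/-- Sections over the basic opens of `V` are fractions of sections over `V`. -/
structure TLoc (F : FSch.ModF 𝔛 h) (V : (𝔛.X 0).Opens) : Prop where
  exists_of : ∀ (a : Sec 𝔛 h V) (s : FS F (secBasic a)),
    ∃ (m : ℕ) (t : FS F V), fres F (secBasic_le a) t = res 𝔛 h (secBasic_le a) a ^ m • s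
  eq_zero_of : ∀ (a : Sec 𝔛 h V) (t : FS F V), fres F (secBasic_le a) t = 0 → ∃ m : ℕ, a ^ m • t = 0

theorem fres_lincomb (F : FSch.ModF 𝔛 h) {U V : (𝔛.X 0).Opens} (i : V ≤ U) {ι : Type*} (S : Finset ι)
    (c : ι → Sec 𝔛 h U) (y : ι → FS F U) :
    fres F i (∑ t ∈ S, c t • y t) = ∑ t ∈ S, res 𝔛 h i (c t) • fres F i (y t) := by
  rw [FCompl13.fres_sum]
  exact Finset.sum_congr rfl fun t _ => FCompl13.fres_smul F i _ _

theorem fres_pow_smul (F : FSch.ModF 𝔛 h) {U V : (𝔛.X 0).Opens} (i : V ≤ U) (a : Sec 𝔛 h U) (m : ℕ)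
    (y : FS F U) : fres F i (a ^ m • y) = res 𝔛 h i a ^ m • fres F i y := by
  rw [FCompl13.fres_smul, map_pow]

theorem exists_pow_smul_ext {V : (𝔛.X 0).Opens} (hV : IsAffineOpen V) (a : Sec 𝔛 h V) (n : ℕ) {ι : Type*}
    [Finite ι] (e : ι → Sec 𝔛 h (secBasic a)) :
    ∃ (m : ℕ) (b : ι → Γ(𝔛.X n, 𝔛.lvU h n V)), ∀ t,
      QC70.resO (𝔛.X n) (FBlow.lvU_mono 𝔛 h n (secBasic_le a)) (b t) =
        proj 𝔛 h (secBasic a) n (res 𝔛 h (secBasic_le a) a ^ m * e t) := by
  have hle : (𝔛.X n).basicOpen (proj 𝔛 h V n a) ≤ 𝔛.lvU h n (secBasic a) := (lvU_secBasic a n).ge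
  obtain ⟨m, b, hb⟩ := FCompl13.exists_pow_smul_ext (isAffineOpen_lvU (h := h) hV n) (proj 𝔛 h V n a)
    fun t => QC70.resO (𝔛.X n) hle (proj 𝔛 h (secBasic a) n (e t))
  refine ⟨m, b, fun t => ?_⟩
  have h1 := congrArg (QC70.resO (𝔛.X n) (lvU_secBasic a n).le) (hb t)
  simp only [map_mul, map_pow, QC70.resO_resO, QC70.resO_self] at h1 ⊢
  rw [FBlow13.proj_res_apply]
  exact h1

variable (h𝔛 : 𝔛.IsLocNoethFormal)

theorem exists_sec_ext {V : (𝔛.X 0).Opens} (hV : IsAffineOpen V) (a : Sec 𝔛 h𝔛.1 V) (n : ℕ) {ι : Type*}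
    [Finite ι] (e : ι → Sec 𝔛 h𝔛.1 (secBasic a)) :
    ∃ (m : ℕ) (c : ι → Sec 𝔛 h𝔛.1 V), ∀ t, proj 𝔛 h𝔛.1 (secBasic a) n (res 𝔛 h𝔛.1 (secBasic_le a) (c t)) =
      proj 𝔛 h𝔛.1 (secBasic a) n (res 𝔛 h𝔛.1 (secBasic_le a) a ^ m * e t) := by
  obtain ⟨m, b, hb⟩ := exists_pow_smul_ext hV a n e
  choose c hc using fun t => ((FCompl13.secRing h𝔛 hV).2.2 n).1 (b t)
  refine ⟨m, c, fun t => ?_⟩
  rw [FBlow13.proj_res_apply, hc t]
  exact hb t

variable {h𝔛}

/-- Generation and finite relations give the localisation property on a torsion module. -/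
theorem tLoc_of_qcAt {F : FSch.ModF 𝔛 h𝔛.1} {V : (𝔛.X 0).Opens} (hF : QcAt h𝔛 F V)
    (ht : FTors.IsTorsF 𝔛 h𝔛.1 F) : TLoc F V where
  exists_of a s := by
    classical
    have hD : IsAffineOpen (secBasic a) := isAffineOpen_secBasic hF.1 a
    choose W hW hzW hm using fun z : secBasic a =>
      hF.2.1 (secBasic a) (secBasic_le a) s z.1 z.2
    choose S d hd using fun z => FCompl13.fres_mem_span_finset _ (hm z)
    obtain ⟨Z, hZ⟩ := hD.isCompact.elim_finite_subcover (fun z : secBasic a => (W z : Set (𝔛.X 0)))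
      (fun z => (W z).isOpen) (fun z hz => Set.mem_iUnion.2 ⟨⟨z, hz⟩, hzW _⟩)
    let T : Finset (FS F V) := Z.biUnion S
    have hspan := (hF.anti hD (secBasic_le a)).mem_span s (T.image (fres F (secBasic_le a))) fun z hz => by
      obtain ⟨w, hw, hzw⟩ := Set.mem_iUnion₂.1 (hZ hz)
      refine ⟨W w, hW w, hzw, ?_⟩
      rw [hd w]
      refine Submodule.sum_mem _ fun y _ => Submodule.smul_mem _ _ (Submodule.subset_span
        ⟨⟨_, Finset.mem_image_of_mem _ (Finset.mem_biUnion.2 ⟨w, hw, y.2⟩)⟩, ?_⟩)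
      exact FCompl13.fres_fres F _ _ _
    rw [Finset.coe_image] at hspan
    have hspan' : s ∈ Submodule.span (Sec 𝔛 h𝔛.1 (secBasic a))
        (Set.range fun y : T => fres F (secBasic_le a) y.1) := by
      refine Submodule.span_mono ?_ hspan
      rintro _ ⟨y, hy, rfl⟩
      exact ⟨⟨y, hy⟩, rfl⟩
    obtain ⟨e, he⟩ := (Submodule.mem_span_range_iff_exists_fun _).1 hspan'
    obtain ⟨n, hn⟩ := exists_killed_finite hF.1.isCompact (fun y : T => y.1) fun y => ht _ _
    obtain ⟨m, c, hc⟩ := exists_sec_ext h𝔛 hF.1 a n e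
    refine ⟨m, ∑ y, c y • y.1, ?_⟩
    rw [fres_lincomb, ← he, Finset.smul_sum]
    refine Finset.sum_congr rfl fun y _ => ?_
    rw [smul_smul]
    exact ((hn y).fres _).smul_congr (hc y)
  eq_zero_of a t h0 := by
    classical
    obtain ⟨n, hn⟩ := exists_killed hF.1.isCompact (ht _ t)
    obtain ⟨κ, _, r, hr, hgen⟩ := hF.rel (ι := PUnit.{u + 1}) fun _ => t
    have h1 := hgen (secBasic a) (secBasic_le a) (isAffineOpen_secBasic hF.1 a) (fun _ => 1) (by
      rw [Fintype.sum_unique, one_smul, h0])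
    have h2 := FCompl13.map_mem_span (proj 𝔛 h𝔛.1 (secBasic a) n).hom h1
    rw [← Set.range_comp] at h2
    have h3 := FCompl13.map_mem_span
      (FCompl13.rhO (𝔛.X n) (lvU_secBasic a n).ge) h2
    rw [← Set.range_comp] at h3
    obtain ⟨M, hM⟩ := FCompl13.exists_pow_smul_mem_span (isAffineOpen_lvU (h := h𝔛.1) hF.1 n)
      (proj 𝔛 h𝔛.1 V n a) (ι := PUnit.{u + 1}) (fun s _ => proj 𝔛 h𝔛.1 V n (r s PUnit.unit)) (fun _ => 1) (by
        simp only [Function.comp_def, vres, map_one, FBlow13.proj_res_apply] at h3 ⊢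
        simp only [FCompl13.rhO, QC70.resO_resO] at h3 ⊢
        exact h3)
    obtain ⟨f, hf⟩ := (Submodule.mem_span_range_iff_exists_fun _).1 hM
    choose e he using fun s => ((FCompl13.secRing h𝔛 hF.1).2.2 n).1 (f s)
    refine ⟨M, ?_⟩
    rw [hn.smul_congr (b := ∑ s, e s * r s PUnit.unit) ?_, Finset.sum_smul]
    · refine Finset.sum_eq_zero fun s _ => ?_
      rw [mul_smul]
      have := hr s
      rw [Fintype.sum_unique] at this
      rw [show r s PUnit.unit • t = 0 from this, smul_zero]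
    · have h4 := congrFun hf PUnit.unit
      simp only [Finset.sum_apply, Pi.smul_apply, smul_eq_mul, mul_one] at h4
      simp only [map_pow, map_sum, map_mul, he, h4]

/-- A vector with entries in the image of an ideal is spanned by images of unit vectors. -/
theorem mem_span_single {A B : Type*} [CommRing A] [CommRing B] (φ : A →+* B) (J : Ideal A) {ι : Type*}
    [Fintype ι] [DecidableEq ι] (v : ι → B) (hv : ∀ t, v t ∈ J.map φ) :
    v ∈ Submodule.span B {w | ∃ t, ∃ b ∈ J, w = fun l => φ (Pi.single (M := fun _ : ι => A) t b l)} := by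
  rw [← Finset.univ_sum_single v]
  refine Submodule.sum_mem _ fun t _ => ?_
  have ht := hv t
  generalize v t = x at ht
  induction ht using Submodule.span_induction with
  | mem y hy =>
    obtain ⟨b, hb, rfl⟩ := hy
    refine Submodule.subset_span ⟨t, b, hb, funext fun l => ?_⟩
    by_cases hl : l = t
    · subst hl; simp
    · simp [hl]
  | zero => rw [Pi.single_zero]; exact zero_mem _
  | add y z _ _ hy hz => rw [Pi.single_add]; exact add_mem hy hz
  | smul c y _ hy =>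
    rw [Pi.single_smul']
    exact Submodule.smul_mem _ _ hy

/-- The localisation property gives generation and finite relations on a torsion module. -/
theorem qcAt_of_tLoc {F : FSch.ModF 𝔛 h𝔛.1} {V : (𝔛.X 0).Opens} (hV : IsAffineOpen V) (hF : TLoc F V)
    (ht : FTors.IsTorsF 𝔛 h𝔛.1 F) : QcAt h𝔛 F V := by
  classical
  refine ⟨hV, fun W i x z hz => ?_, fun ι _ y => FCompl13.vecFT_of_local y fun x hx => ?_⟩
  · obtain ⟨a, haW, hza⟩ := exists_secBasic h𝔛 hV (i hz) hz
    obtain ⟨m, t, htx⟩ := hF.exists_of a (fres F haW x)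
    refine ⟨secBasic a, haW, hza, ?_⟩
    refine (Submodule.smul_mem_iff_of_isUnit _ ((isUnit_res h𝔛 hV a).pow m)).1 ?_
    rw [← htx]
    exact Submodule.subset_span ⟨t, rfl⟩
  refine ⟨V, le_rfl, hV, hx, fun W j c hc z hz => ?_⟩
  obtain ⟨n, hn⟩ := exists_killed_finite hV.isCompact y fun t => ht _ _
  obtain ⟨a, haW, hza⟩ := exists_secBasic h𝔛 hV (j hz) hz
  obtain ⟨k, c', hc'⟩ := exists_sec_ext h𝔛 hV a n fun t => res 𝔛 h𝔛.1 haW (c t)
  rw [mem_relSub] at hc
  have h0 : fres F (secBasic_le a) (∑ t, c' t • y t) = 0 := by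
    have h1 := congrArg (res 𝔛 h𝔛.1 (secBasic_le a) a ^ k • ·) (congrArg (fres F haW) hc)
    simp only [FCompl13.fres_zero, smul_zero] at h1
    refine Eq.trans ?_ h1
    rw [fres_lincomb, fres_lincomb, Finset.smul_sum]
    refine Finset.sum_congr rfl fun t _ => ?_
    rw [smul_smul, FCompl13.fres_fres]
    exact ((hn t).fres _).smul_congr (hc' t)
  obtain ⟨m, hm⟩ := hF.eq_zero_of a _ h0
  have hrel : (fun t => a ^ m * c' t) ∈ relSub F y V le_rfl := by
    rw [mem_relSub]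
    simp only [FCompl13.fres_self, mul_smul, ← Finset.smul_sum, hm]
  refine ⟨secBasic a, haW, hza,
    (Submodule.smul_mem_iff_of_isUnit _ ((isUnit_res h𝔛 hV a).pow (m + k))).1 ?_⟩
  let D := secBasic a
  let u := res 𝔛 h𝔛.1 (secBasic_le a) a
  let δ : ι → Sec 𝔛 h𝔛.1 D := fun t => u ^ (m + k) * res 𝔛 h𝔛.1 haW (c t) -
    res 𝔛 h𝔛.1 (secBasic_le a) (a ^ m * c' t)
  have hδ : ∀ t, δ t ∈ (secIdeal 𝔛 h𝔛.1 V ^ (n + 1)).map (res 𝔛 h𝔛.1 (secBasic_le a)).hom := fun t => by
    rw [FCompl13.secIdeal_pow_map_res h𝔛 hV (isAffineOpen_secBasic hV a) (secBasic_le a),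
      ← mem_ker_proj_iff h𝔛 (isAffineOpen_secBasic hV a)]
    simp only [δ, u, D, map_sub, map_mul, map_pow, hc' t, pow_add, mul_assoc, sub_self]
  have hd : δ ∈ Submodule.span (Sec 𝔛 h𝔛.1 D) (vres h𝔛.1 (secBasic_le a) '' (relSub F y V le_rfl : Set _)) := by
    refine Submodule.span_mono ?_ (mem_span_single _ _ δ hδ)
    rintro _ ⟨t, b, hb, rfl⟩
    refine ⟨Pi.single t b, ?_, rfl⟩
    rw [SetLike.mem_coe, mem_relSub, Finset.sum_eq_single t (fun l _ hl => by simp [hl])
      (fun h => (h (Finset.mem_univ t)).elim), Pi.single_eq_same, FCompl13.fres_self]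
    exact (hn t).smul_eq ((mem_ker_proj_iff h𝔛 hV n b).2 hb)
  have he : u ^ (m + k) • vres h𝔛.1 haW c = δ + vres h𝔛.1 (secBasic_le a) fun t => a ^ m * c' t := by
    funext t
    simp only [δ, Pi.smul_apply, Pi.add_apply, smul_eq_mul, vres, sub_add_cancel]
  rw [he]
  exact Submodule.add_mem _ hd (Submodule.subset_span ⟨_, hrel, rfl⟩)

end Groth.Agent.FTors27
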