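import Groth.Agent.FTors27.TExact
import Groth.Agent.FBlow13.Sections

/-!
Quasi-coherent torsion modules on a Noetherian formal scheme: sections over arbitrary opens and direct
images.
-/

set_option autoImplicit false
set_option backward.isDefEq.respectTransparency false
set_option backward.isDefEq.respectTransparency.types false
set_option linter.style.haveILetI false

noncomputable section

universe u

open CategoryTheory CategoryTheory.Limits AlgebraicGeometry TopologicalSpace Opposite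

namespace Groth.Agent.FTors27

open FCompl13 (FS fres)
open FBlow13 (Sec res proj lvU_zero)
open SiteMod (ap)

variable {𝔛 : FSch.Sys.{u}} (h𝔛 : 𝔛.IsLocNoethFormal) [NoetherianSpace (𝔛.X 0)]
  {M : FSch.ModF 𝔛 h𝔛.1} (hM : FTors.IsQCT 𝔛 h𝔛.1 M)

theorem exists_affine_finset (U : (𝔛.X 0).Opens) :
    ∃ (ι : Type u) (_ : Fintype ι) (D : ι → (𝔛.X 0).Opens), (∀ j, IsAffineOpen (D j)) ∧ (∀ j, D j ≤ U) ∧
      ∀ x ∈ U, ∃ j, x ∈ D j := by
  classical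
  choose A hA hxA hAU using fun z : U => exists_isAffineOpen_mem_and_subset (X := 𝔛.X 0) z.2
  obtain ⟨J, hJ⟩ := (NoetherianSpace.isCompact (U : Set (𝔛.X 0))).elim_finite_subcover
    (fun z : U => (A z : Set (𝔛.X 0))) (fun z => (A z).isOpen) fun z hz => Set.mem_iUnion.2 ⟨⟨z, hz⟩, hxA _⟩
  refine ⟨J, inferInstance, fun j => A j.1, fun j => hA _, fun j => hAU _, fun x hx => ?_⟩
  obtain ⟨z, hz, hxz⟩ := Set.mem_iUnion₂.1 (hJ hx)
  exact ⟨⟨z, hz⟩, hxz⟩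

include hM in
theorem eq_zero_of_open {U : (𝔛.X 0).Opens} (a : Sec 𝔛 h𝔛.1 U) (t : FS M U)
    (ht : fres M (secBasic_le a) t = 0) : ∃ m : ℕ, a ^ m • t = 0 := by
  classical
  obtain ⟨ι, _, D, hD, hDU, hcov⟩ := exists_affine_finset (𝔛 := 𝔛) U
  have h1 : ∀ j, ∃ m : ℕ, res 𝔛 h𝔛.1 (hDU j) a ^ m • fres M (hDU j) t = 0 := fun j => by
    refine (tLoc_of_qct h𝔛 hM (hD j)).eq_zero_of _ _ ?_
    have hle : secBasic (res 𝔛 h𝔛.1 (hDU j) a) ≤ secBasic a := (secBasic_res _ _).trans_le inf_le_right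
    rw [FCompl13.fres_fres, ← FCompl13.fres_fres M (secBasic_le a) hle, ht, FCompl13.fres_zero]
  choose m hm using h1
  refine ⟨Finset.univ.sup m, FCompl13.fs_ext M _ _ fun x hx => ?_⟩
  obtain ⟨j, hj⟩ := hcov x hx
  refine ⟨D j, hDU j, hj, ?_⟩
  rw [FCompl13.fres_zero, fres_pow_smul, ← Nat.sub_add_cancel (Finset.le_sup (f := m) (Finset.mem_univ j)),
    pow_add, mul_smul, hm, smul_zero]

include hM in
theorem exists_of_open {U : (𝔛.X 0).Opens} (a : Sec 𝔛 h𝔛.1 U) (s : FS M (secBasic a)) :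
    ∃ (m : ℕ) (t : FS M U), fres M (secBasic_le a) t = res 𝔛 h𝔛.1 (secBasic_le a) a ^ m • s := by
  classical
  obtain ⟨ι, _, D, hD, hDU, hcov⟩ := exists_affine_finset (𝔛 := 𝔛) U
  let a' : ∀ j, Sec 𝔛 h𝔛.1 (D j) := fun j => res 𝔛 h𝔛.1 (hDU j) a
  have hB : ∀ j, secBasic (a' j) ≤ secBasic a := fun j => (secBasic_res _ _).trans_le inf_le_right
  have h1 : ∀ j, ∃ (n : ℕ) (y : FS M (D j)), fres M (secBasic_le (a' j)) y =
      res 𝔛 h𝔛.1 (secBasic_le (a' j)) (a' j) ^ n • fres M (hB j) s :=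
    fun j => (tLoc_of_qct h𝔛 hM (hD j)).exists_of (a' j) _
  choose n y hy using h1
  let N := Finset.univ.sup n
  let z : ∀ j, FS M (D j) := fun j => a' j ^ (N - n j) • y j
  have hz : ∀ j, fres M (secBasic_le (a' j)) (z j) =
      res 𝔛 h𝔛.1 (secBasic_le (a' j)) (a' j) ^ N • fres M (hB j) s := fun j => by
    simp only [z]
    rw [fres_pow_smul, hy, smul_smul, ← pow_add, Nat.sub_add_cancel (Finset.le_sup (f := n) (Finset.mem_univ j))]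
  have hov : ∀ j k, ∃ m : ℕ, res 𝔛 h𝔛.1 ((inf_le_left : D j ⊓ D k ≤ D j).trans (hDU j)) a ^ m •
      (fres M (inf_le_left : D j ⊓ D k ≤ D j) (z j) - fres M (inf_le_right : D j ⊓ D k ≤ D k) (z k)) = 0 := by
    intro j k
    let O := D j ⊓ D k
    let aO := res 𝔛 h𝔛.1 ((inf_le_left : O ≤ D j).trans (hDU j)) a
    refine eq_zero_of_open h𝔛 hM aO _ ?_
    have hj : secBasic aO ≤ secBasic (a' j) := by
      simp only [aO, a', secBasic_res]; exact inf_le_inf_right _ inf_le_left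
    have hk : secBasic aO ≤ secBasic (a' k) := by
      simp only [aO, a', secBasic_res]; exact inf_le_inf_right _ inf_le_right
    rw [show fres M (secBasic_le aO) (fres M (inf_le_left : O ≤ D j) (z j) -
        fres M (inf_le_right : O ≤ D k) (z k)) =
      fres M (secBasic_le aO) (fres M (inf_le_left : O ≤ D j) (z j)) -
        fres M (secBasic_le aO) (fres M (inf_le_right : O ≤ D k) (z k)) from
          map_sub ((Mod48.pre M).map _).hom _ _, sub_eq_zero, FCompl13.fres_fres, FCompl13.fres_fres,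
      ← FCompl13.fres_fres M (secBasic_le (a' j)) hj, ← FCompl13.fres_fres M (secBasic_le (a' k)) hk, hz, hz]
    simp only [FCompl13.fres_smul, map_pow, FCompl13.fres_fres, a', sec_res_res]
  choose m hm using hov
  let K := Finset.univ.sup fun q : ι × ι => m q.1 q.2
  obtain ⟨T, hT⟩ := Mod48.ClosedImm.glue M D hDU hcov (fun j => a' j ^ K • z j) (fun j k => by
    have hle : m j k ≤ K := Finset.le_sup (f := fun q : ι × ι => m q.1 q.2) (Finset.mem_univ (j, k))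
    have h1 := congrArg
      (res 𝔛 h𝔛.1 ((inf_le_left : D j ⊓ D k ≤ D j).trans (hDU j)) a ^ (K - m j k) • ·) (hm j k)
    simp only [smul_zero, smul_smul, ← pow_add, Nat.sub_add_cancel hle, smul_sub, sub_eq_zero] at h1
    change fres M inf_le_left (a' j ^ K • z j) = fres M inf_le_right (a' k ^ K • z k)
    simp only [fres_pow_smul, a', sec_res_res]
    exact h1)
  refine ⟨K + N, T, FCompl13.fs_ext M _ _ fun x hx => ?_⟩
  obtain ⟨j, hj⟩ := hcov x (secBasic_le a hx)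
  refine ⟨secBasic (a' j), hB j, (secBasic_res (hDU j) a).ge ⟨hj, hx⟩, ?_⟩
  rw [FCompl13.fres_fres, ← FCompl13.fres_fres M (hDU j) (secBasic_le (a' j)),
    show fres M (hDU j) T = a' j ^ K • z j from hT j, fres_pow_smul, hz, smul_smul, ← pow_add,
    FCompl13.fres_smul, map_pow]
  simp only [a', sec_res_res]

section Push

variable {𝔜 : FSch.Sys.{u}} (h𝔜 : 𝔜.IsLocNoethFormal) (f : 𝔛 ⟶ 𝔜)

/-- The map of the common spaces. -/
abbrev f₀ : 𝔛.X 0 ⟶ 𝔜.X 0 := (f : FSch.Hom 𝔛 𝔜).app 0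

/-- The map of sections. -/
abbrev shf (W : (𝔜.X 0).Opens) : Sec 𝔜 h𝔜.1 W →+* Sec 𝔛 h𝔛.1 (f₀ f ⁻¹ᵁ W) :=
  ((FSch.Hom.sharp f h𝔛.1 h𝔜.1).hom.app (op W)).hom

/-- The direct image. -/
abbrev fM : FSch.ModF 𝔜 h𝔜.1 := (FSch.pushF f h𝔛.1 h𝔜.1).obj M

/-- Sections of the direct image as sections upstairs. -/
def toUp {W : (𝔜.X 0).Opens} (x : FS (fM h𝔛 h𝔜 f (M := M)) W) : FS M (f₀ f ⁻¹ᵁ W) := x

/-- Sections upstairs as sections of the direct image. -/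
def ofUp {W : (𝔜.X 0).Opens} (x : FS M (f₀ f ⁻¹ᵁ W)) : FS (fM h𝔛 h𝔜 f (M := M)) W := x

omit [NoetherianSpace (𝔛.X 0)] in
theorem toUp_fres {U W : (𝔜.X 0).Opens} (i : W ≤ U) (x : FS (fM h𝔛 h𝔜 f (M := M)) U) :
    toUp h𝔛 h𝔜 f (fres _ i x) = fres M (Scheme.Hom.preimage_mono _ i) (toUp h𝔛 h𝔜 f x) := rfl

omit [NoetherianSpace (𝔛.X 0)] in
theorem toUp_smul {W : (𝔜.X 0).Opens} (a : Sec 𝔜 h𝔜.1 W) (x : FS (fM h𝔛 h𝔜 f (M := M)) W) :
    toUp h𝔛 h𝔜 f (a • x) = shf h𝔛 h𝔜 f W a • toUp h𝔛 h𝔜 f x := rfl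

omit [NoetherianSpace (𝔛.X 0)] in
theorem shf_res {U W : (𝔜.X 0).Opens} (i : W ≤ U) (a : Sec 𝔜 h𝔜.1 U) :
    shf h𝔛 h𝔜 f W (res 𝔜 h𝔜.1 i a) = res 𝔛 h𝔛.1 (Scheme.Hom.preimage_mono _ i) (shf h𝔛 h𝔜 f U a) :=
  congr($((FSch.Hom.sharp f h𝔛.1 h𝔜.1).hom.naturality (homOfLE i).op) a)

omit [NoetherianSpace (𝔛.X 0)] in
theorem proj_shf {W : (𝔜.X 0).Opens} (n : ℕ) (a : Sec 𝔜 h𝔜.1 W) :
    proj 𝔛 h𝔛.1 (f₀ f ⁻¹ᵁ W) n (shf h𝔛 h𝔜 f W a) =
      ((f : FSch.Hom 𝔛 𝔜).app n).appLE (𝔜.lvU h𝔜.1 n W) (𝔛.lvU h𝔛.1 n (f₀ f ⁻¹ᵁ W))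
        (FSch.Hom.lvU_preimage f h𝔛.1 h𝔜.1 n W).ge (proj 𝔜 h𝔜.1 W n a) :=
  congr($(FBlow13.sharp_proj_app (hY := h𝔛.1) (h := h𝔜.1) f W n) a)

omit [NoetherianSpace (𝔛.X 0)] in
theorem secBasic_shf {W : (𝔜.X 0).Opens} (a : Sec 𝔜 h𝔜.1 W) :
    secBasic (shf h𝔛 h𝔜 f W a) = f₀ f ⁻¹ᵁ secBasic a := by
  rw [secBasic_eq, proj_shf]
  refine (Scheme.basicOpen_appLE _ _ _ _ _).trans (inf_eq_right.2 ?_)
  exact (Scheme.Hom.preimage_mono _ (((𝔜.X 0).basicOpen_le _).trans (lvU_zero (h := h𝔜.1) W).le)).trans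
    (lvU_zero (h := h𝔛.1) _).ge

omit [NoetherianSpace (𝔛.X 0)] in
theorem killed_push {n : ℕ} {W : (𝔜.X 0).Opens} {x : FS (fM h𝔛 h𝔜 f (M := M)) W}
    (hx : Killed n (toUp h𝔛 h𝔜 f x)) : Killed n x := by
  intro W' g a ha
  have h1 := hx.fres (Scheme.Hom.preimage_mono (f₀ f) (leOfHom g))
  refine h1.smul_eq (a := shf h𝔛 h𝔜 f W' a) ?_
  rw [proj_shf]
  exact (congrArg _ (RingHom.mem_ker.1 ha)).trans (map_zero _)

include hM in
theorem isTorsF_push : FTors.IsTorsF 𝔜 h𝔜.1 (fM h𝔛 h𝔜 f (M := M)) := fun W s => by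
  obtain ⟨n, hn⟩ := exists_killed (NoetherianSpace.isCompact ((f₀ f ⁻¹ᵁ W : (𝔛.X 0).Opens) : Set (𝔛.X 0)))
    (hM.1 _ (toUp h𝔛 h𝔜 f s))
  exact FTors.IsTorsSect.of_killedBy (killed_push h𝔛 h𝔜 f hn)

include hM in
theorem tLoc_push (W : (𝔜.X 0).Opens) : TLoc (fM h𝔛 h𝔜 f (M := M)) W where
  exists_of a s := by
    have e := secBasic_shf h𝔛 h𝔜 f a
    obtain ⟨m, t, ht⟩ := exists_of_open h𝔛 hM (shf h𝔛 h𝔜 f W a) (fres M e.le (toUp h𝔛 h𝔜 f s))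
    refine ⟨m, ofUp h𝔛 h𝔜 f t, ?_⟩
    have h1 := congrArg (fres M e.ge) ht
    rw [FCompl13.fres_fres, FCompl13.fres_smul, map_pow, sec_res_res, FCompl13.fres_fres,
      FCompl13.fres_self] at h1
    change toUp h𝔛 h𝔜 f (fres _ _ (ofUp h𝔛 h𝔜 f t)) = toUp h𝔛 h𝔜 f (_ • s)
    rw [toUp_fres, toUp_smul, map_pow, shf_res h𝔛 h𝔜 f]
    exact h1
  eq_zero_of a t ht := by
    have e := secBasic_shf h𝔛 h𝔜 f a
    obtain ⟨m, hm⟩ := eq_zero_of_open h𝔛 hM (shf h𝔛 h𝔜 f W a) (toUp h𝔛 h𝔜 f t) (by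
      have h1 : toUp h𝔛 h𝔜 f (fres _ (secBasic_le a) t) = 0 := congrArg (toUp h𝔛 h𝔜 f) ht
      have h2 := congrArg (fres M e.le) h1
      rw [toUp_fres, FCompl13.fres_fres, FCompl13.fres_zero] at h2
      exact h2)
    exact ⟨m, (toUp_smul h𝔛 h𝔜 f _ t).trans ((map_pow (shf h𝔛 h𝔜 f W) a m).symm ▸ hm)⟩

include hM in
theorem isQCT_push : FTors.IsQCT 𝔜 h𝔜.1 (fM h𝔛 h𝔜 f (M := M)) :=
  isQCT_of_tLoc h𝔜 (isTorsF_push h𝔛 hM h𝔜 f) fun W _ => tLoc_push h𝔛 hM h𝔜 f W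

end Push

end Groth.Agent.FTors27
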