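import Groth.Agent.FTors27.TPush
import Groth.Agent.FTors27.TCoh
import Groth.Agent.FlatMor67.DescFree

/-!
Coherence of direct images of coherent torsion modules under pseudo-proper morphisms.
-/

set_option autoImplicit false
set_option backward.isDefEq.respectTransparency false
set_option backward.isDefEq.respectTransparency.types false
set_option linter.style.haveILetI false

noncomputable section

universe u

open CategoryTheory CategoryTheory.Limits AlgebraicGeometry TopologicalSpace Opposite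

namespace Groth.Agent.FTors27

open FCompl13 (FS fres secIdeal)
open FBlow13 (Sec res proj lvU_zero isAffineOpen_lvU)
open SiteMod (ap)

variable {𝔛 : FSch.Sys.{u}} (h𝔛 : 𝔛.IsLocNoethFormal)

theorem isCohF_of_finite {F : FSch.ModF 𝔛 h𝔛.1} (hF : FTors.IsQCT 𝔛 h𝔛.1 F)
    (hfin : ∀ V : (𝔛.X 0).Opens, IsAffineOpen V → Module.Finite (Sec 𝔛 h𝔛.1 V) (FS F V)) :
    FSch.IsCohF 𝔛 h𝔛.1 F := by
  classical
  refine FCompl13.isCohF_of_affine (h𝔛 := h𝔛) F fun x => ?_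
  obtain ⟨V, hV, hxV, -⟩ := exists_isAffineOpen_mem_and_subset (X := 𝔛.X 0) (x := x) (U := ⊤) trivial
  obtain ⟨⟨S, hS⟩⟩ := hfin V hV
  have hQ := qcAt_of_qct h𝔛 hF hV
  let q := {s // s ∈ S}
  let a : q → FS F V := fun s => s.1
  have hgen : SiteMod.GenAt (Mod48.pre F) V a := by
    intro W g y
    refine FCompl13.exists_sieve_of_near (fun U i => ∃ c : q → Sec 𝔛 h𝔛.1 U,
        fres F i y = ∑ s, c s • fres F (i.trans (leOfHom g)) (a s))
      (fun U i U' j ⟨c, hc⟩ => ⟨fun s => res 𝔛 h𝔛.1 j (c s), ?_⟩) fun z hz => ?_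
    · rw [← FCompl13.fres_fres F i j, hc, FCompl13.fres_sum]
      exact Finset.sum_congr rfl fun s _ => by rw [FCompl13.fres_smul, FCompl13.fres_fres]
    obtain ⟨U, i, hzU, hsp⟩ := hQ.2.1 W (leOfHom g) y z hz
    refine ⟨U, i, hzU, ?_⟩
    have hle : Submodule.span (Sec 𝔛 h𝔛.1 U) (Set.range fun b : FS F V => fres F (i.trans (leOfHom g)) b) ≤
        Submodule.span (Sec 𝔛 h𝔛.1 U) (Set.range fun s : q => fres F (i.trans (leOfHom g)) (a s)) := by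
      refine Submodule.span_le.2 ?_
      rintro _ ⟨b, rfl⟩
      obtain ⟨c, -, hc⟩ := Submodule.mem_span_finset.1 (hS.ge (Submodule.mem_top (x := b)))
      change fres F (i.trans (leOfHom g)) b ∈ _
      rw [← hc, fres_lincomb]
      exact Submodule.sum_mem _ fun s hs => Submodule.smul_mem _ _ (Submodule.subset_span ⟨⟨s, hs⟩, rfl⟩)
    obtain ⟨c, hc⟩ := (Submodule.mem_span_range_iff_exists_fun _).1 (hle hsp)
    exact ⟨c, hc.symm⟩
  exact ⟨V, hxV, FCompl13.nonempty_locPres_of_mono (h𝔛 := h𝔛) (𝟙 F) hQ.relFin hgen⟩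

theorem exists_killed_all [CompactSpace (𝔛.X 0)] {M : FSch.ModF 𝔛 h𝔛.1} (hM : FTors.IsQCT 𝔛 h𝔛.1 M)
    (hc : FSch.IsCohF 𝔛 h𝔛.1 M) : ∃ n, ∀ (W : (𝔛.X 0).Opens) (x : FS M W), Killed n x := by
  classical
  haveI := h𝔛.2.2 0
  haveI : IsNoetherian (𝔛.X 0) := {}
  obtain ⟨ι, _, D, hD, -, hcov⟩ := exists_affine_finset (𝔛 := 𝔛) ⊤
  have h1 : ∀ j, ∃ n, ∀ x : FS M (D j), Killed n x := fun j => by
    obtain ⟨⟨S, hS⟩⟩ := FCompl13.module_finite_coh (h𝔛 := h𝔛) hc (hD j)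
    obtain ⟨n, hn⟩ := exists_killed_finite (hD j).isCompact (fun s : S => (s : FS M (D j))) fun s => hM.1 _ _
    refine ⟨n, fun x => ?_⟩
    refine Submodule.span_induction (p := fun x _ => Killed n x) (fun s hs => hn ⟨s, hs⟩)
      (FTors.KilledBy.zero _ _ n _) (fun _ _ _ _ a b => a.add b) (fun c _ _ a => a.smul c)
      (hS.ge (Submodule.mem_top (x := x)))
  choose n hn using h1
  refine ⟨Finset.univ.sup n, fun W x => killed_of_locally fun z hz => ?_⟩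
  obtain ⟨j, hj⟩ := hcov z trivial
  obtain ⟨U, i, hzU, hsp⟩ := (qcAt_of_qct h𝔛 hM (hD j)).2.1 (W ⊓ D j) inf_le_right
    (fres M inf_le_left x) z ⟨hz, hj⟩
  refine ⟨U, i.trans inf_le_left, hzU, ?_⟩
  rw [FCompl13.fres_fres] at hsp
  refine Submodule.span_induction (p := fun x _ => Killed (Finset.univ.sup n) x) ?_
    (FTors.KilledBy.zero _ _ _ _) (fun _ _ _ _ a b => a.add b) (fun c _ _ a => a.smul c) hsp
  rintro _ ⟨b, rfl⟩
  exact Killed.fres ((hn j b).mono (Finset.le_sup (Finset.mem_univ j))) _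

variable {𝔜 : FSch.Sys.{u}} (h𝔜 : 𝔜.IsLocNoethFormal) (f : 𝔛 ⟶ 𝔜) [IsProper (f₀ f)]

theorem finite_push_zero {M : FSch.ModF 𝔛 h𝔛.1} (hM : FTors.IsQCT 𝔛 h𝔛.1 M) (hc : FSch.IsCohF 𝔛 h𝔛.1 M)
    (hk : ∀ (W : (𝔛.X 0).Opens) (x : FS M W), Killed 0 x) {V : (𝔜.X 0).Opens} (hV : IsAffineOpen V) :
    Module.Finite (Sec 𝔜 h𝔜.1 V) (FS (fM h𝔛 h𝔜 f (M := M)) V) := by
  classical
  obtain ⟨P, ⟨e⟩⟩ := exists_level h𝔛 0 M hk
  haveI := h𝔛.2.2 0
  haveI := h𝔜.2.2 0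
  haveI : P.IsQuasicoherent := isQuasicoherent_level h𝔛 e fun p => by
    obtain ⟨U, hU, hpU, -⟩ := exists_isAffineOpen_mem_and_subset (X := 𝔛.X 0) (x := p) (U := ⊤) trivial
    exact ⟨U, hpU, hU, tLoc_of_qct h𝔛 hM hU⟩
  haveI hft : P.IsFiniteType := by
    refine QC70.isFiniteType_of_finite_sections P (fun A : (𝔛.X 0).affineOpens => 𝔛.lvU h𝔛.1 0 A.1) ?_
      (fun A => isAffineOpen_lvU (h := h𝔛.1) A.2 0) fun A => ?_
    · refine IsOpenCover.mk (top_le_iff.1 fun z _ => ?_)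
      obtain ⟨U, hU, hzU, -⟩ := exists_isAffineOpen_mem_and_subset (X := 𝔛.X 0) (x := z) (U := ⊤) trivial
      exact Opens.mem_iSup.2 ⟨⟨U, hU⟩, (lvU_zero (h := h𝔛.1) U).ge hzU⟩
    obtain ⟨⟨S, hS⟩⟩ := FCompl13.module_finite_coh (h𝔛 := h𝔛) hc A.2
    refine ⟨⟨S.image (evInv e), eq_top_iff.2 fun x _ => ?_⟩⟩
    obtain ⟨c, -, hcx⟩ := Submodule.mem_span_finset.1 (hS.ge (Submodule.mem_top (x := ev e x)))
    have h1 : x = ∑ s ∈ S, proj 𝔛 h𝔛.1 A.1 0 (c s) • evInv e s := by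
      refine ev_injective e (Eq.trans ?_ (map_sum (evHom h𝔛 e A.1) _ _).symm)
      rw [← hcx]
      refine Finset.sum_congr rfl fun s _ => ?_
      change c s • s = ev e (proj 𝔛 h𝔛.1 A.1 0 (c s) • evInv e s)
      rw [ev_smul, ev_evInv]
    rw [h1]
    exact Submodule.sum_mem _ fun s hs => Submodule.smul_mem _ _
      (Submodule.subset_span (Finset.mem_coe.2 (Finset.mem_image_of_mem _ hs)))
  have hP : Coh.IsCoh ((Scheme.Modules.pushforward (f₀ f)).obj P) :=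
    FlatMor67.DescFree.isCoh_pushforward (f₀ f) (M := P) ⟨inferInstance, hft⟩
  haveI := hP.1
  haveI := hP.2
  let G := (Scheme.Modules.pushforward (f₀ f)).obj P
  obtain ⟨⟨S, hS⟩⟩ := QC70.finite_sections_of_isFiniteType G (isAffineOpen_lvU (h := h𝔜.1) hV 0)
  have eU : f₀ f ⁻¹ᵁ 𝔜.lvU h𝔜.1 0 V = 𝔛.lvU h𝔛.1 0 (f₀ f ⁻¹ᵁ V) := FSch.Hom.lvU_preimage f h𝔛.1 h𝔜.1 0 V
  let φ : Γ(G, 𝔜.lvU h𝔜.1 0 V) →+ FS (fM h𝔛 h𝔜 f (M := M)) V :=
    { toFun := fun x => ofUp h𝔛 h𝔜 f (ev e (QC70.res P eU.ge x))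
      map_zero' := (congrArg (fun t => ofUp h𝔛 h𝔜 f (ev e t)) (QC70.res_zero (M := P) eU.ge)).trans
        (ev_zero e)
      map_add' := fun x y => (congrArg (fun t => ofUp h𝔛 h𝔜 f (ev e t)) (QC70.res_add (M := P) eU.ge x y)).trans
        (map_add (evHom h𝔛 e _) _ _) }
  have hφsurj : Function.Surjective φ := fun y => by
    refine ⟨QC70.res P eU.le (evInv e (toUp h𝔛 h𝔜 f y)), ?_⟩
    change ofUp h𝔛 h𝔜 f (ev e _) = y
    rw [QC70.res_res, QC70.res_self, ev_evInv]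
    rfl
  have hφsmul : ∀ (a : Sec 𝔜 h𝔜.1 V) (x : Γ(G, 𝔜.lvU h𝔜.1 0 V)),
      φ (proj 𝔜 h𝔜.1 V 0 a • x) = a • φ x := by
    intro a x
    change ev e (QC70.res P eU.ge _) = shf h𝔛 h𝔜 f V a • ev e (QC70.res P eU.ge x)
    rw [← ev_smul, proj_shf]
    refine congrArg (ev e) ((congrArg (QC70.res P eU.ge) (QCqs72.pushforward_smul _ _ _ _)).trans ?_)
    refine (QC70.res_smul (M := P) eU.ge _ _).trans ?_
    rfl
  refine ⟨⟨S.image φ, eq_top_iff.2 fun y _ => ?_⟩⟩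
  obtain ⟨x, rfl⟩ := hφsurj y
  obtain ⟨c, -, rfl⟩ := Submodule.mem_span_finset.1 (hS.ge (Submodule.mem_top (x := x)))
  choose b hb using fun s => ((FCompl13.secRing h𝔜 hV).2.2 0).1 (c s)
  rw [map_sum]
  refine Submodule.sum_mem _ fun s hs => ?_
  rw [← hb s, hφsmul]
  exact Submodule.smul_mem _ _ (Submodule.subset_span (Finset.mem_coe.2 (Finset.mem_image_of_mem _ hs)))

theorem finite_push : ∀ (n : ℕ) (M : FSch.ModF 𝔛 h𝔛.1), FTors.IsQCT 𝔛 h𝔛.1 M → FSch.IsCohF 𝔛 h𝔛.1 M →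
    (∀ (W : (𝔛.X 0).Opens) (x : FS M W), Killed n x) → ∀ {V : (𝔜.X 0).Opens}, IsAffineOpen V →
    Module.Finite (Sec 𝔜 h𝔜.1 V) (FS (fM h𝔛 h𝔜 f (M := M)) V) := by
  intro n
  induction n with
  | zero => exact fun M hM hc hk V hV => finite_push_zero h𝔛 h𝔜 f hM hc hk hV
  | succ n ih =>
    intro M hM hc hk V hV
    haveI : SheafOfModules.IsQuasicoherent.{u} M := hM.2
    have hK := isQCT_kN h𝔛 hM n
    haveI : SheafOfModules.IsQuasicoherent.{u} (kN n M : FSch.ModF 𝔛 h𝔛.1) := hK.2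
    haveI : SheafOfModules.IsFiniteType.{u} (kN n M : FSch.ModF 𝔛 h𝔛.1) :=
      FCompl13.isFiniteType_of_mono_coh (h𝔛 := h𝔛) hc (kι n M)
    have hKc : FSch.IsCohF 𝔛 h𝔛.1 (kN n M) := FCompl13.isCohF_of_qc_ft (h𝔛 := h𝔛)
    let S : ShortComplex (FSch.ModF 𝔛 h𝔛.1) :=
      ShortComplex.mk (kι n M) (cokernel.π (kι n M)) (cokernel.condition _)
    have hS : S.Exact := ShortComplex.exact_cokernel _
    let Q := cokernel (kι n M)
    haveI : SheafOfModules.IsQuasicoherent.{u} Q := (FCompl13.qc_ker_im_coker (h𝔛 := h𝔛) (kι n M)).2.2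
    have hQ : FTors.IsQCT 𝔛 h𝔛.1 Q :=
      ⟨(FTors.IsTors (FTors.openIdealFam 𝔛 h𝔛.1)).prop_of_epi (cokernel.π (kι n M)) hM.1, inferInstance⟩
    haveI : SheafOfModules.IsFiniteType.{u} M := FCompl13.isFiniteType_of_coh (h𝔛 := h𝔛) hc
    haveI : SheafOfModules.IsFiniteType.{u} Q := FCompl13.isFiniteType_of_epi' (cokernel.π (kι n M))
    have hQc : FSch.IsCohF 𝔛 h𝔛.1 Q := FCompl13.isCohF_of_qc_ft (h𝔛 := h𝔛)
    have hQk : ∀ (W : (𝔛.X 0).Opens) (q : FS Q W), Killed 0 q := fun W q => killed_of_locally fun z hz => by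
      obtain ⟨W₁, hW₁, hzW₁, y, hy⟩ := locSurj_at (cokernel.π (kι n M)) q hz
      obtain ⟨A, hA, hzA, hAW⟩ := exists_isAffineOpen_mem_and_subset hzW₁
      refine ⟨A, le_trans hAW hW₁, hzA, killed_of_affine h𝔛 hA fun b hb => ?_⟩
      have hq : ap (cokernel.π (kι n M)) (fres M hAW y) = fres Q (le_trans hAW hW₁) q := by
        rw [← FCompl13.fres_ap]
        exact (congrArg (fres Q hAW) hy).trans (FCompl13.fres_fres Q hW₁ hAW q)
      have hby : Killed n (b • fres M hAW y) := killed_of_affine h𝔛 hA fun c hc => by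
        rw [← mul_smul]
        refine ((hk _ y).fres hAW).smul_eq ((mem_ker_proj_iff h𝔛 hA (n + 1) _).2 ?_)
        rw [pow_succ (n := n + 1)]
        exact Ideal.mul_mem_mul hc (by simpa using hb)
      obtain ⟨w, hw⟩ := exists_ap_kι hby
      rw [← hq, ← ap_smul' h𝔛, ← hw]
      exact (SiteMod.ap_comp _ _ _).symm.trans
        ((congrArg (fun ψ => ap ψ w) (cokernel.condition (kι n M))).trans rfl)
    obtain ⟨hN, -, -⟩ := FCompl13.secRing h𝔜 hV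
    haveI := hN
    haveI h1 := ih (kN n M) hK hKc (fun _ x => killed_kN x) hV
    haveI h2 := finite_push_zero h𝔛 h𝔜 f hQ hQc hQk hV
    let j := FCompl13.apLin ((FSch.pushF f h𝔛.1 h𝔜.1).map (kι n M)) V
    let π := FCompl13.apLin ((FSch.pushF f h𝔛.1 h𝔜.1).map (cokernel.π (kι n M))) V
    haveI : IsNoetherian (Sec 𝔜 h𝔜.1 V) (FS (fM h𝔛 h𝔜 f (M := Q)) V) :=
      isNoetherian_of_isNoetherianRing_of_finite _ _
    refine ⟨Submodule.fg_of_fg_map_of_fg_inf_ker π (IsNoetherian.noetherian _) ?_⟩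
    have hker : LinearMap.ker π = LinearMap.range j := by
      refine le_antisymm (fun x hx => ?_) ?_
      · obtain ⟨w, hw⟩ := SiteMod.exists_preimage_of_ap_eq_zero hS
          (x := toUp h𝔛 h𝔜 f (M := M) (W := V) x) hx
        exact ⟨ofUp h𝔛 h𝔜 f w, hw⟩
      · rintro _ ⟨w, rfl⟩
        exact (SiteMod.ap_comp (kι n M) (cokernel.π (kι n M)) (toUp h𝔛 h𝔜 f w)).symm.trans
          ((congrArg (fun ψ => ap ψ (toUp h𝔛 h𝔜 f w)) (cokernel.condition (kι n M))).trans rfl)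
    rw [top_inf_eq, hker, LinearMap.range_eq_map]
    exact h1.fg_top.map _

variable [CompactSpace (𝔛.X 0)]

theorem isCohF_push {M : FSch.ModF 𝔛 h𝔛.1} (hM : FTors.IsQCT 𝔛 h𝔛.1 M) (hc : FSch.IsCohF 𝔛 h𝔛.1 M) :
    FSch.IsCohF 𝔜 h𝔜.1 (fM h𝔛 h𝔜 f (M := M)) := by
  haveI := h𝔛.2.2 0
  haveI : IsNoetherian (𝔛.X 0) := {}
  obtain ⟨n, hn⟩ := exists_killed_all h𝔛 hM hc
  exact isCohF_of_finite h𝔜 (isQCT_push h𝔛 hM h𝔜 f) fun V hV => finite_push h𝔛 h𝔜 f n M hM hc hn hV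

end Groth.Agent.FTors27
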